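import Mathlib.RingTheory.GradedAlgebra.Homogeneous.Ideal
import Mathlib.RingTheory.Ideal.Operations
import Mathlib.RingTheory.Ideal.Maximal

/-!
# Homogeneous prime avoidance for `ℤ`-graded rings
-/

set_option autoImplicit false

namespace K961.Avoid

variable {R : Type*} [CommRing R] {σ : Type*} [SetLike σ R] [AddSubgroupClass σ R]
  (𝒜 : ℤ → σ) [GradedRing 𝒜]

theorem pow_mem {n : ℤ} {x : R} (hx : x ∈ 𝒜 n) (a : ℕ) : x ^ a ∈ 𝒜 (a * n) := by
  have := SetLike.pow_mem_graded a hx
  simpa using this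

theorem prod_mem {ι : Type*} (s : Finset ι) (y : ι → R) (d : ι → ℤ) (h : ∀ i ∈ s, y i ∈ 𝒜 (d i)) :
    ∏ i ∈ s, y i ∈ 𝒜 (∑ i ∈ s, d i) := by
  classical
  induction s using Finset.induction_on with
  | empty => simpa using SetLike.one_mem_graded 𝒜
  | insert a s ha ih =>
    rw [Finset.prod_insert ha, Finset.sum_insert ha]
    exact SetLike.mul_mem_graded (h a (Finset.mem_insert_self _ _))
      (ih fun i hi => h i (Finset.mem_insert_of_mem hi))

/-- Homogeneous prime avoidance: if each of finitely many primes misses some homogeneous element of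
positive degree, then some homogeneous element of positive degree is in none of them. -/
theorem exists_homogeneous_avoid (n : ℕ) : ∀ (S : Finset (Ideal R)), S.card = n →
    (∀ p ∈ S, p.IsPrime) → (∀ p ∈ S, ∃ d : ℤ, 0 < d ∧ ∃ x ∈ 𝒜 d, x ∉ p) →
    ∃ d : ℤ, 0 < d ∧ ∃ x ∈ 𝒜 d, ∀ p ∈ S, x ∉ p := by
  classical
  induction n with
  | zero =>
    intro S hS _ _
    rw [Finset.card_eq_zero] at hS
    subst hS
    exact ⟨1, one_pos, 0, zero_mem _, by simp⟩
  | succ n ih =>
    intro S hS hprime hmiss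
    by_cases hred : ∃ p ∈ S, ∃ q ∈ S, p ≠ q ∧ ∀ d : ℤ, 0 < d → ∀ x ∈ 𝒜 d, x ∈ p → x ∈ q
    · obtain ⟨p, hp, q, hq, hpq, h⟩ := hred
      obtain ⟨d, hd, x, hx, hxS⟩ := ih (S.erase p) (by rw [Finset.card_erase_of_mem hp, hS]; rfl)
        (fun p' hp' => hprime p' (Finset.mem_of_mem_erase hp'))
        (fun p' hp' => hmiss p' (Finset.mem_of_mem_erase hp'))
      refine ⟨d, hd, x, hx, fun p' hp' hxp' => ?_⟩
      by_cases hpp : p' = p
      · subst hpp
        exact hxS q (Finset.mem_erase.mpr ⟨hpq.symm, hq⟩) (h d hd x hx hxp')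
      · exact hxS p' (Finset.mem_erase.mpr ⟨hpp, hp'⟩) hxp'
    · push Not at hred
      obtain ⟨q, hq⟩ : S.Nonempty := by
        rw [← Finset.card_pos, hS]; exact Nat.succ_pos n
      obtain ⟨d, hd, x, hx, hxS⟩ := ih (S.erase q) (by rw [Finset.card_erase_of_mem hq, hS]; rfl)
        (fun p' hp' => hprime p' (Finset.mem_of_mem_erase hp'))
        (fun p' hp' => hmiss p' (Finset.mem_of_mem_erase hp'))
      by_cases hxq : x ∈ q
      · -- element in all the other primes, not in `q`
        have key : ∀ p : Ideal R, ∃ (e : ℤ) (y : R), 0 < e ∧ y ∈ 𝒜 e ∧ (p ∈ S.erase q → y ∈ p) ∧ y ∉ q := by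
          intro p
          by_cases hp : p ∈ S.erase q
          · obtain ⟨e, he, y, hy, hyp, hyq⟩ := hred p (Finset.mem_of_mem_erase hp) q hq
              (Finset.mem_erase.mp hp).1
            exact ⟨e, y, he, hy, fun _ => hyp, hyq⟩
          · obtain ⟨e, he, y, hy, hyq⟩ := hmiss q hq
            exact ⟨e, y, he, hy, fun h => absurd h hp, hyq⟩
        choose e y he hy hyp hyq using key
        obtain ⟨e0, he0, y0, hy0, hyq0⟩ := hmiss q hq
        set z := y0 * ∏ p ∈ S.erase q, y p with hz
        set f : ℤ := e0 + ∑ p ∈ S.erase q, e p with hf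
        have hzf : z ∈ 𝒜 f := SetLike.mul_mem_graded hy0 (prod_mem 𝒜 _ _ _ fun p _ => hy p)
        have hfpos : 0 < f := by
          have : 0 ≤ ∑ p ∈ S.erase q, e p := Finset.sum_nonneg fun p _ => (he p).le
          omega
        have hqp := hprime q hq
        have hzq : z ∉ q := by
          intro h
          rcases hqp.mem_or_mem h with h | h
          · exact hyq0 h
          · obtain ⟨p, -, hp⟩ := (Ideal.IsPrime.prod_mem_iff (p := q)).mp h
            exact hyq p hp
        have hzp : ∀ p ∈ S.erase q, z ∈ p := fun p hp =>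
          Ideal.mul_mem_left _ _ (Ideal.mem_of_dvd p (Finset.dvd_prod_of_mem _ hp) (hyp p hp))
        obtain ⟨a, ha⟩ := Int.eq_ofNat_of_zero_le hd.le
        obtain ⟨b, hb⟩ := Int.eq_ofNat_of_zero_le hfpos.le
        have ha0 : 0 < a := by omega
        have hb0 : 0 < b := by omega
        refine ⟨b * d, mul_pos (by omega) hd, x ^ b + z ^ a, ?_, ?_⟩
        · refine add_mem (pow_mem 𝒜 hx b) ?_
          have := pow_mem 𝒜 hzf a
          rwa [show (b : ℤ) * d = a * f by rw [ha, hb]; simp [mul_comm]]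
        · intro p hp h
          have hpp := hprime p hp
          by_cases hpq : p = q
          · subst hpq
            have h1 : x ^ b ∈ p := Ideal.pow_mem_of_mem p hxq b hb0
            have h2 : z ^ a ∈ p := (Ideal.add_mem_iff_right p h1).mp h
            exact hzq (hpp.mem_of_pow_mem _ h2)
          · have hpe : p ∈ S.erase q := Finset.mem_erase.mpr ⟨hpq, hp⟩
            have h1 : z ^ a ∈ p := Ideal.pow_mem_of_mem p (hzp p hpe) a ha0
            have h2 : x ^ b ∈ p := (Ideal.add_mem_iff_left p h1).mp h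
            exact hxS p hpe (hpp.mem_of_pow_mem _ h2)
      · refine ⟨d, hd, x, hx, fun p hp => ?_⟩
        by_cases hpq : p = q
        · rwa [hpq]
        · exact hxS p (Finset.mem_erase.mpr ⟨hpq, hp⟩)

end K961.Avoid
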