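import Groth.Agent.GrSegre.K961.SegDim
import Mathlib.RingTheory.Flat.Basic
import Mathlib.RingTheory.Localization.FractionRing

/-!
# Dimension of Segre products: the lower bound
-/

set_option autoImplicit false
set_option linter.unusedSectionVars false
set_option linter.style.haveILetI false

open K961.Irr K962.Basic K962.Pieces K961.SegDim DirectSum
open scoped TensorProduct

namespace K961.SegDim2

universe u

section Indep

variable (k : Type u) [Field k] (r s : ℕ)

/-- the elements `X_i ⊗ Y_0` and `X_0 ⊗ Y_j`. -/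
noncomputable def uu (l : Fin (r + s + 1)) :
    MvPolynomial (Fin (r + 1)) k ⊗[k] MvPolynomial (Fin (s + 1)) k :=
  if h : (l : ℕ) < r + 1 then MvPolynomial.X ⟨l, h⟩ ⊗ₜ MvPolynomial.X 0
  else MvPolynomial.X 0 ⊗ₜ MvPolynomial.X ⟨l - r, by omega⟩

theorem uu_indep (F : MvPolynomial (Fin (r + s + 1)) k)
    (hF : MvPolynomial.aeval (uu k r s) F = 0) : F = 0 := by
  let K := FractionRing (MvPolynomial (Fin (r + s + 1)) k)
  let W : Fin (r + s + 1) → K := fun l => algebraMap (MvPolynomial (Fin (r + s + 1)) k) K (MvPolynomial.X l)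
  have hW0 : W 0 ≠ 0 := by
    intro h
    have := (IsFractionRing.injective (MvPolynomial (Fin (r + s + 1)) k) K) (h.trans (map_zero _).symm)
    exact MvPolynomial.X_ne_zero _ this
  let α : MvPolynomial (Fin (r + 1)) k →ₐ[k] K :=
    MvPolynomial.aeval fun i => W ⟨i, by omega⟩ / W 0
  let β : MvPolynomial (Fin (s + 1)) k →ₐ[k] K :=
    MvPolynomial.aeval fun j => if (j : ℕ) = 0 then W 0 else W ⟨r + j, by omega⟩
  let γ : MvPolynomial (Fin (r + 1)) k ⊗[k] MvPolynomial (Fin (s + 1)) k →ₐ[k] K :=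
    Algebra.TensorProduct.productMap α β
  have hγ : ∀ l, γ (uu k r s l) = W l := by
    intro l
    rw [uu]
    split_ifs with h
    · rw [Algebra.TensorProduct.productMap_apply_tmul]
      simp only [α, β, MvPolynomial.aeval_X]
      rw [if_pos (by simp), div_mul_cancel₀ _ hW0]
    · rw [Algebra.TensorProduct.productMap_apply_tmul]
      simp only [α, β, MvPolynomial.aeval_X]
      rw [if_neg (by omega)]
      have h1 : (⟨((0 : Fin (r + 1)) : ℕ), by omega⟩ : Fin (r + s + 1)) = 0 := by ext; simp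
      rw [h1, div_self hW0, one_mul]
      congr 1
      ext
      simp only
      omega
  have h1 : γ (MvPolynomial.aeval (uu k r s) F) = algebraMap (MvPolynomial (Fin (r + s + 1)) k) K F := by
    have h2 : γ.comp (MvPolynomial.aeval (uu k r s)) =
        IsScalarTower.toAlgHom k (MvPolynomial (Fin (r + s + 1)) k) K := by
      refine MvPolynomial.algHom_ext fun l => ?_
      rw [AlgHom.comp_apply, MvPolynomial.aeval_X, hγ]
      rfl
    exact DFunLike.congr_fun h2 F
  rw [hF, map_zero] at h1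
  exact (IsFractionRing.injective (MvPolynomial (Fin (r + s + 1)) k) K) (h1.symm.trans (map_zero _).symm)

end Indep

section Segre

variable {k : Type u} [Field k] {R S T : Type u} [CommRing R] [Algebra k R] [CommRing S] [Algebra k S]
  [CommRing T] [Algebra k T]
  {𝒜 : ℤ → Submodule k R} [GradedAlgebra 𝒜] {ℬ : ℤ → Submodule k S} [GradedAlgebra ℬ]
  {𝒯 : ℤ → Submodule k T} [GradedAlgebra 𝒯] {ψ : T →ₐ[k] R ⊗[k] S}
  {M N P : Type u} [AddCommGroup M] [Module R M] [Module k M] [IsScalarTower k R M]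
  [AddCommGroup N] [Module S N] [Module k N] [IsScalarTower k S N]
  [AddCommGroup P] [Module T P] [Module k P] [IsScalarTower k T P]
  {ℳ : ℤ → Submodule k M} [DirectSum.Decomposition ℳ] [SetLike.GradedSMul 𝒜 ℳ]
  {𝒩 : ℤ → Submodule k N} [DirectSum.Decomposition 𝒩] [SetLike.GradedSMul ℬ 𝒩]
  {𝒬 : ℤ → Submodule k P} [DirectSum.Decomposition 𝒬]
  {φ : P →ₗ[k] M ⊗[k] N} {r s : ℕ}

/-- the elements `x_i # y_0`, `x_0 # y_j` of `T`. -/
noncomputable def ww (hT : GrSeg.IsSegreRing 𝒜 ℬ 𝒯 ψ) {D : ℤ} {x : Fin (r + 1) → R}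
    (hx : ∀ i, x i ∈ 𝒜 D) {y : Fin (s + 1) → S} (hy : ∀ i, y i ∈ ℬ D) (l : Fin (r + s + 1)) : T :=
  if h : (l : ℕ) < r + 1 then tt hT (hx ⟨l, h⟩) (hy 0)
  else tt hT (hx 0) (hy ⟨l - r, by omega⟩)

theorem ww_free (hT : GrSeg.IsSegreRing 𝒜 ℬ 𝒯 ψ) (hP : GrSeg.IsSegreMod ψ ℳ 𝒩 𝒬 φ)
    {D : ℤ} {x : Fin (r + 1) → R}
    (hx : ∀ i, x i ∈ 𝒜 D) {y : Fin (s + 1) → S} (hy : ∀ i, y i ∈ ℬ D)
    {m : M} (hm : ∀ F : MvPolynomial (Fin (r + 1)) k, MvPolynomial.aeval x F • m = 0 → F = 0)
    {n : N} (hn : ∀ F : MvPolynomial (Fin (s + 1)) k, MvPolynomial.aeval y F • n = 0 → F = 0)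
    {p : P} (hp : φ p = m ⊗ₜ n) (F : MvPolynomial (Fin (r + s + 1)) k)
    (hF : MvPolynomial.aeval (ww hT hx hy) F • p = 0) : F = 0 := by
  let a : MvPolynomial (Fin (r + 1)) k →ₗ[k] M :=
    ((LinearMap.toSpanSingleton R M m).restrictScalars k) ∘ₗ (MvPolynomial.aeval x).toLinearMap
  let b : MvPolynomial (Fin (s + 1)) k →ₗ[k] N :=
    ((LinearMap.toSpanSingleton S N n).restrictScalars k) ∘ₗ (MvPolynomial.aeval y).toLinearMap
  have ha : ∀ f, a f = MvPolynomial.aeval x f • m := fun f => rfl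
  have hb : ∀ f, b f = MvPolynomial.aeval y f • n := fun f => rfl
  have hainj : Function.Injective a := (injective_iff_map_eq_zero a).mpr fun f hf => hm f hf
  have hbinj : Function.Injective b := (injective_iff_map_eq_zero b).mpr fun f hf => hn f hf
  have hinj : Function.Injective (TensorProduct.map a b) := by
    rw [← LinearMap.lTensor_comp_rTensor]
    exact (Module.Flat.lTensor_preserves_injective_linearMap b hbinj).comp
      (Module.Flat.rTensor_preserves_injective_linearMap a hainj)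
  let Φ : MvPolynomial (Fin (r + 1)) k ⊗[k] MvPolynomial (Fin (s + 1)) k →ₐ[k] R ⊗[k] S :=
    Algebra.TensorProduct.map (MvPolynomial.aeval x) (MvPolynomial.aeval y)
  have hΦ : ∀ c, TensorProduct.map a b c = GrSeg.act k R S M N (Φ c) (m ⊗ₜ n) := by
    intro c
    induction c using TensorProduct.induction_on with
    | zero => simp
    | add x y hx hy => rw [map_add, hx, hy, map_add, map_add, LinearMap.add_apply]
    | tmul f g =>
      rw [TensorProduct.map_tmul, ha, hb]
      simp only [Φ, Algebra.TensorProduct.map_tmul]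
      rw [GrSeg.act_tmul]
  have hu : ∀ l, Φ (uu k r s l) = ψ (ww hT hx hy l) := by
    intro l
    rw [uu, ww]
    split_ifs with h
    · rw [psi_tt]
      simp only [Φ, Algebra.TensorProduct.map_tmul, MvPolynomial.aeval_X]
    · rw [psi_tt]
      simp only [Φ, Algebra.TensorProduct.map_tmul, MvPolynomial.aeval_X]
  have h1 : Φ (MvPolynomial.aeval (uu k r s) F) = ψ (MvPolynomial.aeval (ww hT hx hy) F) := by
    have h2 : Φ.comp (MvPolynomial.aeval (uu k r s)) = ψ.comp (MvPolynomial.aeval (ww hT hx hy)) := by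
      refine MvPolynomial.algHom_ext fun l => ?_
      rw [AlgHom.comp_apply, MvPolynomial.aeval_X, hu, AlgHom.comp_apply, MvPolynomial.aeval_X]
    exact DFunLike.congr_fun h2 F
  apply uu_indep k r s F
  apply hinj
  rw [hΦ, h1, ← hp, ← hP.map_smul, hF, map_zero, map_zero]

theorem finiteType_of_finite_adjoin {ι : Type*} [Finite ι] (z : ι → T)
    [Module.Finite (Algebra.adjoin k (Set.range z)) T] : Algebra.FiniteType k T := by
  haveI : Algebra.FiniteType k (Algebra.adjoin k (Set.range z)) := by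
    rw [← Subalgebra.fg_iff_finiteType]
    have := Subalgebra.fg_adjoin_finset (R := k) (Set.finite_range z).toFinset
    rwa [Set.Finite.coe_toFinset] at this
  exact Algebra.FiniteType.trans (S := Algebra.adjoin k (Set.range z)) inferInstance inferInstance

omit [GradedAlgebra 𝒜] in
/-- finite type algebras over a field have finite dimension. -/
theorem exists_ringKrullDim_le (k : Type u) [Field k] (R : Type u) [CommRing R] [Algebra k R]
    [Algebra.FiniteType k R] : ∃ n : ℕ, ringKrullDim R ≤ (n : WithBot ℕ∞) := by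
  obtain ⟨n, f, hf⟩ := Algebra.FiniteType.iff_quotient_mvPolynomial''.mp
    (inferInstance : Algebra.FiniteType k R)
  refine ⟨n, (ringKrullDim_le_of_surjective f.toRingHom hf).trans ?_⟩
  rw [MvPolynomial.ringKrullDim_of_isNoetherianRing, ringKrullDim_eq_zero_of_field, zero_add]
  simp

/-- homogeneous parameters of one degree for a finite graded module. -/
theorem exists_params (𝒜 : ℤ → Submodule k R) [GradedAlgebra 𝒜] [IsNoetherianRing R]
    [Module.Finite R M] (ℳ : ℤ → Submodule k M) [DirectSum.Decomposition ℳ]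
    [SetLike.GradedSMul 𝒜 ℳ]
    (hposR : ∀ n : ℤ, n < 0 → 𝒜 n = ⊥) (h0R : 𝒜 0 = Submodule.span k {(1 : R)}) (n : ℕ)
    (hd : Module.supportDim R M ≤ (n : WithBot ℕ∞)) :
    ∃ D₀ : ℕ, 0 < D₀ ∧ ∀ q : ℕ, 0 < q → ∃ x : Fin n → R, (∀ i, x i ∈ 𝒜 ((q * D₀ : ℕ) : ℤ)) ∧
        irr 𝒜 ≤ (Module.annihilator R M ⊔ Ideal.span (Set.range x)).radical := by
  rw [Module.supportDim_eq_ringKrullDim_quotient_annihilator] at hd
  refine Hsop.exists_hsop_deg hposR h0R n (Module.annihilator R M) ?_ hd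
  intro i a ha
  rw [Module.mem_annihilator] at ha ⊢
  intro m
  obtain ⟨t, ht, -⟩ := exists_finset_sum_pr ℳ m
  rw [ht, Finset.smul_sum]
  refine Finset.sum_eq_zero fun j _ => ?_
  have h1 := FinDim.pr_smul_of_mem 𝒜 ℳ (pr_mem ℳ j m) a (i + j)
  rw [ha, map_zero, add_sub_cancel_right] at h1
  exact h1.symm

/-- The Segre product ring is of finite type over `k`. -/
theorem finiteType_segreRing [Algebra.FiniteType k R] [Algebra.FiniteType k S]
    (hT : GrSeg.IsSegreRing 𝒜 ℬ 𝒯 ψ)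
    (hposR : ∀ n : ℤ, n < 0 → 𝒜 n = ⊥) (h0R : 𝒜 0 = Submodule.span k {(1 : R)})
    (hposS : ∀ n : ℤ, n < 0 → ℬ n = ⊥) (h0S : ℬ 0 = Submodule.span k {(1 : S)}) :
    Algebra.FiniteType k T := by
  haveI : IsNoetherianRing R := Algebra.FiniteType.isNoetherianRing k R
  haveI : IsNoetherianRing S := Algebra.FiniteType.isNoetherianRing k S
  obtain ⟨n, hn⟩ := exists_ringKrullDim_le k R
  obtain ⟨m, hm⟩ := exists_ringKrullDim_le k S
  rw [← Module.supportDim_self_eq_ringKrullDim] at hn hm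
  obtain ⟨D₁, hD₁, hx⟩ := exists_params 𝒜 𝒜 hposR h0R n hn
  obtain ⟨D₂, hD₂, hy⟩ := exists_params ℬ ℬ hposS h0S m hm
  obtain ⟨x, hx, hxr⟩ := hx D₂ hD₂
  obtain ⟨y, hy, hyr⟩ := hy D₁ hD₁
  rw [mul_comm] at hy
  have := finite_adjoin_zz (M := R) (N := S) (P := T) hT (isSegreMod_ring hT) hposR h0R hposS h0S
    (D := ((D₂ * D₁ : ℕ) : ℤ)) (by exact_mod_cast Nat.mul_pos hD₂ hD₁) x hx hxr y hy hyr
  exact finiteType_of_finite_adjoin (zz hT hx hy)

/-- **Dimension of a Segre product of modules**, provided there are elements of one degree which are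
free over the parameter algebras. -/
theorem supportDim_eq [Algebra.FiniteType k R] [Algebra.FiniteType k S]
    [Module.Finite R M] [Module.Finite S N]
    (hT : GrSeg.IsSegreRing 𝒜 ℬ 𝒯 ψ) (hP : GrSeg.IsSegreMod ψ ℳ 𝒩 𝒬 φ)
    (hposR : ∀ n : ℤ, n < 0 → 𝒜 n = ⊥) (h0R : 𝒜 0 = Submodule.span k {(1 : R)})
    (hposS : ∀ n : ℤ, n < 0 → ℬ n = ⊥) (h0S : ℬ 0 = Submodule.span k {(1 : S)})
    {D : ℤ} (hD : 0 < D) (x : Fin (r + 1) → R) (hx : ∀ i, x i ∈ 𝒜 D)
    (hxr : irr 𝒜 ≤ (Module.annihilator R M ⊔ Ideal.span (Set.range x)).radical)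
    (y : Fin (s + 1) → S) (hy : ∀ i, y i ∈ ℬ D)
    (hyr : irr ℬ ≤ (Module.annihilator S N ⊔ Ideal.span (Set.range y)).radical)
    {d : ℤ} {m : M} (hmd : m ∈ ℳ d)
    (hm : ∀ F : MvPolynomial (Fin (r + 1)) k, MvPolynomial.aeval x F • m = 0 → F = 0)
    {n : N} (hnd : n ∈ 𝒩 d)
    (hn : ∀ F : MvPolynomial (Fin (s + 1)) k, MvPolynomial.aeval y F • n = 0 → F = 0) :
    Module.supportDim T P = ((r + s + 1 : ℕ) : WithBot ℕ∞) := by
  haveI : IsNoetherianRing T := isNoetherianRing_segreRing hT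
  haveI : IsNoetherian T P := isNoetherian_segreMod hT hP
  haveI := finiteType_segreRing hT hposR h0R hposS h0S
  refine le_antisymm ?_ ?_
  · have := supportDim_le hT hP hposR h0R hposS h0S hD x hx hxr y hy hyr
    rwa [show r + 1 + (s + 1) - 1 = r + s + 1 by omega] at this
  · obtain ⟨p, -, hp⟩ := exists_phi_eq hP (mem_segrePiece_tmul ℳ 𝒩 hmd hnd)
    exact Dim.le_supportDim (k := k) (ww hT hx hy) fun F hF => ww_free hT hP hx hy hm hn hp F (hF p)

end Segre

end K961.SegDim2
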