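import Groth.Agent.GrSegre.K961.Dim
import Groth.Agent.GrSegre.K961.SegDim2
import Groth.Agent.GrLC.K762.Bas
import Groth.Agent.GrLC.K762.Reg
import Groth.Agent.EGA4.K111.RestrDepth
import Groth.Agent.Ega4dB.DepthReg
import Groth.Agent.CalgB.CMPoly
import Groth.Agent.Ega4A.RegSeqFlat
import Groth.Agent.Ega4C.SupportLoc
import Groth.Agent.Localalg.DepthLC
import Groth.Agent.GrLC.K763.CMvan
import Groth.Agent.Flat2D.CMFlatArt

/-!
# Cohen–Macaulay graded modules over a graded ring over a field
-/

set_option autoImplicit false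
set_option linter.unusedSectionVars false
set_option linter.style.haveILetI false

open K961.Irr

namespace K961.CM

universe u

section Gen

theorem depth_self_le_of_flat (R : Type u) [CommRing R] [IsLocalRing R] (M : Type u) [AddCommGroup M]
    [Module R M] [Module.Flat R M] : LocCoh.depth R R ≤ LocCoh.depth R M := by
  unfold LocCoh.depth
  refine ENat.forall_natCast_le_iff_le.mp fun n hn => ?_
  rw [Groth.Agent.Ega4dB.DepthReg.le_idealDepth_iff] at hn ⊢
  rcases hn with h | ⟨rs, h1, h2, h3⟩
  · exfalso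
    rw [Ideal.smul_top_eq_map] at h
    have h4 : (IsLocalRing.maximalIdeal R) = ⊤ := by
      rw [eq_top_iff]
      intro x _
      have hx : x ∈ ((IsLocalRing.maximalIdeal R).map (algebraMap R R)).restrictScalars R := by
        rw [h]; trivial
      simpa using hx
    exact (IsLocalRing.maximalIdeal.isMaximal R).ne_top h4
  · exact Or.inr ⟨rs, h1, h2,
      ((TensorProduct.rid R M).isWeaklyRegular_congr rs).mp h3.isWeaklyRegular_lTensor⟩

variable {A R : Type u} [CommRing A] [CommRing R] [Algebra A R] [IsNoetherianRing R]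
  [LocCoh.IsCohenMacaulayRing A]
  (M : Type u) [AddCommGroup M] [Module A M] [Module R M] [IsScalarTower A R M] [Module.Finite A M]

/-- All localizations of a module which is finite and flat over a Cohen–Macaulay ring `A` are zero or
Cohen–Macaulay. -/
theorem cm_of_flat [Module.Flat A M] (q : Ideal R) [q.IsPrime] :
    Subsingleton (LocalizedModule q.primeCompl M) ∨
      LocCoh.IsCohenMacaulayModule (Localization.AtPrime q) (LocalizedModule q.primeCompl M) := by
  rcases subsingleton_or_nontrivial (LocalizedModule q.primeCompl M) with h | h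
  · exact Or.inl h
  right
  haveI : IsNoetherianRing A := inferInstance
  haveI : Module.Finite R M := Module.Finite.of_restrictScalars_finite A R M
  have hq : (⟨q, inferInstance⟩ : PrimeSpectrum R) ∈ Module.support R M := Module.mem_support_iff.mpr h
  have h1 := K111.RestrDepth.depth_le M (q.comap (algebraMap A R)) q rfl
  have h2 := K111.RestrDepth.supportDim_le M (q.comap (algebraMap A R)) ⟨q, inferInstance⟩ rfl hq
  have h3 := K111.RestrDepth.depth_le_supportDim_atPrime M ⟨q, inferInstance⟩ hq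
  have hcm := LocCoh.IsCohenMacaulayRing.isCohenMacaulayLocalRing_localization
    (q.comap (algebraMap A R))
  haveI : Module.Flat (Localization.AtPrime (q.comap (algebraMap A R)))
      (LocalizedModule (q.comap (algebraMap A R)).primeCompl M) :=
    Module.Flat.localizedModule (R := A) (M := M) (q.comap (algebraMap A R)).primeCompl
  have h4 : LocCoh.depth (Localization.AtPrime (q.comap (algebraMap A R)))
      (Localization.AtPrime (q.comap (algebraMap A R))) ≤
      LocCoh.depth (Localization.AtPrime (q.comap (algebraMap A R)))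
        (LocalizedModule (q.comap (algebraMap A R)).primeCompl M) :=
    depth_self_le_of_flat _ _
  have h5 := hcm.supportDim_eq_depth
  have h6 : Module.supportDim (Localization.AtPrime (q.comap (algebraMap A R)))
        (LocalizedModule (q.comap (algebraMap A R)).primeCompl M) ≤
      Module.supportDim (Localization.AtPrime (q.comap (algebraMap A R)))
        (Localization.AtPrime (q.comap (algebraMap A R))) := by
    rw [Module.supportDim_self_eq_ringKrullDim]
    exact Module.supportDim_le_ringKrullDim _ _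
  refine le_antisymm ?_ h3
  refine h2.trans (h6.trans ?_)
  rw [h5]
  exact_mod_cast h4.trans h1

end Gen

section Graded

variable {k : Type u} [Field k] {R : Type u} [CommRing R] [Algebra k R]
  {𝒜 : ℤ → Submodule k R} [GradedAlgebra 𝒜]

theorem posField (hpos : ∀ n : ℤ, n < 0 → 𝒜 n = ⊥) (h0 : 𝒜 0 = Submodule.span k {(1 : R)}) :
    K762.Base.PosField k 𝒜 (irr 𝒜) where
  pos := forall_eq_zero_of_hpos 𝒜 hpos
  alg c := by
    rw [h0, Submodule.mem_span_singleton]
    exact ⟨c, by rw [Algebra.smul_def, mul_one]⟩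
  surj x hx := by
    rw [h0, Submodule.mem_span_singleton] at hx
    obtain ⟨c, rfl⟩ := hx
    exact ⟨c, by rw [Algebra.smul_def, mul_one]⟩
  span := rfl

variable {M : Type u} [AddCommGroup M] [Module R M] [Module k M] [IsScalarTower k R M]
  {r : ℕ} (x : Fin r → R)

/-- primes in the support of `M` containing the parameters contain the irrelevant ideal. -/
theorem irr_le_of_mem [Module.Finite R M]
    (hxr : irr 𝒜 ≤ (Module.annihilator R M ⊔ Ideal.span (Set.range x)).radical)
    (q : PrimeSpectrum R) (hq : q ∈ Module.support R M) (hqx : ∀ i, x i ∈ q.asIdeal) :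
    irr 𝒜 ≤ q.asIdeal := by
  rw [Module.mem_support_iff_of_finite] at hq
  refine hxr.trans ?_
  rw [q.2.radical_le_iff]
  refine sup_le hq ?_
  rw [Ideal.span_le]
  rintro _ ⟨i, rfl⟩
  exact hqx i

theorem mem_support_irr [IsNoetherianRing R] [Module.Finite R M] [Nontrivial M]
    (hpos : ∀ n : ℤ, n < 0 → 𝒜 n = ⊥) (h0 : 𝒜 0 = Submodule.span k {(1 : R)})
    [h : (irr 𝒜).IsPrime] (ℳ : ℤ → Submodule k M) [DirectSum.Decomposition ℳ]
    [SetLike.GradedSMul 𝒜 ℳ] :
    (⟨irr 𝒜, h⟩ : PrimeSpectrum R) ∈ Module.support R M := by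
  rw [Module.mem_support_iff_of_finite]
  refine le_irr_of_isHomogeneous 𝒜 hpos h0 ?_ ?_
  · intro i a ha
    rw [Module.mem_annihilator] at ha ⊢
    intro m
    obtain ⟨t, ht, -⟩ := K962.Basic.exists_finset_sum_pr ℳ m
    rw [ht, Finset.smul_sum]
    refine Finset.sum_eq_zero fun j _ => ?_
    have h1 := FinDim.pr_smul_of_mem 𝒜 ℳ (K962.Basic.pr_mem ℳ j m) a (i + j)
    rw [ha, map_zero, add_sub_cancel_right] at h1
    exact h1.symm
  · rw [Ne, Module.annihilator_eq_top_iff]
    exact not_subsingleton M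

/-- The dimension of a graded module is its dimension at the irrelevant ideal. -/
theorem supportDim_irr_eq [Algebra.FiniteType k R] [Module.Finite R M]
    (hpos : ∀ n : ℤ, n < 0 → 𝒜 n = ⊥) (h0 : 𝒜 0 = Submodule.span k {(1 : R)})
    [h : (irr 𝒜).IsPrime] (ℳ : ℤ → Submodule k M) [DirectSum.Decomposition ℳ]
    [SetLike.GradedSMul 𝒜 ℳ] (hd : Module.supportDim R M = r) :
    Module.supportDim (Localization.AtPrime (irr 𝒜)) (LocalizedModule (irr 𝒜).primeCompl M) = r := by
  haveI : IsNoetherianRing R := Algebra.FiniteType.isNoetherianRing k R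
  have hM : Nontrivial M := by
    rw [← not_subsingleton_iff_nontrivial]
    intro hs
    rw [Module.supportDim_eq_bot_of_subsingleton] at hd
    exact WithBot.bot_ne_coe hd
  obtain ⟨D₀, hD₀, hx⟩ := SegDim2.exists_params 𝒜 ℳ hpos h0 r hd.le
  obtain ⟨x, hx, hxr⟩ := hx 1 one_pos
  have hD : (0 : ℤ) < ((1 * D₀ : ℕ) : ℤ) := by exact_mod_cast Nat.mul_pos one_pos hD₀
  haveI := FinDim.finite_adjoin 𝒜 ℳ hpos h0 hD x hx hxr
  letI := (MvPolynomial.aeval x : MvPolynomial (Fin r) k →ₐ[k] R).toRingHom.toAlgebra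
  letI := Dim.polyModule (k := k) (M := M) x
  haveI : IsScalarTower (MvPolynomial (Fin r) k) R M := ⟨fun p r m => by
    rw [Algebra.smul_def, mul_smul]; rfl⟩
  haveI := Dim.polyModule_finite (k := k) (M := M) x
  have hX : ∀ i, algebraMap (MvPolynomial (Fin r) k) R (MvPolynomial.X i) = x i := fun i =>
    MvPolynomial.aeval_X x i
  set p : Ideal (MvPolynomial (Fin r) k) := (irr 𝒜).comap (algebraMap _ R) with hp
  have hann : Module.annihilator (MvPolynomial (Fin r) k) M = ⊥ := by
    rw [eq_bot_iff]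
    intro F hF
    rw [Module.mem_annihilator] at hF
    exact Dim.eq_zero_of_smul_eq_zero (M := M) x (by simpa using hd.ge) F fun m => hF m
  have hsupp : Module.support (MvPolynomial (Fin r) k) M = Set.univ := by
    rw [Module.support_eq_zeroLocus, hann]
    simp
  have h1 := Groth.Agent.Ega4C.SupportLoc.supportDim_localizedModule_eq_height hsupp p
  have hmax : p.IsMaximal := by
    haveI : Nontrivial R := ⟨0, 1, fun h01 => h.ne_top ((Ideal.eq_top_iff_one _).mpr (h01 ▸ zero_mem _))⟩
    haveI := isMaximal_irr 𝒜 hpos h0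
    letI := Ideal.Quotient.field (irr 𝒜)
    have : p = RingHom.ker ((Ideal.Quotient.mk (irr 𝒜)).comp (algebraMap (MvPolynomial (Fin r) k) R)) := by
      ext F
      rw [hp, Ideal.mem_comap, RingHom.mem_ker, RingHom.comp_apply, Ideal.Quotient.eq_zero_iff_mem]
    rw [this]
    refine RingHom.ker_isMaximal_of_surjective _ ?_
    intro y
    obtain ⟨y, rfl⟩ := Ideal.Quotient.mk_surjective y
    obtain ⟨c, hc⟩ := exists_sub_algebraMap_mem_irr 𝒜 hpos h0 y
    refine ⟨MvPolynomial.C c, ?_⟩
    rw [RingHom.comp_apply, Ideal.Quotient.eq]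
    rw [← neg_mem_iff, neg_sub]
    have : algebraMap (MvPolynomial (Fin r) k) R (MvPolynomial.C c) = algebraMap k R c :=
      MvPolynomial.aeval_C x c
    rw [this]
    exact hc
  have h2 := Groth.Agent.Ega4B.DimFT.height_maximal k (MvPolynomial (Fin r) k) p
  have h3 : ringKrullDim (MvPolynomial (Fin r) k) = r := by
    rw [MvPolynomial.ringKrullDim_of_isNoetherianRing, ringKrullDim_eq_zero_of_field, zero_add]
    simp
  rw [h2, h3, Groth.Agent.Ega4B.DimFinite.supportDim_atPrime_restrictScalars (B := R) p M] at h1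
  rw [← h1]
  refine le_antisymm ?_ ?_
  · exact le_iSup₂_of_le (⟨irr 𝒜, h⟩ : PrimeSpectrum R)
      ⟨rfl, mem_support_irr hpos h0 ℳ⟩ le_rfl
  · refine iSup₂_le ?_
    rintro q ⟨hq1, hq2⟩
    have hle : irr 𝒜 ≤ q.asIdeal := by
      refine irr_le_of_mem x hxr q hq2 fun i => ?_
      have : MvPolynomial.X i ∈ q.asIdeal.comap (algebraMap (MvPolynomial (Fin r) k) R) := by
        rw [hq1, hp, Ideal.mem_comap, hX]
        exact mem_irr_of_mem 𝒜 hD (hx i)
      rw [Ideal.mem_comap, hX] at this
      exact this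
    haveI : Nontrivial R := ⟨0, 1, fun h01 => h.ne_top ((Ideal.eq_top_iff_one _).mpr (h01 ▸ zero_mem _))⟩
    have heq : q = ⟨irr 𝒜, h⟩ :=
      PrimeSpectrum.ext ((isMaximal_irr 𝒜 hpos h0).eq_of_le q.2.ne_top hle).symm
    subst heq
    exact le_rfl

/-- The parameters form a regular sequence on `M` if `M` is Cohen–Macaulay at the irrelevant ideal. -/
theorem isWeaklyRegular_of_cm [Algebra.FiniteType k R] [Module.Finite R M]
    (hpos : ∀ n : ℤ, n < 0 → 𝒜 n = ⊥) (h0 : 𝒜 0 = Submodule.span k {(1 : R)})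
    [h : (irr 𝒜).IsPrime] (ℳ : ℤ → Submodule k M) [DirectSum.Decomposition ℳ]
    [SetLike.GradedSMul 𝒜 ℳ] (hd : Module.supportDim R M = r)
    {D : ℤ} (hD : 0 < D) (hx : ∀ i, x i ∈ 𝒜 D)
    (hxr : irr 𝒜 ≤ (Module.annihilator R M ⊔ Ideal.span (Set.range x)).radical)
    (hcm : LocCoh.IsCohenMacaulayModule (Localization.AtPrime (irr 𝒜))
      (LocalizedModule (irr 𝒜).primeCompl M)) :
    RingTheory.Sequence.IsWeaklyRegular M (List.ofFn x) := by
  haveI : IsNoetherianRing R := Algebra.FiniteType.isNoetherianRing k R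
  have hxm : ∀ i, x i ∈ irr 𝒜 := fun i => mem_irr_of_mem 𝒜 hD (hx i)
  have h1 : RingTheory.Sequence.IsWeaklyRegular (LocalizedModule (irr 𝒜).primeCompl M)
      ((List.ofFn x).map (algebraMap R (Localization.AtPrime (irr 𝒜)))) := by
    refine Groth.Agent.Ega4A.RegSeqFlat.isWeaklyRegular_of_isCohenMacaulayModule hcm ?_ ?_
    · intro a ha
      rw [List.mem_map] at ha
      obtain ⟨a, ha, rfl⟩ := ha
      rw [List.mem_ofFn] at ha
      obtain ⟨i, rfl⟩ := ha
      rw [IsLocalization.AtPrime.to_map_mem_maximal_iff _ (irr 𝒜)]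
      exact hxm i
    · rw [supportDim_irr_eq hpos h0 ℳ hd, List.length_map, List.length_ofFn]
      have h2 : Module.supportDim (Localization.AtPrime (irr 𝒜))
          (LocalizedModule (irr 𝒜).primeCompl M ⧸
            (Ideal.ofList ((List.ofFn x).map (algebraMap R (Localization.AtPrime (irr 𝒜)))) •
              (⊤ : Submodule (Localization.AtPrime (irr 𝒜)) (LocalizedModule (irr 𝒜).primeCompl M)))) ≤ 0 := by
        refine Order.krullDim_nonpos_iff_forall_isMax.mpr ?_
        have key : ∀ Q ∈ Module.support (Localization.AtPrime (irr 𝒜))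
            (LocalizedModule (irr 𝒜).primeCompl M ⧸
            (Ideal.ofList ((List.ofFn x).map (algebraMap R (Localization.AtPrime (irr 𝒜)))) •
              (⊤ : Submodule (Localization.AtPrime (irr 𝒜)) (LocalizedModule (irr 𝒜).primeCompl M)))),
            IsLocalRing.maximalIdeal _ ≤ Q.asIdeal := by
          intro Q hQ
          rw [Module.mem_support_iff_of_finite] at hQ
          have hJ : Ideal.ofList ((List.ofFn x).map (algebraMap R (Localization.AtPrime (irr 𝒜)))) ≤
              Q.asIdeal := by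
            refine le_trans ?_ hQ
            intro a ha
            rw [Module.mem_annihilator]
            intro y
            obtain ⟨y, rfl⟩ := Submodule.mkQ_surjective _ y
            rw [← map_smul, Submodule.mkQ_apply, Submodule.Quotient.mk_eq_zero]
            exact Submodule.smul_mem_smul ha trivial
          have hA : Module.annihilator (Localization.AtPrime (irr 𝒜))
              (LocalizedModule (irr 𝒜).primeCompl M) ≤ Q.asIdeal := by
            refine le_trans ?_ hQ
            intro a ha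
            rw [Module.mem_annihilator] at ha ⊢
            intro y
            obtain ⟨y, rfl⟩ := Submodule.mkQ_surjective _ y
            rw [← map_smul, ha, map_zero]
          have hle : irr 𝒜 ≤ Q.asIdeal.comap (algebraMap R (Localization.AtPrime (irr 𝒜))) := by
            refine hxr.trans ?_
            rw [(inferInstance : (Q.asIdeal.comap
              (algebraMap R (Localization.AtPrime (irr 𝒜)))).IsPrime).radical_le_iff]
            refine sup_le ?_ ?_
            · intro a ha
              refine hA ?_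
              rw [Module.mem_annihilator] at ha ⊢
              intro y
              induction y using LocalizedModule.induction_on with | h m s => ?_
              rw [algebraMap_smul, LocalizedModule.smul'_mk, ha, LocalizedModule.zero_mk]
            · rw [Ideal.span_le]
              rintro _ ⟨i, rfl⟩
              refine hJ ?_
              exact Ideal.subset_span (List.mem_map_of_mem (List.mem_ofFn.mpr ⟨i, rfl⟩))
          rw [← Localization.AtPrime.map_eq_maximalIdeal, Ideal.map_le_iff_le_comap]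
          exact hle
        rintro ⟨Q, hQ⟩ ⟨Q', hQ'⟩ -
        refine (key Q hQ).trans' ?_
        exact IsLocalRing.le_maximalIdeal Q'.2.ne_top
      calc _ ≤ (0 : WithBot ℕ∞) + (r : WithBot ℕ∞) := add_le_add_left h2 _
        _ = r := zero_add _
  have h3 : RingTheory.Sequence.IsWeaklyRegular (LocalizedModule (irr 𝒜).primeCompl M) (List.ofFn x) := by
    rwa [RingTheory.Sequence.isWeaklyRegular_map_algebraMap_iff] at h1
  exact K762.Reg.isWeaklyRegular_of_local ℳ (posField hpos h0) (w := fun _ => D) hx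
    (LocalizedModule.mkLinearMap (irr 𝒜).primeCompl M) h3

/-- Existence of a homogeneous basis over the polynomial ring. -/
theorem exists_basis [Algebra.FiniteType k R] [Module.Finite R M]
    (hpos : ∀ n : ℤ, n < 0 → 𝒜 n = ⊥) (h0 : 𝒜 0 = Submodule.span k {(1 : R)})
    (ℳ : ℤ → Submodule k M) [DirectSum.Decomposition ℳ]
    [SetLike.GradedSMul 𝒜 ℳ]
    {D : ℤ} (hD : 0 < D) (hx : ∀ i, x i ∈ 𝒜 D)
    (hxr : irr 𝒜 ≤ (Module.annihilator R M ⊔ Ideal.span (Set.range x)).radical)
    (hreg : RingTheory.Sequence.IsWeaklyRegular M (List.ofFn x)) :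
    letI := Dim.polyModule (k := k) (M := M) x
    ∃ (N : ℕ) (b : Module.Basis (Fin N) (MvPolynomial (Fin r) k) M) (d : Fin N → ℤ),
      ∀ j, b j ∈ ℳ (d j) := by
  haveI : IsNoetherianRing R := Algebra.FiniteType.isNoetherianRing k R
  letI := (MvPolynomial.aeval x : MvPolynomial (Fin r) k →ₐ[k] R).toRingHom.toAlgebra
  letI := Dim.polyModule (k := k) (M := M) x
  haveI : IsScalarTower (MvPolynomial (Fin r) k) R M := ⟨fun p r m => by
    rw [Algebra.smul_def, mul_smul]; rfl⟩
  haveI := FinDim.finite_quotient (M := M) 𝒜 hpos h0 _ hxr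
  obtain ⟨N, b, d, hb, -, -⟩ := K762.Bas.exists_basis (𝒜 := 𝒜) (ℳ := ℳ) (posField hpos h0)
    (w := fun _ => D) hx (fun _ => hD)
    (K762.Nak.bddBelow_of_finite (𝒜 := 𝒜) (ℳ := ℳ) (posField hpos h0).pos) hreg (fun _ => rfl)
  exact ⟨N, b, d, hb⟩

/-- If the parameters form a regular sequence, all localizations are zero or Cohen–Macaulay. -/
theorem cm_of_isWeaklyRegular [Algebra.FiniteType k R] [Module.Finite R M]
    (hpos : ∀ n : ℤ, n < 0 → 𝒜 n = ⊥) (h0 : 𝒜 0 = Submodule.span k {(1 : R)})
    (ℳ : ℤ → Submodule k M) [DirectSum.Decomposition ℳ]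
    [SetLike.GradedSMul 𝒜 ℳ]
    {D : ℤ} (hD : 0 < D) (hx : ∀ i, x i ∈ 𝒜 D)
    (hxr : irr 𝒜 ≤ (Module.annihilator R M ⊔ Ideal.span (Set.range x)).radical)
    (hreg : RingTheory.Sequence.IsWeaklyRegular M (List.ofFn x)) (q : Ideal R) [q.IsPrime] :
    Subsingleton (LocalizedModule q.primeCompl M) ∨
      LocCoh.IsCohenMacaulayModule (Localization.AtPrime q) (LocalizedModule q.primeCompl M) := by
  haveI : IsNoetherianRing R := Algebra.FiniteType.isNoetherianRing k R
  letI := (MvPolynomial.aeval x : MvPolynomial (Fin r) k →ₐ[k] R).toRingHom.toAlgebra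
  letI := Dim.polyModule (k := k) (M := M) x
  haveI : IsScalarTower (MvPolynomial (Fin r) k) R M := ⟨fun p r m => by
    rw [Algebra.smul_def, mul_smul]; rfl⟩
  obtain ⟨N, b, d, hb⟩ := exists_basis x hpos h0 ℳ hD hx hxr hreg
  haveI : Module.Finite (MvPolynomial (Fin r) k) M := Module.Finite.of_basis b
  haveI : Module.Free (MvPolynomial (Fin r) k) M := Module.Free.of_basis b
  haveI : LocCoh.IsCohenMacaulayRing k :=
    { isCohenMacaulayLocalRing_localization := fun p hp => Groth.Agent.Flat2D.CMFlatArt.isCM_of_isArtinian _ }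
  haveI := Groth.Agent.CalgB.CMPoly.isCohenMacaulayRing_mvPolynomial k r
  exact cm_of_flat (A := MvPolynomial (Fin r) k) M q

/-- Cohen–Macaulayness at the irrelevant ideal in terms of (ungraded) local cohomology. -/
theorem cm_irr_iff_H [Algebra.FiniteType k R] [Module.Finite R M]
    (hpos : ∀ n : ℤ, n < 0 → 𝒜 n = ⊥) (h0 : 𝒜 0 = Submodule.span k {(1 : R)})
    [h : (irr 𝒜).IsPrime] (ℳ : ℤ → Submodule k M) [DirectSum.Decomposition ℳ]
    [SetLike.GradedSMul 𝒜 ℳ] (hd : Module.supportDim R M = r) :
    LocCoh.IsCohenMacaulayModule (Localization.AtPrime (irr 𝒜)) (LocalizedModule (irr 𝒜).primeCompl M) ↔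
      ∀ i < r, Subsingleton (LocCoh.H (irr 𝒜) i M) := by
  haveI : IsNoetherianRing R := Algebra.FiniteType.isNoetherianRing k R
  have hM : Nontrivial M := by
    rw [← not_subsingleton_iff_nontrivial]
    intro hs
    rw [Module.supportDim_eq_bot_of_subsingleton] at hd
    exact WithBot.bot_ne_coe hd
  haveI : Nontrivial R := ⟨0, 1, fun h01 => h.ne_top ((Ideal.eq_top_iff_one _).mpr (h01 ▸ zero_mem _))⟩
  haveI := isMaximal_irr 𝒜 hpos h0
  have hsupp := mem_support_irr hpos h0 ℳ
  have hdim := supportDim_irr_eq hpos h0 ℳ hd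
  have hle := K111.RestrDepth.depth_le_supportDim_atPrime M ⟨irr 𝒜, h⟩ hsupp
  haveI : Nontrivial (LocalizedModule (irr 𝒜).primeCompl M) := Module.mem_support_iff.mp hsupp
  constructor
  · intro hcm i hi
    rw [K763.CMvan.subsingleton_H_iff_localization]
    refine Groth.Agent.Localalg.DepthLC.subsingleton_H_of_lt_idealDepth _ _ i ?_
    unfold LocCoh.IsCohenMacaulayModule at hcm
    rw [hdim] at hcm
    have h2 : (r : ℕ∞) = LocCoh.depth (Localization.AtPrime (irr 𝒜))
      (LocalizedModule (irr 𝒜).primeCompl M) := WithBot.coe_injective hcm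
    change (i : ℕ∞) < LocCoh.depth (Localization.AtPrime (irr 𝒜))
      (LocalizedModule (irr 𝒜).primeCompl M)
    rw [← h2]
    exact_mod_cast hi
  · intro hH
    have h1 : LocCoh.depth (Localization.AtPrime (irr 𝒜))
        (LocalizedModule (irr 𝒜).primeCompl M) ≤ r := by
      have h2 := hle
      simp only at h2
      rw [hdim] at h2
      exact_mod_cast h2
    obtain ⟨n, hn⟩ : ∃ n : ℕ, LocCoh.depth (Localization.AtPrime (irr 𝒜))
        (LocalizedModule (irr 𝒜).primeCompl M) = n := by
      obtain ⟨n, hn⟩ := ENat.ne_top_iff_exists.mp (ne_top_of_le_ne_top (ENat.natCast_ne_top r) h1)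
      exact ⟨n, hn.symm⟩
    have h3 := Groth.Agent.Localalg.DepthLC.nontrivial_H_idealDepth _ _ n hn
    have h4 : r ≤ n := by
      by_contra hlt
      have h5 := hH n (by omega)
      rw [K763.CMvan.subsingleton_H_iff_localization] at h5
      exact not_subsingleton _ h5
    rw [hn] at h1
    have h5 : n = r := le_antisymm (by exact_mod_cast h1) h4
    unfold LocCoh.IsCohenMacaulayModule
    rw [hdim, hn, h5]
    rfl

/-- **Bridge**: all localizations of `M` are zero or Cohen–Macaulay iff `H^i(M) = 0` for `i < dim M`. -/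
theorem cm_iff_H [Algebra.FiniteType k R] [Module.Finite R M]
    (hpos : ∀ n : ℤ, n < 0 → 𝒜 n = ⊥) (h0 : 𝒜 0 = Submodule.span k {(1 : R)})
    (ℳ : ℤ → Submodule k M) [DirectSum.Decomposition ℳ]
    [SetLike.GradedSMul 𝒜 ℳ] (hd : Module.supportDim R M = r) :
    (∀ (q : Ideal R) [q.IsPrime], Subsingleton (LocalizedModule q.primeCompl M) ∨
      LocCoh.IsCohenMacaulayModule (Localization.AtPrime q) (LocalizedModule q.primeCompl M)) ↔
      ∀ i < r, Subsingleton (LocCoh.H (irr 𝒜) i M) := by
  haveI : IsNoetherianRing R := Algebra.FiniteType.isNoetherianRing k R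
  have hM : Nontrivial M := by
    rw [← not_subsingleton_iff_nontrivial]
    intro hs
    rw [Module.supportDim_eq_bot_of_subsingleton] at hd
    exact WithBot.bot_ne_coe hd
  haveI : Nontrivial R := Module.nontrivial R M
  haveI := (isMaximal_irr 𝒜 hpos h0).isPrime
  rw [← cm_irr_iff_H hpos h0 ℳ hd]
  constructor
  · intro H
    refine (H (irr 𝒜)).resolve_left ?_
    rw [not_subsingleton_iff_nontrivial]
    exact Module.mem_support_iff.mp (mem_support_irr hpos h0 ℳ)
  · intro hcm q hq
    obtain ⟨D₀, hD₀, hx⟩ := SegDim2.exists_params 𝒜 ℳ hpos h0 r hd.le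
    obtain ⟨x, hx, hxr⟩ := hx 1 one_pos
    have hD : (0 : ℤ) < ((1 * D₀ : ℕ) : ℤ) := by exact_mod_cast Nat.mul_pos one_pos hD₀
    exact cm_of_isWeaklyRegular x hpos h0 ℳ hD hx hxr
      (isWeaklyRegular_of_cm x hpos h0 ℳ hd hD hx hxr hcm) q

/-- Regular sequences from the `H`-vanishing. -/
theorem isWeaklyRegular_of_H [Algebra.FiniteType k R] [Module.Finite R M]
    (hpos : ∀ n : ℤ, n < 0 → 𝒜 n = ⊥) (h0 : 𝒜 0 = Submodule.span k {(1 : R)})
    (ℳ : ℤ → Submodule k M) [DirectSum.Decomposition ℳ]
    [SetLike.GradedSMul 𝒜 ℳ] (hd : Module.supportDim R M = r)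
    (hcm : ∀ (q : Ideal R) [q.IsPrime], Subsingleton (LocalizedModule q.primeCompl M) ∨
      LocCoh.IsCohenMacaulayModule (Localization.AtPrime q) (LocalizedModule q.primeCompl M))
    {D : ℤ} (hD : 0 < D) (hx : ∀ i, x i ∈ 𝒜 D)
    (hxr : irr 𝒜 ≤ (Module.annihilator R M ⊔ Ideal.span (Set.range x)).radical) :
    RingTheory.Sequence.IsWeaklyRegular M (List.ofFn x) := by
  haveI : IsNoetherianRing R := Algebra.FiniteType.isNoetherianRing k R
  have hM : Nontrivial M := by
    rw [← not_subsingleton_iff_nontrivial]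
    intro hs
    rw [Module.supportDim_eq_bot_of_subsingleton] at hd
    exact WithBot.bot_ne_coe hd
  haveI : Nontrivial R := Module.nontrivial R M
  haveI := (isMaximal_irr 𝒜 hpos h0).isPrime
  exact isWeaklyRegular_of_cm x hpos h0 ℳ hd hD hx hxr ((cm_irr_iff_H hpos h0 ℳ hd).mpr
    ((cm_iff_H hpos h0 ℳ hd).mp hcm))

/-- Every nonzero element of a Cohen–Macaulay graded module is free over the parameter algebra. -/
theorem eq_zero_of_smul_eq_zero [Algebra.FiniteType k R] [Module.Finite R M]
    (hpos : ∀ n : ℤ, n < 0 → 𝒜 n = ⊥) (h0 : 𝒜 0 = Submodule.span k {(1 : R)})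
    (ℳ : ℤ → Submodule k M) [DirectSum.Decomposition ℳ]
    [SetLike.GradedSMul 𝒜 ℳ] (hd : Module.supportDim R M = r)
    (hcm : ∀ (q : Ideal R) [q.IsPrime], Subsingleton (LocalizedModule q.primeCompl M) ∨
      LocCoh.IsCohenMacaulayModule (Localization.AtPrime q) (LocalizedModule q.primeCompl M))
    {D : ℤ} (hD : 0 < D) (hx : ∀ i, x i ∈ 𝒜 D)
    (hxr : irr 𝒜 ≤ (Module.annihilator R M ⊔ Ideal.span (Set.range x)).radical)
    {m : M} (hm : m ≠ 0) (F : MvPolynomial (Fin r) k) (hF : MvPolynomial.aeval x F • m = 0) : F = 0 := by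
  letI := Dim.polyModule (k := k) (M := M) x
  obtain ⟨N, b, d, hb⟩ := exists_basis x hpos h0 ℳ hD hx hxr
    (isWeaklyRegular_of_H x hpos h0 ℳ hd hcm hD hx hxr)
  haveI : Module.Free (MvPolynomial (Fin r) k) M := Module.Free.of_basis b
  have hF' : F • m = 0 := hF
  exact (smul_eq_zero.mp hF').resolve_right hm

end Graded

end K961.CM
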