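import Groth.Agent.GrSegre.K961.CM
import Groth.Agent.GrLC.K963.Iface
import Groth.Agent.GrLC.K759.AcycInj
import Groth.Agent.Localalg.Depth

/-!
# Cohen–Macaulay graded modules and graded local cohomology

For `R` graded over a field `k` and `M` a finite graded module of dimension `r`: all localizations of
`M` are zero or Cohen–Macaulay iff the graded local cohomology (computed from any *injective
resolution) vanishes in cohomological degrees `< r`; ring version.
-/

set_option autoImplicit false
set_option linter.unusedSectionVars false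
set_option linter.style.haveILetI false

open K961.Irr

namespace K961.CMH

universe u

section Self

variable {A : Type u} [CommRing A] [IsNoetherianRing A]

/-- The localization of the ring as a module over the localized ring. -/
noncomputable def selfEquiv (S : Submonoid A) : LocalizedModule S A ≃ₗ[Localization S] Localization S :=
  (LocalizedModule.equivTensorProduct S A) ≪≫ₗ
    (TensorProduct.AlgebraTensorModule.rid A (Localization S) (Localization S))

theorem isCohenMacaulayLocalRing_iff (p : Ideal A) [p.IsPrime] :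
    LocCoh.IsCohenMacaulayLocalRing (Localization.AtPrime p) ↔
      LocCoh.IsCohenMacaulayModule (Localization.AtPrime p)
        (LocalizedModule p.primeCompl A) := by
  have h1 : Module.supportDim (Localization.AtPrime p) (LocalizedModule p.primeCompl A) =
      Module.supportDim (Localization.AtPrime p) (Localization.AtPrime p) :=
    Module.supportDim_eq_of_equiv (selfEquiv p.primeCompl)
  have h2 : LocCoh.depth (Localization.AtPrime p) (LocalizedModule p.primeCompl A) =
      LocCoh.depth (Localization.AtPrime p) (Localization.AtPrime p) :=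
    Groth.Agent.Localalg.Depth.idealDepth_congr_equiv _ (selfEquiv p.primeCompl)
  have hN : IsNoetherianRing (Localization.AtPrime p) :=
    IsLocalization.isNoetherianRing p.primeCompl _ inferInstance
  unfold LocCoh.IsCohenMacaulayModule
  rw [h1, h2]
  exact ⟨fun h => h.supportDim_eq_depth, fun h => { supportDim_eq_depth := h }⟩

/-- A Noetherian ring is Cohen–Macaulay iff it is so as a module over itself. -/
theorem isCohenMacaulayRing_iff :
    LocCoh.IsCohenMacaulayRing A ↔ ∀ (q : Ideal A) [q.IsPrime],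
      Subsingleton (LocalizedModule q.primeCompl A) ∨
      LocCoh.IsCohenMacaulayModule (Localization.AtPrime q) (LocalizedModule q.primeCompl A) := by
  constructor
  · intro h q hq
    exact Or.inr ((isCohenMacaulayLocalRing_iff q).mp
      (LocCoh.IsCohenMacaulayRing.isCohenMacaulayLocalRing_localization q))
  · intro h
    refine { isCohenMacaulayLocalRing_localization := fun q hq => ?_ }
    refine (isCohenMacaulayLocalRing_iff q).mpr ((h q).resolve_left ?_)
    rw [not_subsingleton_iff_nontrivial]
    exact (selfEquiv q.primeCompl).toEquiv.nontrivial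

end Self

section Graded

variable {k : Type u} [Field k] {R : Type u} [CommRing R] [Algebra k R]
  {𝒜 : ℤ → Submodule k R} [GradedAlgebra 𝒜] [Algebra.FiniteType k R]
  {M : Type u} [AddCommGroup M] [Module R M]
  {τ : Type u} [SetLike τ M] [AddSubgroupClass τ M]
  {ℳ : ℤ → τ} [DirectSum.Decomposition ℳ] [SetLike.GradedSMul 𝒜 ℳ]

/-- vanishing of graded local cohomology and vanishing of local cohomology. -/
theorem Hcomp_eq_bot_iff (a : HomogeneousIdeal 𝒜) (E : GrLC.StarInjRes 𝒜 ℳ) (i : ℕ) :
    (∀ d : ℤ, E.Hcomp a i d = ⊥) ↔ Subsingleton (LocCoh.H a.toIdeal i M) := by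
  haveI : IsNoetherianRing R := Algebra.FiniteType.isNoetherianRing k R
  obtain ⟨e⟩ := K759.AcycInj.nonempty_equiv E a i
  rw [← e.toEquiv.subsingleton_congr]
  exact ⟨K963.Iface.subsingleton_of_Hcomp_eq_bot E a i,
    fun h d => K963.Iface.Hcomp_eq_bot_of_subsingleton E a i h d⟩

/-- **Bridge (module version)**: all localizations of `M` are zero or Cohen–Macaulay iff
`H^i_m(M)_d = 0` for all `i < dim M` and all `d`. -/
theorem cm_iff_Hcomp [Module k M] [IsScalarTower k R M] [Module.Finite R M]
    (hpos : ∀ n : ℤ, n < 0 → 𝒜 n = ⊥) (h0 : 𝒜 0 = Submodule.span k {(1 : R)})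
    {r : ℕ} (hd : Module.supportDim R M = r) (a : HomogeneousIdeal 𝒜)
    (ha : a.toIdeal = Ideal.span (⋃ n ∈ Set.Ioi (0 : ℤ), (𝒜 n : Set R))) (E : GrLC.StarInjRes 𝒜 ℳ) :
    (∀ (q : Ideal R) [q.IsPrime], Subsingleton (LocalizedModule q.primeCompl M) ∨
      LocCoh.IsCohenMacaulayModule (Localization.AtPrime q) (LocalizedModule q.primeCompl M)) ↔
      ∀ i < r, ∀ d : ℤ, E.Hcomp a i d = ⊥ := by
  rw [CM.cm_iff_H hpos h0 (K962.Pieces.kp 𝒜 ℳ) hd]
  refine forall₂_congr fun i _ => ?_
  rw [Hcomp_eq_bot_iff, ha]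
  rfl

/-- **Bridge (ring version)**: `R` is Cohen–Macaulay iff `H^i_m(R)_d = 0` for all `i < dim R` and all
`d`. -/
theorem isCohenMacaulayRing_iff_Hcomp
    (hpos : ∀ n : ℤ, n < 0 → 𝒜 n = ⊥) (h0 : 𝒜 0 = Submodule.span k {(1 : R)})
    {r : ℕ} (hd : ringKrullDim R = r) (a : HomogeneousIdeal 𝒜)
    (ha : a.toIdeal = Ideal.span (⋃ n ∈ Set.Ioi (0 : ℤ), (𝒜 n : Set R))) (E : GrLC.StarInjRes 𝒜 𝒜) :
    LocCoh.IsCohenMacaulayRing R ↔ ∀ i < r, ∀ d : ℤ, E.Hcomp a i d = ⊥ := by
  haveI : IsNoetherianRing R := Algebra.FiniteType.isNoetherianRing k R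
  rw [isCohenMacaulayRing_iff]
  rw [← Module.supportDim_self_eq_ringKrullDim] at hd
  rw [CM.cm_iff_H hpos h0 𝒜 hd]
  refine forall₂_congr fun i _ => ?_
  rw [Hcomp_eq_bot_iff, ha]
  rfl

/-- ring version, ungraded local cohomology. -/
theorem isCohenMacaulayRing_iff_H
    (hpos : ∀ n : ℤ, n < 0 → 𝒜 n = ⊥) (h0 : 𝒜 0 = Submodule.span k {(1 : R)})
    {r : ℕ} (hd : ringKrullDim R = r) :
    LocCoh.IsCohenMacaulayRing R ↔ ∀ i < r, Subsingleton (LocCoh.H (irr 𝒜) i R) := by
  haveI : IsNoetherianRing R := Algebra.FiniteType.isNoetherianRing k R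
  rw [isCohenMacaulayRing_iff]
  rw [← Module.supportDim_self_eq_ringKrullDim] at hd
  rw [CM.cm_iff_H hpos h0 𝒜 hd]

end Graded

end K961.CMH
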