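import Groth.Agent.GrSegre.K961.FinDim
import Groth.Agent.Flat2D.FibDimAlg
import Mathlib.RingTheory.KrullDimension.Module
import Mathlib.RingTheory.KrullDimension.Polynomial
import Mathlib.RingTheory.KrullDimension.Field
import Mathlib.RingTheory.Ideal.HasGoingUp
import Mathlib.RingTheory.Ideal.Over
import Mathlib.LinearAlgebra.Charpoly.Basic

/-!
# Dimension of modules finite over another ring
-/

set_option autoImplicit false
set_option linter.unusedSectionVars false
set_option linter.style.haveILetI false

open K961.Irr K962.Basic K962.Pieces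

namespace K961.Dim

universe u v w

/-- an integral map does not increase the dimension. -/
theorem ringKrullDim_le_of_isIntegral {A R : Type*} [CommRing A] [CommRing R] (f : A →+* R)
    (hf : f.IsIntegral) : ringKrullDim R ≤ ringKrullDim A := by
  letI := f.toAlgebra
  haveI : Algebra.IsIntegral A R := ⟨hf⟩
  refine Order.krullDim_le_of_strictMono
    (fun x : PrimeSpectrum R ↦ PrimeSpectrum.comap (algebraMap A R) x) ?_
  intro x y hxy
  exact Ideal.IsIntegral.comap_lt_comap (R := A) (A := R) hxy

/-- an injective integral map does not decrease the Krull dimension. -/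
theorem le_ringKrullDim_of_isIntegral_of_injective {A R : Type*} [CommRing A] [CommRing R]
    (f : A →+* R) (hf : f.IsIntegral) (hinj : Function.Injective f) :
    ringKrullDim A ≤ ringKrullDim R := by
  let _ := f.toAlgebra
  have : Algebra.IsIntegral A R := ⟨hf⟩
  have hfs : FaithfulSMul A R := (faithfulSMul_iff_algebraMap_injective A R).mpr hinj
  refine iSup_le fun l => ?_
  obtain ⟨P, hP, hP'⟩ := (Ideal.nonempty_primesOver (S := R) l.head.asIdeal)
  obtain ⟨L, hL, -, -⟩ := Ideal.exists_ltSeries_of_hasGoingUp (S := R) l P
  rw [← hL]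
  exact le_iSup (fun (p : LTSeries (PrimeSpectrum R)) => (p.length : WithBot ℕ∞)) L

section FiniteOver

variable {A : Type v} {R : Type u} [CommRing A] [CommRing R] [Algebra A R]
  {M : Type w} [AddCommGroup M] [Module R M] [Module A M] [IsScalarTower A R M]

/-- The ring map on the quotients by the annihilators. -/
def annMap : A ⧸ Module.annihilator A M →+* R ⧸ Module.annihilator R M :=
  Ideal.quotientMap _ (algebraMap A R) (by
    intro a ha
    rw [Ideal.mem_comap, Module.mem_annihilator]
    intro m
    rw [algebraMap_smul]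
    exact (Module.mem_annihilator.mp ha) m)

theorem annMap_injective : Function.Injective (annMap (A := A) (R := R) (M := M)) := by
  refine Ideal.quotientMap_injective' ?_
  intro a ha
  rw [Ideal.mem_comap, Module.mem_annihilator] at ha
  rw [Module.mem_annihilator]
  intro m
  have := ha m
  rwa [algebraMap_smul] at this

theorem annMap_isIntegral [Module.Finite A M] :
    (annMap (A := A) (R := R) (M := M)).IsIntegral := by
  have h1 : ((annMap (A := A) (R := R) (M := M)).comp (Ideal.Quotient.mk _)).IsIntegral := by
    intro r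
    obtain ⟨r, rfl⟩ := Ideal.Quotient.mk_surjective r
    obtain ⟨p, hp, hpr⟩ := Algebra.IsIntegral.isIntegral (R := A) (Algebra.lsmul A A M r)
    refine ⟨p, hp, ?_⟩
    have h2 : (annMap (A := A) (R := R) (M := M)).comp (Ideal.Quotient.mk _) =
        (Ideal.Quotient.mk (Module.annihilator R M)).comp (algebraMap A R) := by
      ext a
      rfl
    rw [h2, ← Polynomial.hom_eval₂, Ideal.Quotient.eq_zero_iff_mem, Module.mem_annihilator]
    intro m
    have h3 : Algebra.lsmul A A M (Polynomial.aeval r p) = 0 := by
      rw [← Polynomial.aeval_algHom_apply]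
      exact hpr
    have h4 := DFunLike.congr_fun h3 m
    exact h4
  exact RingHom.IsIntegral.tower_top _ _ h1

variable (A R M) in
theorem supportDim_eq_of_finite [Module.Finite A M] :
    Module.supportDim R M = Module.supportDim A M := by
  have : Module.Finite R M := Module.Finite.of_restrictScalars_finite A R M
  rw [Module.supportDim_eq_ringKrullDim_quotient_annihilator,
    Module.supportDim_eq_ringKrullDim_quotient_annihilator]
  exact le_antisymm (ringKrullDim_le_of_isIntegral _ annMap_isIntegral)
    (le_ringKrullDim_of_isIntegral_of_injective _ annMap_isIntegral annMap_injective)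

end FiniteOver

section Poly

variable {k : Type u} [Field k] {R : Type u} [CommRing R] [Algebra k R]
  {M : Type u} [AddCommGroup M] [Module R M] [Module k M] [IsScalarTower k R M]
  {ι : Type} [Finite ι]

/-- The polynomial ring acting through `x : ι → R`. -/
@[reducible] noncomputable def polyModule (x : ι → R) : Module (MvPolynomial ι k) M :=
  Module.compHom M (MvPolynomial.aeval x : MvPolynomial ι k →ₐ[k] R).toRingHom

theorem polyModule_finite (x : ι → R) [Module.Finite (Algebra.adjoin k (Set.range x)) M] :
    letI := polyModule (k := k) (M := M) x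
    Module.Finite (MvPolynomial ι k) M := by
  letI := polyModule (k := k) (M := M) x
  obtain ⟨s, hs⟩ := (Module.Finite.fg_top :
    (⊤ : Submodule (Algebra.adjoin k (Set.range x)) M).FG)
  refine ⟨⟨s, ?_⟩⟩
  rw [eq_top_iff]
  rintro m -
  have hm : m ∈ Submodule.span (Algebra.adjoin k (Set.range x)) (s : Set M) := by
    rw [hs]; trivial
  induction hm using Submodule.span_induction with
  | mem x hx => exact Submodule.subset_span hx
  | zero => exact zero_mem _
  | add a b _ _ ha hb => exact add_mem ha hb
  | smul b m _ hm =>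
    obtain ⟨b, hb⟩ := b
    have hb' := hb
    rw [Algebra.adjoin_range_eq_range_aeval] at hb'
    obtain ⟨p, rfl⟩ := hb'
    exact Submodule.smul_mem _ p hm

theorem supportDim_le_card (x : ι → R) [Module.Finite (Algebra.adjoin k (Set.range x)) M] :
    Module.supportDim R M ≤ (Nat.card ι : WithBot ℕ∞) := by
  letI := (MvPolynomial.aeval x : MvPolynomial ι k →ₐ[k] R).toRingHom.toAlgebra
  letI := polyModule (k := k) (M := M) x
  haveI : IsScalarTower (MvPolynomial ι k) R M := ⟨fun p r m => by
    rw [Algebra.smul_def, mul_smul]; rfl⟩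
  haveI := polyModule_finite (k := k) (M := M) x
  rw [supportDim_eq_of_finite (MvPolynomial ι k) R M]
  refine (Module.supportDim_le_ringKrullDim _ _).trans ?_
  rw [MvPolynomial.ringKrullDim_of_isNoetherianRing, ringKrullDim_eq_zero_of_field, zero_add]

/-- Faithfulness over the polynomial ring when the dimension is the number of variables. -/
theorem eq_zero_of_smul_eq_zero (x : ι → R)
    [Module.Finite (Algebra.adjoin k (Set.range x)) M]
    (hd : (Nat.card ι : WithBot ℕ∞) ≤ Module.supportDim R M) (F : MvPolynomial ι k)
    (hF : ∀ m : M, MvPolynomial.aeval x F • m = 0) : F = 0 := by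
  by_contra hne
  letI := (MvPolynomial.aeval x : MvPolynomial ι k →ₐ[k] R).toRingHom.toAlgebra
  letI := polyModule (k := k) (M := M) x
  haveI : IsScalarTower (MvPolynomial ι k) R M := ⟨fun p r m => by
    rw [Algebra.smul_def, mul_smul]; rfl⟩
  haveI := polyModule_finite (k := k) (M := M) x
  rw [supportDim_eq_of_finite (MvPolynomial ι k) R M,
    Module.supportDim_eq_ringKrullDim_quotient_annihilator] at hd
  have hmem : F ∈ Module.annihilator (MvPolynomial ι k) M := Module.mem_annihilator.mpr hF
  have h1 : ringKrullDim (MvPolynomial ι k ⧸ Module.annihilator (MvPolynomial ι k) M) ≤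
      ringKrullDim (MvPolynomial ι k ⧸ Ideal.span {F}) := by
    refine ringKrullDim_le_of_surjective (Ideal.Quotient.factor (S := Ideal.span {F})
      (T := Module.annihilator (MvPolynomial ι k) M) ?_) (Ideal.Quotient.factor_surjective _)
    rwa [Ideal.span_singleton_le_iff_mem]
  have h2 := ringKrullDim_quotient_succ_le_of_nonZeroDivisor (R := MvPolynomial ι k)
    (mem_nonZeroDivisors_of_ne_zero hne)
  rw [MvPolynomial.ringKrullDim_of_isNoetherianRing, ringKrullDim_eq_zero_of_field, zero_add] at h2
  have h3 := (add_le_add_left (hd.trans h1) 1).trans h2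
  have h4 : ((Nat.card ι + 1 : ℕ) : WithBot ℕ∞) ≤ (Nat.card ι : ℕ) := by
    push_cast; exact h3
  rw [Nat.cast_le] at h4
  omega

variable {ℳ : ℤ → Submodule k M} [DirectSum.Decomposition ℳ]

/-- There is a homogeneous element with zero annihilator in the polynomial ring. -/
theorem exists_homogeneous_free [Module.Finite R M] (ℳ : ℤ → Submodule k M)
    [DirectSum.Decomposition ℳ] (x : ι → R)
    [Module.Finite (Algebra.adjoin k (Set.range x)) M]
    (hd : (Nat.card ι : WithBot ℕ∞) ≤ Module.supportDim R M) :
    ∃ (n : ℤ) (m : M), m ∈ ℳ n ∧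
      ∀ F : MvPolynomial ι k, MvPolynomial.aeval x F • m = 0 → F = 0 := by
  classical
  obtain ⟨V, hV, hspan⟩ := FinDim.exists_homogeneous_generators (R := R) ℳ
  by_contra hcon
  push Not at hcon
  have key : ∀ v : M, ∃ F : MvPolynomial ι k, F ≠ 0 ∧ (v ∈ V → MvPolynomial.aeval x F • v = 0) := by
    intro v
    by_cases hv : v ∈ V
    · obtain ⟨n, hn⟩ := hV v hv
      obtain ⟨F, hF, hF0⟩ := hcon n v hn
      exact ⟨F, hF0, fun _ => hF⟩
    · exact ⟨1, one_ne_zero, fun h => absurd h hv⟩
  choose F hF0 hF using key
  have hprod : ∏ v ∈ V, F v ≠ 0 := Finset.prod_ne_zero_iff.mpr fun v _ => hF0 v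
  refine hprod (eq_zero_of_smul_eq_zero (M := M) x hd _ fun m => ?_)
  have hm : m ∈ Submodule.span R (V : Set M) := by rw [hspan]; trivial
  induction hm using Submodule.span_induction with
  | mem v hv =>
    rw [← Finset.mul_prod_erase V F hv, mul_comm, map_mul, mul_smul, hF v hv, smul_zero]
  | zero => exact smul_zero _
  | add a b _ _ ha hb => rw [smul_add, ha, hb, add_zero]
  | smul r m _ hm => rw [smul_comm, hm, smul_zero]

end Poly

section Lower

variable {k : Type u} [Field k] {T : Type u} [CommRing T] [Algebra k T] [Algebra.FiniteType k T]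
  {P : Type u} [AddCommGroup P] [Module T P]

/-- Lower bound for the dimension from algebraically independent elements. -/
theorem le_supportDim [Module.Finite T P] {d : ℕ} (w : Fin d → T)
    (hw : ∀ F : MvPolynomial (Fin d) k, (∀ p : P, MvPolynomial.aeval w F • p = 0) → F = 0) :
    (d : WithBot ℕ∞) ≤ Module.supportDim T P := by
  rw [Module.supportDim_eq_ringKrullDim_quotient_annihilator]
  let C := T ⧸ Module.annihilator T P
  let f : MvPolynomial (Fin d) k →ₐ[k] C := MvPolynomial.aeval fun i => Ideal.Quotient.mk _ (w i)
  have hf : ∀ F, f F = Ideal.Quotient.mk _ (MvPolynomial.aeval w F) := by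
    intro F
    have := MvPolynomial.comp_aeval_apply (f := w) (Ideal.Quotient.mkₐ k (Module.annihilator T P)) F
    exact this.symm
  have hinj : ∀ F, f F = 0 → F = 0 := by
    intro F hF
    rw [hf, Ideal.Quotient.eq_zero_iff_mem, Module.mem_annihilator] at hF
    exact hw F hF
  let S : Submonoid C := Submonoid.map f (nonZeroDivisors (MvPolynomial (Fin d) k))
  have hdisj : Disjoint ((⊥ : Ideal C) : Set C) (S : Set C) := by
    rw [Set.disjoint_left]
    rintro c hc ⟨F, hF, rfl⟩
    have h1 : f F = 0 := by simpa using hc
    rw [hinj F h1] at hF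
    exact zero_notMem_nonZeroDivisors hF
  obtain ⟨Q, hQ, -, hQS⟩ := Ideal.exists_le_prime_disjoint ⊥ S hdisj
  refine Groth.Agent.Flat2D.FibDimAlg.le_ringKrullDim_of_algebraicIndependent (k := k) (C := C)
    ⟨Q, hQ⟩ (fun i => Ideal.Quotient.mk _ (w i)) ?_
  intro g hg
  by_contra hne
  exact Set.disjoint_left.mp hQS hg ⟨g, mem_nonZeroDivisors_of_ne_zero hne, rfl⟩

end Lower

end K961.Dim
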