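import Groth.Agent.GrSegre.K961.PolyOne
import Groth.Agent.GrSegre.K961.CMH
import Groth.Agent.GrLC.K762.Soc
import Mathlib.LinearAlgebra.Dimension.Finite

/-!
# Gorenstein Segre products of one-dimensional rings
-/

set_option autoImplicit false
set_option linter.unusedSectionVars false
set_option linter.style.haveILetI false

open K961.Irr K962.Basic K962.Pieces K961.SegDim
open scoped TensorProduct

namespace K961.DimOneGor

universe u

section One

variable {k : Type u} [Field k] {R : Type u} [CommRing R] [Algebra k R] {𝒜 : ℤ → Submodule k R}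
  [GradedAlgebra 𝒜]

/-- The pieces are finite-dimensional. -/
theorem finite_piece [IsNoetherianRing R] (hpos : ∀ n : ℤ, n < 0 → 𝒜 n = ⊥)
    (h0 : 𝒜 0 = Submodule.span k {(1 : R)}) (n : ℤ) : Module.Finite k (𝒜 n) := by
  obtain ⟨S, hS, hS'⟩ := K762.Nak.exists_finset_piece (ℳ := 𝒜) (CM.posField hpos h0) n
  have : 𝒜 n ≤ Submodule.span k (S : Set R) := fun x hx => hS' x hx
  exact Submodule.finiteDimensional_of_le this

/-- Multiplication by a homogeneous element on pieces. -/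
noncomputable def mulPiece {D : ℤ} {z : R} (hz : z ∈ 𝒜 D) (i : ℤ) : 𝒜 (i - D) →ₗ[k] 𝒜 i :=
  ((LinearMap.mulLeft k z) ∘ₗ (𝒜 (i - D)).subtype).codRestrict (𝒜 i) (fun x => by
    have := SetLike.mul_mem_graded hz x.2
    rwa [add_sub_cancel] at this)

theorem mulPiece_injective {D : ℤ} {z : R} (hz : z ∈ 𝒜 D) (hreg : ∀ a : R, z * a = 0 → a = 0) (i : ℤ) :
    Function.Injective (mulPiece hz i) := by
  rw [← LinearMap.ker_eq_bot, LinearMap.ker_eq_bot']
  intro x hx
  have : z * (x : R) = 0 := congrArg Subtype.val hx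
  exact Subtype.ext (hreg _ this)

theorem mem_range_mulPiece {D : ℤ} {z : R} (hz : z ∈ 𝒜 D) {i : ℤ} (y : 𝒜 i)
    (hy : (y : R) ∈ Ideal.span {z}) : y ∈ LinearMap.range (mulPiece hz i) := by
  obtain ⟨u, hu⟩ := Ideal.mem_span_singleton'.mp hy
  refine ⟨⟨pr 𝒜 (i - D) u, pr_mem 𝒜 _ _⟩, Subtype.ext ?_⟩
  change z * pr 𝒜 (i - D) u = y
  have h1 := pr_smul 𝒜 𝒜 hz (i - D) u
  rw [add_sub_cancel, smul_eq_mul, smul_eq_mul] at h1
  rw [← h1, mul_comm z u, hu, pr_of_mem 𝒜 y.2]

theorem finrank_le [IsNoetherianRing R] (hpos : ∀ n : ℤ, n < 0 → 𝒜 n = ⊥)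
    (h0 : 𝒜 0 = Submodule.span k {(1 : R)}) {D : ℤ} {z : R} (hz : z ∈ 𝒜 D)
    (hreg : ∀ a : R, z * a = 0 → a = 0) (i : ℤ) :
    Module.finrank k (𝒜 (i - D)) ≤ Module.finrank k (𝒜 i) := by
  haveI := finite_piece hpos h0 i
  exact LinearMap.finrank_le_finrank_of_injective (mulPiece_injective hz hreg i)

theorem finrank_eq {D : ℤ} {z : R} (hz : z ∈ 𝒜 D)
    (hreg : ∀ a : R, z * a = 0 → a = 0) (i : ℤ) (hi : ∀ x ∈ 𝒜 i, x ∈ Ideal.span {z}) :
    Module.finrank k (𝒜 i) = Module.finrank k (𝒜 (i - D)) := by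
  have hbij : Function.Bijective (mulPiece hz i) :=
    ⟨mulPiece_injective hz hreg i, fun y => mem_range_mulPiece hz y (hi y y.2)⟩
  exact (LinearEquiv.ofBijective _ hbij).finrank_eq.symm

theorem finrank_eq_add_one [IsNoetherianRing R] (hpos : ∀ n : ℤ, n < 0 → 𝒜 n = ⊥)
    (h0 : 𝒜 0 = Submodule.span k {(1 : R)}) {D : ℤ} {z : R} (hz : z ∈ 𝒜 D)
    (hreg : ∀ a : R, z * a = 0 → a = 0) (i : ℤ) {w : R} (hw : w ∈ 𝒜 i) (hw' : w ∉ Ideal.span {z})
    (hi : ∀ x ∈ 𝒜 i, ∃ c : k, x - c • w ∈ Ideal.span {z}) :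
    Module.finrank k (𝒜 i) = Module.finrank k (𝒜 (i - D)) + 1 := by
  haveI := finite_piece hpos h0 i
  have h1 := (LinearMap.range (mulPiece hz i)).finrank_quotient_add_finrank
  rw [LinearMap.finrank_range_of_inj (mulPiece_injective hz hreg i)] at h1
  have h2 : Module.finrank k (𝒜 i ⧸ LinearMap.range (mulPiece hz i)) = 1 := by
    refine finrank_eq_one ((LinearMap.range (mulPiece hz i)).mkQ ⟨w, hw⟩) ?_ ?_
    · intro h
      rw [Submodule.mkQ_apply, Submodule.Quotient.mk_eq_zero] at h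
      obtain ⟨u, hu⟩ := h
      apply hw'
      rw [Ideal.mem_span_singleton']
      have : z * (u : R) = w := congrArg Subtype.val hu
      exact ⟨u, by rw [mul_comm]; exact this⟩
    · intro y
      obtain ⟨y, rfl⟩ := Submodule.mkQ_surjective _ y
      obtain ⟨c, hc⟩ := hi y y.2
      refine ⟨c, ?_⟩
      rw [← map_smul, ← sub_eq_zero, ← map_sub, Submodule.mkQ_apply, Submodule.Quotient.mk_eq_zero]
      refine mem_range_mulPiece hz _ ?_
      rw [← neg_mem_iff]
      simpa using hc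
  omega

/-- the case of a polynomial ring: the pieces determine it. -/
theorem aeval_bijective [Nontrivial R] (hpos : ∀ n : ℤ, n < 0 → 𝒜 n = ⊥)
    (hstd : Ideal.span (⋃ n ∈ Set.Ioi (0 : ℤ), (𝒜 n : Set R)) = Ideal.span ((𝒜 1 : Submodule k R) : Set R))
    (h0 : 𝒜 0 = Submodule.span k {(1 : R)}) {l : R} (hl : l ∈ 𝒜 1) (hreg : ∀ a : R, l * a = 0 → a = 0)
    (hl' : 𝒜 1 ≤ Submodule.span k {l}) :
    Function.Bijective (Polynomial.aeval (R := k) l) := by
  have hlp : ∀ (j : ℕ), l ^ j ≠ 0 := by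
    intro j
    induction j with
    | zero => rw [pow_zero]; exact one_ne_zero
    | succ j ih =>
      intro h
      rw [pow_succ'] at h
      exact ih (hreg _ h)
  have hlm : ∀ j : ℕ, l ^ j ∈ 𝒜 j := fun j => by
    have := SetLike.pow_mem_graded j hl
    rwa [nsmul_eq_mul, mul_one] at this
  constructor
  · rw [injective_iff_map_eq_zero]
    intro F hF
    ext j
    rw [Polynomial.coeff_zero]
    have h1 : pr 𝒜 (j : ℤ) (Polynomial.aeval l F) = F.coeff j • l ^ j := by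
      rw [Polynomial.aeval_eq_sum_range, map_sum]
      have h2 : ∀ i ∈ Finset.range (F.natDegree + 1), pr 𝒜 (j : ℤ) (F.coeff i • l ^ i) =
          if i = j then F.coeff j • l ^ j else 0 := by
        intro i _
        split_ifs with h
        · subst h
          exact pr_of_mem 𝒜 (Submodule.smul_mem _ _ (hlm i))
        · exact pr_of_mem_ne 𝒜 (Submodule.smul_mem _ _ (hlm i)) (by exact_mod_cast h)
      rw [Finset.sum_congr rfl h2, Finset.sum_ite_eq']
      split_ifs with h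
      · rfl
      · rw [Finset.mem_range, not_lt, Nat.add_one_le_iff] at h
        rw [Polynomial.coeff_eq_zero_of_natDegree_lt h, zero_smul]
    rw [hF, map_zero] at h1
    exact (smul_eq_zero.mp h1.symm).resolve_right (hlp j)
  · intro r
    have key : ∀ n : ℤ, ∀ x ∈ 𝒜 n, x ∈ (Polynomial.aeval (R := k) l).range := by
      intro n x hx
      rcases lt_or_ge n 0 with hn | hn
      · rw [hpos n hn, Submodule.mem_bot] at hx
        rw [hx]
        exact zero_mem _
      · obtain ⟨j, rfl⟩ := Int.eq_ofNat_of_zero_le hn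
        obtain ⟨c, rfl⟩ := Submodule.mem_span_singleton.mp (PolyOne.mem_span_pow_one hstd h0 hl' j hx)
        exact ⟨Polynomial.C c * Polynomial.X ^ j, by simp [Algebra.smul_def]⟩
    obtain ⟨s, hs, -⟩ := exists_finset_sum_pr 𝒜 r
    have : r ∈ (Polynomial.aeval (R := k) l).range := by
      rw [hs]
      exact sum_mem fun i _ => key i _ (pr_mem 𝒜 i r)
    exact this

/-- The augmentation `l ↦ 1`. -/
theorem exists_eps [Nontrivial R] (hpos : ∀ n : ℤ, n < 0 → 𝒜 n = ⊥)
    (hstd : Ideal.span (⋃ n ∈ Set.Ioi (0 : ℤ), (𝒜 n : Set R)) = Ideal.span ((𝒜 1 : Submodule k R) : Set R))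
    (h0 : 𝒜 0 = Submodule.span k {(1 : R)}) {l : R} (hl : l ∈ 𝒜 1) (hreg : ∀ a : R, l * a = 0 → a = 0)
    (hl' : 𝒜 1 ≤ Submodule.span k {l}) :
    ∃ ε : R →ₐ[k] k, ε l = 1 := by
  let e := AlgEquiv.ofBijective _ (aeval_bijective hpos hstd h0 hl hreg hl')
  refine ⟨(Polynomial.aeval (1 : k)).comp e.symm.toAlgHom, ?_⟩
  have h1 : e Polynomial.X = l := Polynomial.aeval_X l
  have h2 : e.symm l = Polynomial.X := by rw [← h1, AlgEquiv.symm_apply_apply]
  change Polynomial.aeval (1 : k) (e.symm l) = 1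
  rw [h2, Polynomial.aeval_X]

end One

section Segre

variable {k : Type u} [Field k] {R S T : Type u} [CommRing R] [Algebra k R] [CommRing S] [Algebra k S]
  [CommRing T] [Algebra k T]
  {𝒜 : ℤ → Submodule k R} [GradedAlgebra 𝒜] {ℬ : ℤ → Submodule k S} [GradedAlgebra ℬ]
  {𝒯 : ℤ → Submodule k T} [GradedAlgebra 𝒯] {ψ : T →ₐ[k] R ⊗[k] S}

theorem finrank_piece (hT : GrSeg.IsSegreRing 𝒜 ℬ 𝒯 ψ) (n : ℤ) :
    Module.finrank k (𝒯 n) = Module.finrank k (𝒜 n) * Module.finrank k (ℬ n) := by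
  rw [← K962.Dims.finrank_segrePiece 𝒜 ℬ n, ← hT.2 n]
  exact (Submodule.equivMapOfInjective ψ.toLinearMap hT.1 (𝒯 n)).finrank_eq

theorem tt_regular (hT : GrSeg.IsSegreRing 𝒜 ℬ 𝒯 ψ) {D : ℤ} {x : R} (hx : x ∈ 𝒜 D) {y : S}
    (hy : y ∈ ℬ D) (hxr : ∀ a : R, x * a = 0 → a = 0) (hyr : ∀ a : S, y * a = 0 → a = 0) (t : T)
    (ht : tt hT hx hy * t = 0) : t = 0 := by
  apply hT.1
  rw [map_zero]
  have h1 : ψ (tt hT hx hy * t) = 0 := by rw [ht, map_zero]
  rw [map_mul, psi_tt] at h1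
  have hinj : Function.Injective (TensorProduct.map (LinearMap.mulLeft k x) (LinearMap.mulLeft k y)) := by
    have hx' : Function.Injective (LinearMap.mulLeft k x) := by
      rw [injective_iff_map_eq_zero]; exact hxr
    have hy' : Function.Injective (LinearMap.mulLeft k y) := by
      rw [injective_iff_map_eq_zero]; exact hyr
    have : TensorProduct.map (LinearMap.mulLeft k x) (LinearMap.mulLeft k y) =
        (LinearMap.lTensor R (LinearMap.mulLeft k y)) ∘ₗ (LinearMap.rTensor S (LinearMap.mulLeft k x)) := by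
      rw [LinearMap.lTensor_comp_rTensor]
    rw [this]
    exact (Module.Flat.lTensor_preserves_injective_linearMap _ hy').comp
      (Module.Flat.rTensor_preserves_injective_linearMap _ hx')
  apply hinj
  rw [map_zero, ← h1]
  have : ∀ w : R ⊗[k] S, TensorProduct.map (LinearMap.mulLeft k x) (LinearMap.mulLeft k y) w = (x ⊗ₜ y) * w := by
    intro w
    induction w using TensorProduct.induction_on with
    | zero => simp
    | add a b ha hb => rw [map_add, ha, hb, mul_add]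
    | tmul a b => simp
  exact this _

/-- The numerical consequence of a one-dimensional socle. -/
theorem exists_finrank_eq_one [IsNoetherianRing R] [IsNoetherianRing S] [IsNoetherianRing T] [Nontrivial R]
    [Nontrivial S]
    (hT : GrSeg.IsSegreRing 𝒜 ℬ 𝒯 ψ)
    (hposR : ∀ n : ℤ, n < 0 → 𝒜 n = ⊥) (h0R : 𝒜 0 = Submodule.span k {(1 : R)})
    (hposS : ∀ n : ℤ, n < 0 → ℬ n = ⊥) (h0S : ℬ 0 = Submodule.span k {(1 : S)})
    {D : ℤ} (hD : 0 < D) {x : R} (hx : x ∈ 𝒜 D) {y : S}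
    (hy : y ∈ ℬ D) (hxr : ∀ a : R, x * a = 0 → a = 0) (hyr : ∀ a : S, y * a = 0 → a = 0)
    {s : ℤ} {w : T} (hs : K762.Soc.SocP 𝒯 (Ideal.span {tt hT hx hy}) s w) :
    ∃ n : ℤ, 0 < n ∧ (Module.finrank k (𝒜 n) = 1 ∨ Module.finrank k (ℬ n) = 1) := by
  have hposT := hposT hT hposR
  have h0T := h0T hT h0R h0S
  have hPF := CM.posField hposT h0T
  have hzr := tt_regular hT hx hy hxr hyr
  have h1 := finrank_eq_add_one hposT h0T (tt_mem hT hx hy) hzr s hs.mem hs.nmem
    (fun x hx => hs.piece hPF hx)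
  have h2 : ∀ i, s < i → Module.finrank k (𝒯 i) = Module.finrank k (𝒯 (i - D)) := fun i hi =>
    finrank_eq (tt_mem hT hx hy) hzr i (fun x hx => hs.top hPF hi hx)
  have hs0 := hs.nonneg hPF
  rw [finrank_piece hT, finrank_piece hT] at h1
  have h3 := finrank_le hposR h0R hx hxr s
  have h4 := finrank_le hposS h0S hy hyr s
  have h5 : Module.finrank k (𝒜 s) = 1 ∨ Module.finrank k (ℬ s) = 1 := by
    generalize Module.finrank k (𝒜 s) = p' at *
    generalize Module.finrank k (𝒜 (s - D)) = p at *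
    generalize Module.finrank k (ℬ s) = q' at *
    generalize Module.finrank k (ℬ (s - D)) = q at *
    by_contra hcon
    push Not at hcon
    obtain ⟨hp1, hq1⟩ := hcon
    rcases Nat.lt_or_ge p p' with hlt | hge
    · rcases Nat.lt_or_ge q q' with hlt' | hge'
      · have h6 : (p + 1) * (q + 1) ≤ p' * q' := Nat.mul_le_mul hlt hlt'
        have h7 : p + q = 0 := by nlinarith
        have h8 : p = 0 := by omega
        subst h8
        rw [zero_mul, zero_add] at h1
        exact hp1 (Nat.eq_one_of_mul_eq_one_right h1)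
      · have h6 : q' = q := le_antisymm hge' h4
        subst h6
        obtain ⟨e, rfl⟩ : ∃ e, p' = p + e := ⟨p' - p, by omega⟩
        have h7 : e * q' = 1 := by nlinarith
        exact hq1 (Nat.eq_one_of_mul_eq_one_left h7)
    · have h6 : p' = p := le_antisymm hge h3
      subst h6
      obtain ⟨e, rfl⟩ : ∃ e, q' = q + e := ⟨q' - q, by omega⟩
      have h7 : p' * e = 1 := by nlinarith
      exact hp1 (Nat.eq_one_of_mul_eq_one_right h7)
  rcases hs0.lt_or_eq with hs1 | hs1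
  · exact ⟨s, hs1, h5⟩
  · have h6 := h2 D (hs1 ▸ hD)
    rw [sub_self, finrank_piece hT, finrank_piece hT, K962.Dims.finrank_zero_piece 𝒜 h0R,
      K962.Dims.finrank_zero_piece ℬ h0S, mul_one] at h6
    exact ⟨D, hD, Or.inl (Nat.eq_one_of_mul_eq_one_right h6)⟩

/-- Elements of a Segre piece when `ℬ n = k l^n`. -/
theorem exists_eq_tmul {n : ℤ} {b : S} (hb : ℬ n ≤ Submodule.span k {b})
    {w : R ⊗[k] S} (hw : w ∈ GrSeg.segrePiece k 𝒜 ℬ n) : ∃ a ∈ 𝒜 n, w = a ⊗ₜ b := by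
  refine Submodule.span_induction (p := fun w _ => ∃ a ∈ 𝒜 n, w = a ⊗ₜ b) ?_ ?_ ?_ ?_ hw
  · rintro _ ⟨a, ha, b', hb', rfl⟩
    obtain ⟨c, rfl⟩ := Submodule.mem_span_singleton.mp (hb hb')
    exact ⟨c • a, Submodule.smul_mem _ _ ha, by rw [TensorProduct.smul_tmul]⟩
  · exact ⟨0, zero_mem _, by rw [TensorProduct.zero_tmul]⟩
  · rintro _ _ - - ⟨a, ha, rfl⟩ ⟨a', ha', rfl⟩
    exact ⟨a + a', add_mem ha ha', by rw [TensorProduct.add_tmul]⟩
  · rintro c _ - ⟨a, ha, rfl⟩
    exact ⟨c • a, Submodule.smul_mem _ _ ha, by rw [TensorProduct.smul_tmul']⟩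

/-- If `S = k[l]`, then `R # S ≅ R`. -/
theorem nonempty_ringEquiv [Nontrivial S] (hT : GrSeg.IsSegreRing 𝒜 ℬ 𝒯 ψ)
    (hposR : ∀ n : ℤ, n < 0 → 𝒜 n = ⊥)
    (hposS : ∀ n : ℤ, n < 0 → ℬ n = ⊥) (h0S : ℬ 0 = Submodule.span k {(1 : S)})
    (hstdS : Ideal.span (⋃ n ∈ Set.Ioi (0 : ℤ), (ℬ n : Set S)) = Ideal.span ((ℬ 1 : Submodule k S) : Set S))
    {l : S} (hl : l ∈ ℬ 1) (hreg : ∀ a : S, l * a = 0 → a = 0)
    (hl' : ℬ 1 ≤ Submodule.span k {l}) : Nonempty (T ≃+* R) := by
  obtain ⟨ε, hε⟩ := exists_eps hposS hstdS h0S hl hreg hl'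
  let g : R ⊗[k] S →ₐ[k] R :=
    Algebra.TensorProduct.productMap (AlgHom.id k R) ((Algebra.ofId k R).comp ε)
  have hg : ∀ (a : R) (j : ℕ), g (a ⊗ₜ (l ^ j)) = a := by
    intro a j
    simp only [g, Algebra.TensorProduct.productMap_apply_tmul, AlgHom.coe_id, id_eq, AlgHom.comp_apply,
      map_pow, hε, one_pow, map_one, mul_one]
  let G : T →ₐ[k] R := g.comp ψ
  have hlm : ∀ j : ℕ, l ^ j ∈ ℬ j := fun j => by
    have := SetLike.pow_mem_graded j hl
    rwa [nsmul_eq_mul, mul_one] at this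
  have hspan : ∀ j : ℕ, ℬ (j : ℤ) ≤ Submodule.span k {l ^ j} := fun j x hx =>
    PolyOne.mem_span_pow_one hstdS h0S hl' j hx
  have hGmem : ∀ n : ℤ, ∀ t ∈ 𝒯 n, G t ∈ 𝒜 n ∧ (G t = 0 → t = 0) := by
    intro n t ht
    have h1 := psi_mem hT ht
    rcases lt_or_ge n 0 with hn | hn
    · have h2 := hposT hT hposR n hn
      have h3 : t = 0 := by
        rw [h2] at ht
        exact (Submodule.mem_bot k).mp ht
      subst h3
      exact ⟨by rw [map_zero]; exact zero_mem _, fun _ => rfl⟩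
    · obtain ⟨j, rfl⟩ := Int.eq_ofNat_of_zero_le hn
      obtain ⟨a, ha, hw⟩ := exists_eq_tmul (hspan j) h1
      have h2 : G t = a := by
        change g (ψ t) = a
        rw [hw, hg]
      refine ⟨by rw [h2]; exact ha, fun h3 => ?_⟩
      apply hT.1
      rw [map_zero, hw, ← h2, h3, TensorProduct.zero_tmul]
  have hpr : ∀ (n : ℤ) (t : T), pr 𝒜 n (G t) = G (pr 𝒯 n t) := by
    intro n t
    classical
    induction t using DirectSum.Decomposition.inductionOn 𝒯 with
    | zero => simp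
    | homogeneous t =>
      rename_i i
      by_cases h : i = n
      · subst h
        rw [pr_of_mem 𝒯 t.2, pr_of_mem 𝒜 (hGmem _ _ t.2).1]
      · rw [pr_of_mem_ne 𝒯 t.2 h, pr_of_mem_ne 𝒜 (hGmem _ _ t.2).1 h, map_zero]
    | add a b ha hb => rw [map_add, map_add, map_add, map_add, ha, hb]
  have hbij : Function.Bijective G := by
    constructor
    · rw [injective_iff_map_eq_zero]
      intro t ht
      obtain ⟨s, hs, -⟩ := exists_finset_sum_pr 𝒯 t
      rw [hs]
      refine Finset.sum_eq_zero fun n _ => (hGmem n _ (pr_mem 𝒯 n t)).2 ?_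
      rw [← hpr, ht, map_zero]
    · intro r
      obtain ⟨s, hs, -⟩ := exists_finset_sum_pr 𝒜 r
      have key : ∀ n : ℤ, ∀ x ∈ 𝒜 n, x ∈ G.range := by
        intro n x hx
        rcases lt_or_ge n 0 with hn | hn
        · rw [hposR n hn, Submodule.mem_bot] at hx
          rw [hx]
          exact zero_mem _
        · obtain ⟨j, rfl⟩ := Int.eq_ofNat_of_zero_le hn
          obtain ⟨t, -, ht⟩ := exists_psi_eq hT (mem_segrePiece_tmul 𝒜 ℬ hx (hlm j))
          refine ⟨t, ?_⟩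
          change g (ψ t) = x
          rw [ht, hg]
      have : r ∈ G.range := by
        rw [hs]
        exact sum_mem fun i _ => key i _ (pr_mem 𝒜 i r)
      exact this
  exact ⟨(AlgEquiv.ofBijective G hbij).toRingEquiv⟩

end Segre

end K961.DimOneGor
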