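import Groth.Agent.GrSegre.K961.PerfSeg
import Groth.Agent.GrSegre.K962.CanSeg
import Groth.Agent.GrLC.K763.SocLC
import Mathlib.LinearAlgebra.Dual.Lemmas

/-!
# Perfect pairings: the other side, dimensions, and the socle of a Segre product
-/

set_option autoImplicit false
set_option linter.unusedSectionVars false
set_option linter.style.haveILetI false

open DirectSum GrLC K961.Irr K962.Pieces K961.PerfP K963.Iface RingTheory.Sequence
open scoped TensorProduct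

namespace K961.PerfTwo

universe u

section Gen

variable {k : Type u} [Field k] {R : Type u} [CommRing R] [Algebra k R]
  {σ : Type u} [SetLike σ R] [AddSubgroupClass σ R] {𝒜 : ℤ → σ} [GradedRing 𝒜]
  {m : HomogeneousIdeal 𝒜} {n : ℕ}

open K762.Base K762.Tower

/-- An ideal generated in degree `D` has no elements of lower degree. -/
theorem pr_eq_zero_of_mem_span (h : PosField k 𝒜 m.toIdeal) {D : ℤ} {n : ℕ} {θ : Fin n → R}
    (hθ : ∀ i, θ i ∈ 𝒜 D) {x : R} (hx : x ∈ Ideal.span (Set.range θ)) :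
    ∀ j : ℤ, j < D → pr 𝒜 j x = 0 := by
  induction hx using Submodule.span_induction with
  | mem x hx =>
    intro j hj
    obtain ⟨i, rfl⟩ := hx
    exact pr_of_mem_ne (hθ i) hj.ne'
  | zero => intro j _; exact pr_zero j
  | add x y _ _ hx hy => intro j hj; rw [pr_add, hx j hj, hy j hj, add_zero]
  | smul c x _ hx =>
    intro j hj
    obtain ⟨s, hs⟩ := exists_sum_pr (ℳ := 𝒜) c
    rw [← hs, Finset.sum_smul, pr_sum]
    refine Finset.sum_eq_zero fun i _ => ?_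
    rw [K762.Base.pr_smul (𝒜 := 𝒜) (pr_mem i c)]
    rcases lt_or_ge i 0 with hi | hi
    · rw [h.pos i hi _ (pr_mem i c), zero_smul]
    · rw [hx _ (by omega), smul_zero]

/-- The other side of the perfect pairing. -/
theorem exists_smul_left [LocCoh.IsCohenMacaulayRing R] (h : PosField k 𝒜 m.toIdeal)
    (hn : ringKrullDim R = n) {E : StarInjRes 𝒜 𝒜} {a : ℤ} {u₀ : E.H m n} (hP : Perf E m n a u₀)
    {j : ℤ} {r : R} (hr : r ∈ 𝒜 j) (hr0 : r ≠ 0) : ∃ u ∈ E.Hcomp m n (a - j), r • u = u₀ := by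
  haveI := K762.Ext.nontrivial_of_dim hn
  obtain ⟨D, hD, hjD, -, θ, hθ, ⟨N, hN⟩, hreg⟩ := K762.Ext.exists_parameters h hn one_pos (j + 1)
  have hθm : ∀ i, θ i ∈ m.toIdeal := fun i => h.mem_of_pos hD (hθ i)
  obtain ⟨-, ψ, hψk, hψr, hψd, -⟩ := tower m n θ (fun _ => D) hθ hθm hreg (fun x => ⟨N, fun r hr => by
    rw [smul_eq_mul, smul_eq_mul, Ideal.mul_top]
    exact Ideal.mul_mem_right _ _ (hN hr)⟩) E
  letI := Hdec E m n
  haveI := Hgsmul E m n
  have hne : r • ψ 1 ≠ 0 := by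
    intro h0
    rw [← map_smul, ← LinearMap.mem_ker, hψk, smul_eq_mul, smul_eq_mul, Ideal.mul_top, mul_one] at h0
    have := pr_eq_zero_of_mem_span h hθ h0 j (by omega)
    rw [pr_of_mem hr] at this
    exact hr0 this
  have h1 := hψd 0 1 (SetLike.one_mem_graded 𝒜)
  have h2 : r • ψ 1 ∈ E.Hcomp m n (j + (0 - ∑ _i : Fin n, D)) :=
    SetLike.GradedSMul.smul_mem (A := 𝒜) (B := E.Hgr m n) hr (show ψ 1 ∈ E.Hgr m n _ from h1)
  obtain ⟨r', hr', hrr⟩ := hP.dual _ _ h2 hne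
  refine ⟨r' • ψ 1, ?_, by rw [smul_comm]; exact hrr⟩
  have h3 : r' • ψ 1 ∈ E.Hgr m n ((a - (j + (0 - ∑ _i : Fin n, D))) + (0 - ∑ _i : Fin n, D)) :=
    SetLike.GradedSMul.smul_mem (A := 𝒜) (B := E.Hgr m n) hr' (show ψ 1 ∈ E.Hgr m n _ from h1)
  have h4 : (a - (j + (0 - ∑ _i : Fin n, D))) + (0 - ∑ _i : Fin n, D) = a - j := by ring
  rw [h4] at h3
  exact h3

end Gen

section Dim

variable {k : Type u} [Field k] {R : Type u} [CommRing R] [Algebra k R]
  {𝒜 : ℤ → Submodule k R} [GradedAlgebra 𝒜] {m : HomogeneousIdeal 𝒜} {n : ℕ}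

/-- Dimensions of the pieces of `H^n_m(R)` for a perfect pairing. -/
theorem finrank_piece [LocCoh.IsCohenMacaulayRing R] (h : K762.Base.PosField k 𝒜 m.toIdeal)
    (hn : ringKrullDim R = n) {E : StarInjRes 𝒜 𝒜} {a : ℤ} {u₀ : E.H m n} (hP : Perf E m n a u₀)
    (j : ℤ) [Module.Finite k (𝒜 j)] [Module k (E.H m n)] [IsScalarTower k R (E.H m n)] :
    haveI := Hgsmul E m n
    Module.Finite k (kp 𝒜 (E.Hgr m n) (a - j)) ∧
    Module.finrank k (kp 𝒜 (E.Hgr m n) (a - j)) = Module.finrank k (𝒜 j) := by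
  haveI := Hgsmul E m n
  obtain ⟨f, hf⟩ : ∃ f : Module.Dual k (E.H m n), f u₀ ≠ 0 := by
    by_contra hcon
    push Not at hcon
    exact hP.ne ((Module.forall_dual_apply_eq_zero_iff k u₀).mp hcon)
  let F : kp 𝒜 (E.Hgr m n) (a - j) →ₗ[k] Module.Dual k (𝒜 j) :=
    (LinearMap.compRight k f) ∘ₗ SegSoc.actPiece 𝒜 (kp 𝒜 (E.Hgr m n)) (a - j) j
  have hF : ∀ u r, F u r = f ((r : R) • (u : E.H m n)) := fun u r => rfl
  have hFi : Function.Injective F := by
    rw [← LinearMap.ker_eq_bot, LinearMap.ker_eq_bot']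
    intro u hu
    by_contra h0
    obtain ⟨r, hr, hru⟩ := hP.dual (a - j) u u.2 (fun h => h0 (Subtype.ext h))
    rw [sub_sub_cancel] at hr
    have h1 := DFunLike.congr_fun hu ⟨r, hr⟩
    rw [hF] at h1
    exact hf (by rw [← hru]; exact h1)
  have hG : Function.Injective F.flip := by
    rw [← LinearMap.ker_eq_bot, LinearMap.ker_eq_bot']
    intro r hr
    by_contra h0
    obtain ⟨u, hu, hru⟩ := exists_smul_left h hn hP r.2 (fun h => h0 (Subtype.ext h))
    have h1 := DFunLike.congr_fun hr ⟨u, hu⟩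
    rw [LinearMap.flip_apply, hF] at h1
    exact hf (by rw [← hru]; exact h1)
  haveI : Module.Finite k (kp 𝒜 (E.Hgr m n) (a - j)) := Module.Finite.of_injective F hFi
  refine ⟨inferInstance, le_antisymm ?_ ?_⟩
  · have := LinearMap.finrank_le_finrank_of_injective hFi
    rwa [Subspace.dual_finrank_eq] at this
  · have := LinearMap.finrank_le_finrank_of_injective hG
    rwa [Subspace.dual_finrank_eq] at this

/-- For standard graded rings nonzero elements of degree `≤ b ≤ a` of the local cohomology have nonzero multiples of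
degree `b`. -/
theorem exists_smul_ne_zero_std
    (hstd : Ideal.span (⋃ n ∈ Set.Ioi (0 : ℤ), (𝒜 n : Set R)) = Ideal.span ((𝒜 1 : Submodule k R) : Set R))
    {E : StarInjRes 𝒜 𝒜} {a : ℤ} {u₀ : E.H m n} (hP : Perf E m n a u₀) {b i : ℤ} (hba : b ≤ a) (hib : i ≤ b)
    {u : E.H m n} (hu : u ∈ E.Hcomp m n i) (hu0 : u ≠ 0) : ∃ r ∈ 𝒜 (b - i), r • u ≠ 0 := by
  by_contra hcon
  push Not at hcon
  have key : ∀ e : ℕ, ∀ r ∈ 𝒜 (b - i + e), r • u = 0 := by
    intro e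
    induction e with
    | zero => intro r hr; exact hcon r (by simpa using hr)
    | succ e ih =>
      intro r hr
      have h1 := K962.Dims.mem_span_mul_of_std 𝒜 hstd (by push_cast; omega) hr
      refine Submodule.span_induction (p := fun r _ => r • u = 0) ?_ ?_ ?_ ?_ h1
      · rintro _ ⟨x, hx, y, hy, rfl⟩
        rw [mul_smul, ih y (by
          have h2 : b - i + ((e + 1 : ℕ) : ℤ) - 1 = b - i + e := by push_cast; ring
          rwa [h2] at hy), smul_zero]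
      · rw [zero_smul]
      · intro x y _ _ hx hy; rw [add_smul, hx, hy, add_zero]
      · intro c x _ hx
        rw [Algebra.smul_def, mul_smul, hx, smul_zero]
  obtain ⟨r, hr, hru⟩ := hP.dual i u hu hu0
  refine hP.ne ?_
  rw [← hru]
  refine key (a - b).toNat r ?_
  have h2 : b - i + ((a - b).toNat : ℤ) = a - i := by omega
  rwa [h2]

end Dim

section Seg

variable {k : Type u} [Field k] {R S T : Type u} [CommRing R] [Algebra k R] [CommRing S] [Algebra k S]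
  [CommRing T] [Algebra k T]
  {𝒜 : ℤ → Submodule k R} [GradedAlgebra 𝒜] {ℬ : ℤ → Submodule k S} [GradedAlgebra ℬ]
  {𝒯 : ℤ → Submodule k T} [GradedAlgebra 𝒯] {ψ : T →ₐ[k] R ⊗[k] S}
  {mR : HomogeneousIdeal 𝒜} {mS : HomogeneousIdeal ℬ} {mT : HomogeneousIdeal 𝒯}

/-- The type of a Segre product of standard graded Gorenstein rings. -/
theorem bassNum_segre [Algebra.FiniteType k R] [Algebra.FiniteType k S]
    [LocCoh.IsCohenMacaulayRing R] [LocCoh.IsCohenMacaulayRing S] [LocCoh.IsCohenMacaulayRing T]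
    (hT : GrSeg.IsSegreRing 𝒜 ℬ 𝒯 ψ)
    (hposR : ∀ n : ℤ, n < 0 → 𝒜 n = ⊥) (h0R : 𝒜 0 = Submodule.span k {(1 : R)})
    (hposS : ∀ n : ℤ, n < 0 → ℬ n = ⊥) (h0S : ℬ 0 = Submodule.span k {(1 : S)})
    (hmR : mR.toIdeal = Ideal.span (⋃ n ∈ Set.Ioi (0 : ℤ), (𝒜 n : Set R)))
    (hmS : mS.toIdeal = Ideal.span (⋃ n ∈ Set.Ioi (0 : ℤ), (ℬ n : Set S)))
    (hmT : mT.toIdeal = Ideal.span (⋃ n ∈ Set.Ioi (0 : ℤ), (𝒯 n : Set T)))
    (hstdR : Ideal.span (⋃ n ∈ Set.Ioi (0 : ℤ), (𝒜 n : Set R)) = Ideal.span ((𝒜 1 : Submodule k R) : Set R))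
    (I : StarInjRes 𝒜 𝒜) (J : StarInjRes ℬ ℬ) {r s d : ℕ}
    (hr : ringKrullDim R = r) (hs : ringKrullDim S = s) (h2r : 2 ≤ r) (h2s : 2 ≤ s) (hd : d + 1 = r + s)
    (hdim : ringKrullDim T = d) [mT.toIdeal.IsMaximal]
    {a b : ℤ} {u₀ : I.H mR r} (hu : Perf I mR r a u₀) {v₀ : J.H mS s} (hv : Perf J mS s b v₀)
    (hba : b ≤ a) : bassNum mT.toIdeal T d = (Module.finrank k (𝒜 (a - b)) : ℕ∞) := by
  haveI : IsNoetherianRing R := Algebra.FiniteType.isNoetherianRing k R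
  haveI : IsNoetherianRing S := Algebra.FiniteType.isNoetherianRing k S
  have hPR := PerfSeg.posField' hposR h0R hmR
  have hPS := PerfSeg.posField' hposS h0S hmS
  have hPT := PerfSeg.posField' (K962.CanSeg.hposT hT hposR) (K962.CanSeg.h0T hT h0R h0S) hmT
  obtain ⟨IT⟩ := K963.Iface.nonempty_res 𝒯 𝒯
  letI := PerfSeg.kmod (k := k) (R := R) (I.H mR r)
  haveI := PerfSeg.kmod_tower (k := k) (R := R) (I.H mR r)
  letI := PerfSeg.kmod (k := k) (R := S) (J.H mS s)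
  haveI := PerfSeg.kmod_tower (k := k) (R := S) (J.H mS s)
  letI := PerfSeg.kmod (k := k) (R := T) (IT.H mT d)
  haveI := PerfSeg.kmod_tower (k := k) (R := T) (IT.H mT d)
  letI := Hdec I mR r
  haveI := Hgsmul I mR r
  letI := Hdec J mS s
  haveI := Hgsmul J mS s
  letI := Hdec IT mT d
  haveI := Hgsmul IT mT d
  obtain ⟨Φ, hΦ⟩ := K962.Top.top hT hmR hmS hmT (isSegreMod_ring hT) I J IT h2r h2s hd
    (fun q hq => PerfSeg.subsingleton_H hPR hr I q (by omega))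
    (fun q hq => PerfSeg.subsingleton_H hPS hs J q (by omega))
  have hΦ' : GrSeg.IsSegreMod ψ (kp 𝒜 (I.Hgr mR r)) (kp ℬ (J.Hgr mS s)) (kp 𝒯 (IT.Hgr mT d)) Φ :=
    ⟨hΦ.injective, hΦ.image_piece, hΦ.map_smul⟩
  -- the dimensions
  haveI := DimOneGor.finite_piece hposR h0R (a - b)
  haveI := DimOneGor.finite_piece hposS h0S 0
  obtain ⟨hfU, hdU⟩ := finrank_piece hPR hr hu (a - b)
  rw [sub_sub_cancel] at hfU hdU
  obtain ⟨hfV, hdV⟩ := finrank_piece hPS hs hv 0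
  rw [sub_zero] at hfV hdV
  haveI : Nontrivial S := K762.Ext.nontrivial_of_dim hs
  rw [K962.Dims.finrank_zero_piece ℬ h0S] at hdV
  -- the top piece
  have htop : ∀ n, b < n → kp 𝒯 (IT.Hgr mT d) n = ⊥ := by
    intro n hn
    rw [eq_bot_iff]
    intro w hw
    have h1 := phi_mem hΦ' hw
    have h2 : GrSeg.segrePiece k (kp 𝒜 (I.Hgr mR r)) (kp ℬ (J.Hgr mS s)) n = ⊥ := by
      rw [K962.Dims.segrePiece_eq_bot_iff]
      right
      rw [eq_bot_iff]
      intro x hx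
      have h3 := hv.top hPS hn
      have h4 : x ∈ J.Hcomp mS s n := hx
      rw [h3] at h4
      exact h4
    rw [h2] at h1
    exact hΦ.injective (h1.trans (map_zero Φ).symm)
  have hnd : ∀ n, n < b → ∀ w ∈ kp 𝒯 (IT.Hgr mT d) n, w ≠ 0 → ∃ t ∈ 𝒯 (b - n), t • w ≠ 0 := by
    intro n hn w hw hw0
    haveI := DimOneGor.finite_piece hposR h0R (b - n)
    haveI := DimOneGor.finite_piece hposS h0S (b - n)
    exact SegSoc.exists_smul_ne_zero hT hΦ' (n := n) (i := b - n)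
      (fun u hu' hu0 => exists_smul_ne_zero_std hstdR hu hba hn.le hu' hu0)
      (fun v hv' hv0 => by
        obtain ⟨r, hr, hrv⟩ := hv.dual n v hv' hv0
        exact ⟨r, hr, by rw [hrv]; exact hv.ne⟩) (w := w) hw hw0
  have hsoc : (SocGr.soc 𝒯 (IT.H mT d)).restrictScalars k = kp 𝒯 (IT.Hgr mT d) b := by
    ext x
    exact SocGr.mem_soc_iff_mem_top htop hnd
  have hdW : Module.finrank k (kp (k := k) 𝒯 (IT.Hgr mT d) b) = Module.finrank k (𝒜 (a - b)) := by
    rw [K962.CanSeg.finrank_segreMod (𝒜 := 𝒜) (ℬ := ℬ) (𝒯 := 𝒯) (ψ := ψ) (ℳ := I.Hgr mR r)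
      (𝒩 := J.Hgr mS s) hΦ b, hdU, hdV, mul_one]
  have hfW : Module.Finite k (kp (k := k) 𝒯 (IT.Hgr mT d) b) := by
    haveI : Module.Finite k (GrSeg.segrePiece k (kp 𝒜 (I.Hgr mR r)) (kp ℬ (J.Hgr mS s)) b) :=
      Module.Finite.equiv (K962.Dims.pieceEquiv (kp 𝒜 (I.Hgr mR r)) (kp ℬ (J.Hgr mS s)) b)
    refine Module.Finite.of_injective
      ((Φ ∘ₗ (kp (k := k) 𝒯 (IT.Hgr mT d) b).subtype).codRestrict
        (GrSeg.segrePiece k (kp 𝒜 (I.Hgr mR r)) (kp ℬ (J.Hgr mS s)) b) (fun p => phi_mem hΦ' p.2)) ?_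
    intro p q hpq
    exact Subtype.ext (hΦ.injective (congrArg Subtype.val hpq))
  have hfs : Module.Finite k ((SocGr.soc 𝒯 (IT.H mT d)).restrictScalars k) := by rw [hsoc]; exact hfW
  haveI : Module.Finite k (SocGr.soc 𝒯 (IT.H mT d)) := hfs
  have hds : Module.finrank k (SocGr.soc 𝒯 (IT.H mT d)) = Module.finrank k (𝒜 (a - b)) := by
    rw [← hdW, ← hsoc]; rfl
  haveI : IsNoetherianRing T := inferInstance
  obtain ⟨e⟩ := K759.AcycInj.nonempty_equiv IT mT d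
  have hmT' : mT.toIdeal = irr 𝒯 := hmT
  rw [K763.SocLC.bassNum_eq (k := k) mT.toIdeal ?_ T d ?_ (IT.H mT d) e.symm (SocGr.soc 𝒯 (IT.H mT d)) ?_, hds]
  · intro t
    rw [hmT']
    exact exists_sub_algebraMap_mem_irr 𝒯 (K962.CanSeg.hposT hT hposR) (K962.CanSeg.h0T hT h0R h0S) t
  · intro i hi
    obtain ⟨e'⟩ := K759.AcycInj.nonempty_equiv IT mT i
    haveI := PerfSeg.subsingleton_H hPT hdim IT i hi.ne
    exact e'.symm.toEquiv.subsingleton
  · intro x
    rw [hmT', SocGr.mem_soc_iff]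

end Seg

end K961.PerfTwo
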