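import Groth.Agent.GrSegre.K961.SegStd
import Groth.Agent.GrSegre.K961.PerfTwo

/-!
# Standard graded rings: nonvanishing of pieces; `endDeg < 0`
-/

set_option autoImplicit false
set_option linter.unusedSectionVars false

open GrLC K961.Irr

namespace K961.EndNeg

universe u

theorem le_endDeg {M : Type u} [AddCommGroup M] {ℳ : ℤ → AddSubgroup M} {n : ℤ} (h : ℳ n ≠ ⊥) :
    ((n : WithTop ℤ) : WithBot (WithTop ℤ)) ≤ endDeg ℳ :=
  le_iSup₂_of_le n h le_rfl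

theorem endDeg_lt_iff {M : Type u} [AddCommGroup M] {ℳ : ℤ → AddSubgroup M} {a : ℤ} :
    endDeg ℳ < ((a : WithTop ℤ) : WithBot (WithTop ℤ)) ↔ ∀ n : ℤ, a ≤ n → ℳ n = ⊥ := by
  constructor
  · intro h n hn
    by_contra h0
    have h1 := (le_endDeg h0).trans_lt h
    rw [WithBot.coe_lt_coe, WithTop.coe_lt_coe] at h1
    omega
  · intro h
    have h1 : endDeg ℳ ≤ (((a - 1 : ℤ) : WithTop ℤ) : WithBot (WithTop ℤ)) := by
      refine iSup₂_le fun n hn => ?_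
      rw [WithBot.coe_le_coe, WithTop.coe_le_coe]
      by_contra hlt
      exact hn (h n (by omega))
    refine h1.trans_lt ?_
    rw [WithBot.coe_lt_coe, WithTop.coe_lt_coe]
    omega

theorem endDeg_neg_iff {M : Type u} [AddCommGroup M] {ℳ : ℤ → AddSubgroup M} :
    endDeg ℳ < 0 ↔ ∀ n : ℤ, 0 ≤ n → ℳ n = ⊥ :=
  endDeg_lt_iff (a := 0)

variable {k : Type u} [Field k] {R : Type u} [CommRing R] [Algebra k R]
  {𝒜 : ℤ → Submodule k R} [GradedAlgebra 𝒜] [Algebra.FiniteType k R]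

/-- The pieces of a standard graded ring of positive dimension do not vanish. -/
theorem piece_ne_bot (hpos : ∀ n : ℤ, n < 0 → 𝒜 n = ⊥) (h0 : 𝒜 0 = Submodule.span k {(1 : R)})
    (hstd : Ideal.span (⋃ n ∈ Set.Ioi (0 : ℤ), (𝒜 n : Set R)) = Ideal.span ((𝒜 1 : Submodule k R) : Set R))
    {r : ℕ} (hr : ringKrullDim R = r) (h1 : 1 ≤ r) {n : ℤ} (hn : 0 ≤ n) : 𝒜 n ≠ ⊥ := by
  haveI : IsNoetherianRing R := Algebra.FiniteType.isNoetherianRing k R
  obtain ⟨r, rfl⟩ : ∃ r', r = r' + 1 := ⟨r - 1, by omega⟩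
  rw [← Module.supportDim_self_eq_ringKrullDim] at hr
  obtain ⟨D₁, hD₁, hx⟩ := K961.SegDim2.exists_params 𝒜 𝒜 hpos h0 (r + 1) hr.le
  obtain ⟨x, hx, hxr⟩ := hx 1 one_pos
  have hD : (0 : ℤ) < ((1 * D₁ : ℕ) : ℤ) := by exact_mod_cast Nat.mul_pos one_pos hD₁
  have := K961.FinDim.finite_adjoin 𝒜 𝒜 hpos h0 hD x hx hxr
  obtain ⟨m, hm, hfree⟩ := K961.SegStd.exists_free_le (M := R) (ℳ := 𝒜) hstd hD x hx
    (SetLike.one_mem_graded 𝒜) (fun F hF =>
      K961.Dim.eq_zero_of_smul_eq_zero (M := R) x (by simpa using hr.ge) F fun m => by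
        rw [smul_eq_mul, mul_one] at hF; rw [hF, zero_smul]) n hn
  intro hbot
  rw [hbot, Submodule.mem_bot] at hm
  exact one_ne_zero (hfree 1 (by rw [hm, smul_zero]))

/-- `R # H^s(S) = 0` for standard graded `R` of positive dimension. -/
theorem forall_or_iff (hpos : ∀ n : ℤ, n < 0 → 𝒜 n = ⊥) (h0 : 𝒜 0 = Submodule.span k {(1 : R)})
    (hstd : Ideal.span (⋃ n ∈ Set.Ioi (0 : ℤ), (𝒜 n : Set R)) = Ideal.span ((𝒜 1 : Submodule k R) : Set R))
    {r : ℕ} (hr : ringKrullDim R = r) (h1 : 1 ≤ r) {P : ℤ → Prop} :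
    (∀ n, 𝒜 n = ⊥ ∨ P n) ↔ ∀ n, 0 ≤ n → P n := by
  constructor
  · intro h n hn
    exact (h n).resolve_left (piece_ne_bot hpos h0 hstd hr h1 hn)
  · intro h n
    rcases lt_or_ge n 0 with hn | hn
    · exact Or.inl (hpos n hn)
    · exact Or.inr (h n hn)

end K961.EndNeg
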