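import Groth.Agent.GrSegre.K961.Irr
import Groth.Agent.GrSegre.K962.Pieces
import Mathlib.RingTheory.Finiteness.Subalgebra
import Mathlib.RingTheory.Noetherian.Basic
import Mathlib.RingTheory.Nakayama

/-!
# Graded Nakayama: a finite graded module is finite over the algebra generated by homogeneous parameters
-/

set_option autoImplicit false
set_option linter.unusedSectionVars false
set_option linter.style.haveILetI false

open DirectSum K961.Irr K962.Basic K962.Pieces

namespace K961.FinDim

universe u v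

variable {k : Type u} [Field k] {R : Type u} [CommRing R] [Algebra k R] (𝒜 : ℤ → Submodule k R)
  [GradedAlgebra 𝒜]

/-- A finite module over `R` killed by a power of the irrelevant ideal is finite over `k`. -/
theorem finite_of_pow_smul [IsNoetherianRing R] (hpos : ∀ n : ℤ, n < 0 → 𝒜 n = ⊥)
    (h0 : 𝒜 0 = Submodule.span k {(1 : R)}) (n : ℕ) :
    ∀ (N : Type v) [AddCommGroup N] [Module R N] [Module k N] [IsScalarTower k R N]
      [Module.Finite R N], (irr 𝒜 ^ n) • (⊤ : Submodule R N) = ⊥ → Module.Finite k N := by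
  induction n with
  | zero =>
    intro N _ _ _ _ _ h
    rw [pow_zero, Submodule.one_smul] at h
    have : Subsingleton N := subsingleton_of_forall_eq 0 fun x => by
      have : x ∈ (⊤ : Submodule R N) := trivial
      rw [h] at this
      exact (Submodule.mem_bot R).mp this
    infer_instance
  | succ n ih =>
    intro N _ _ _ _ _ h
    let N' : Submodule R N := irr 𝒜 • ⊤
    have : Module.Finite R N' := inferInstance
    have h1 : Module.Finite k N' := by
      refine ih N' ?_
      rw [eq_bot_iff]
      refine Submodule.smul_le.mpr ?_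
      intro r hr x _
      rw [Submodule.mem_bot]
      ext
      have h3 : r • (x : N) ∈ (irr 𝒜 ^ n) • (irr 𝒜 • (⊤ : Submodule R N)) :=
        Submodule.smul_mem_smul hr x.2
      rw [← Submodule.mul_smul, ← pow_succ, h] at h3
      exact (Submodule.mem_bot R).mp h3
    have h2 : Module.Finite k (N ⧸ N') := by
      obtain ⟨s, hs⟩ := (Module.Finite.fg_top : (⊤ : Submodule R N).FG)
      classical
      refine ⟨⟨s.image (Submodule.mkQ N'), ?_⟩⟩
      rw [eq_top_iff]
      rintro y -
      obtain ⟨y, rfl⟩ := Submodule.mkQ_surjective N' y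
      have hy : y ∈ Submodule.span R (s : Set N) := by rw [hs]; trivial
      induction hy using Submodule.span_induction with
      | mem x hx => exact Submodule.subset_span (by simpa using ⟨x, hx, rfl⟩)
      | zero => rw [map_zero]; exact zero_mem _
      | add x y _ _ hx hy => rw [map_add]; exact add_mem hx hy
      | smul r x _ hx =>
        obtain ⟨c, hc⟩ := exists_sub_algebraMap_mem_irr 𝒜 hpos h0 r
        have h4 : N'.mkQ (r • x) = c • N'.mkQ x := by
          have h5 : N'.mkQ ((r - algebraMap k R c) • x) = 0 := by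
            rw [Submodule.mkQ_apply, Submodule.Quotient.mk_eq_zero]
            exact Submodule.smul_mem_smul hc trivial
          rw [sub_smul, map_sub, sub_eq_zero, algebraMap_smul] at h5
          rw [h5]
          exact LinearMap.map_smul_of_tower _ _ _
        rw [h4]
        exact Submodule.smul_mem _ _ hx
    exact Module.Finite.of_exact (f := N'.subtype.restrictScalars k)
      (g := N'.mkQ.restrictScalars k) (LinearMap.exact_subtype_mkQ N') N'.mkQ_surjective

variable {M : Type u} [AddCommGroup M] [Module R M] [Module k M] [IsScalarTower k R M]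

theorem exists_pow_smul_le [IsNoetherianRing R] [Module.Finite R M] (J : Ideal R)
    (hJ : irr 𝒜 ≤ (Module.annihilator R M ⊔ J).radical) :
    ∃ n : ℕ, (irr 𝒜 ^ n) • (⊤ : Submodule R M) ≤ J • ⊤ := by
  obtain ⟨n, hn⟩ := Ideal.exists_pow_le_of_le_radical_of_fg hJ (IsNoetherian.noetherian _)
  refine ⟨n, ?_⟩
  refine (Submodule.smul_mono_left hn).trans ?_
  rw [Submodule.sup_smul]
  refine sup_le ?_ le_rfl
  rw [Submodule.annihilator_top.symm, Submodule.annihilator_smul]
  exact bot_le

theorem finite_quotient [IsNoetherianRing R] [Module.Finite R M] (hpos : ∀ n : ℤ, n < 0 → 𝒜 n = ⊥)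
    (h0 : 𝒜 0 = Submodule.span k {(1 : R)}) (J : Ideal R)
    (hJ : irr 𝒜 ≤ (Module.annihilator R M ⊔ J).radical) :
    Module.Finite k (M ⧸ (J • (⊤ : Submodule R M))) := by
  obtain ⟨n, hn⟩ := exists_pow_smul_le 𝒜 J hJ
  refine finite_of_pow_smul 𝒜 hpos h0 n _ ?_
  rw [eq_bot_iff]
  refine Submodule.smul_le.mpr ?_
  rintro r hr x -
  obtain ⟨x, rfl⟩ := Submodule.mkQ_surjective _ x
  rw [Submodule.mem_bot, ← map_smul, Submodule.mkQ_apply, Submodule.Quotient.mk_eq_zero]
  exact hn (Submodule.smul_mem_smul hr trivial)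

section Graded

variable (ℳ : ℤ → Submodule k M) [DirectSum.Decomposition ℳ] [SetLike.GradedSMul 𝒜 ℳ]

/-- there is a finite set of homogeneous elements spanning the quotient by `J M` over `k`. -/
theorem exists_homogeneous_finset {N : Submodule R M} [Module.Finite k (M ⧸ N)] :
    ∃ V : Finset M, (∀ v ∈ V, ∃ n, v ∈ ℳ n) ∧
      ∀ m : M, ∃ c ∈ Submodule.span k (V : Set M), m - c ∈ N := by
  classical
  obtain ⟨s, hs⟩ := (Module.Finite.fg_top : (⊤ : Submodule k (M ⧸ N)).FG)
  choose g hg using (Submodule.mkQ_surjective N)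
  refine ⟨s.biUnion fun y => ((DirectSum.decompose ℳ (g y)).support.image
    fun i => pr ℳ i (g y)), ?_, ?_⟩
  · intro v hv
    simp only [Finset.mem_biUnion, Finset.mem_image] at hv
    obtain ⟨y, -, i, -, rfl⟩ := hv
    exact ⟨i, pr_mem ℳ i _⟩
  · intro m
    have hm : N.mkQ m ∈ Submodule.span k (s : Set (M ⧸ N)) := by rw [hs]; trivial
    have key : ∀ z ∈ Submodule.span k (s : Set (M ⧸ N)), ∃ c ∈ Submodule.span k
        ((s.biUnion fun y => ((DirectSum.decompose ℳ (g y)).support.image
          fun i => pr ℳ i (g y)) : Finset M) : Set M), N.mkQ c = z := by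
      intro z hz
      induction hz using Submodule.span_induction with
      | mem x hx =>
        refine ⟨g x, ?_, hg x⟩
        have h1 : g x = ∑ i ∈ (DirectSum.decompose ℳ (g x)).support, pr ℳ i (g x) := by
          conv_lhs => rw [← DirectSum.sum_support_decompose ℳ (g x)]
          rfl
        rw [h1]
        refine Submodule.sum_mem _ fun i hi => Submodule.subset_span ?_
        simp only [Finset.coe_biUnion, Finset.coe_image, Set.mem_iUnion, Set.mem_image,
          Finset.mem_coe]
        exact ⟨x, hx, i, hi, rfl⟩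
      | zero => exact ⟨0, zero_mem _, map_zero _⟩
      | add x y _ _ hx hy =>
        obtain ⟨c, hc, rfl⟩ := hx
        obtain ⟨d, hd, rfl⟩ := hy
        exact ⟨c + d, add_mem hc hd, map_add _ _ _⟩
      | smul a x _ hx =>
        obtain ⟨c, hc, rfl⟩ := hx
        exact ⟨a • c, Submodule.smul_mem _ _ hc, LinearMap.map_smul_of_tower _ _ _⟩
    obtain ⟨c, hc, hcm⟩ := key _ hm
    refine ⟨c, hc, ?_⟩
    rw [← Submodule.Quotient.mk_eq_zero N, ← Submodule.mkQ_apply, map_sub, hcm, sub_self]

/-- finitely generated graded modules are generated by finitely many homogeneous elements. -/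
theorem exists_homogeneous_generators [Module.Finite R M] :
    ∃ V : Finset M, (∀ v ∈ V, ∃ n, v ∈ ℳ n) ∧ Submodule.span R (V : Set M) = ⊤ := by
  classical
  obtain ⟨s, hs⟩ := (Module.Finite.fg_top : (⊤ : Submodule R M).FG)
  refine ⟨s.biUnion fun y => ((DirectSum.decompose ℳ y).support.image
    fun i => pr ℳ i y), ?_, ?_⟩
  · intro v hv
    simp only [Finset.mem_biUnion, Finset.mem_image] at hv
    obtain ⟨y, -, i, -, rfl⟩ := hv
    exact ⟨i, pr_mem ℳ i _⟩
  · rw [eq_top_iff, ← hs, Submodule.span_le]
    intro x hx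
    have h1 : x = ∑ i ∈ (DirectSum.decompose ℳ x).support, pr ℳ i x := by
      conv_lhs => rw [← DirectSum.sum_support_decompose ℳ x]
      rfl
    rw [h1]
    refine Submodule.sum_mem _ fun i hi => Submodule.subset_span ?_
    simp only [Finset.coe_biUnion, Finset.coe_image, Set.mem_iUnion, Set.mem_image,
      Finset.mem_coe]
    exact ⟨x, hx, i, hi, rfl⟩

/-- components of `a • v` for homogeneous `v`. -/
theorem pr_smul_of_mem {j : ℤ} {v : M} (hv : v ∈ ℳ j) (a : R) (n : ℤ) :
    pr ℳ n (a • v) = pr 𝒜 (n - j) a • v := by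
  obtain ⟨s, hs, hs'⟩ := exists_finset_sum_pr 𝒜 a
  have hmem : ∀ l, pr 𝒜 l a • v ∈ ℳ (l + j) := fun l =>
    SetLike.GradedSMul.smul_mem (A := 𝒜) (B := ℳ) (pr_mem 𝒜 l a) hv
  have h1 : a • v = ∑ l ∈ s, pr 𝒜 l a • v := by
    conv_lhs => rw [hs, Finset.sum_smul]
  rw [h1, map_sum]
  by_cases hj : n - j ∈ s
  · rw [Finset.sum_eq_single (n - j)]
    · exact pr_of_mem ℳ (by simpa using hmem (n - j))
    · intro l _ hl
      exact pr_of_mem_ne ℳ (hmem l) (fun h => hl (by omega))
    · intro h; exact absurd hj h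
  · rw [hs' _ hj, zero_smul]
    refine Finset.sum_eq_zero fun l hl => ?_
    refine pr_of_mem_ne ℳ (hmem l) (fun h => hj ?_)
    rwa [show n - j = l by omega]

/-- a finitely generated graded module is bounded below. -/
theorem exists_bound_below [Module.Finite R M] (hpos : ∀ n : ℤ, n < 0 → 𝒜 n = ⊥) :
    ∃ n₀ : ℤ, ∀ n < n₀, ∀ x ∈ ℳ n, x = 0 := by
  classical
  obtain ⟨V, hV, hspan⟩ := exists_homogeneous_generators (R := R) ℳ
  choose! e he using hV
  obtain ⟨n₀, hn₀⟩ : ∃ n₀ : ℤ, ∀ v ∈ V, n₀ ≤ e v := by
    rcases V.eq_empty_or_nonempty with h | h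
    · exact ⟨0, by simp [h]⟩
    · exact ⟨V.inf' h e, fun v hv => Finset.inf'_le _ hv⟩
  refine ⟨n₀, fun n hn x hx => ?_⟩
  have key : ∀ y ∈ Submodule.span R (V : Set M), pr ℳ n y = 0 := by
    intro y hy
    induction hy using Submodule.closure_induction with
    | zero => exact map_zero _
    | add x y _ _ hx hy => rw [map_add, hx, hy, add_zero]
    | smul_mem a v hv =>
      rw [pr_smul_of_mem 𝒜 ℳ (he v hv)]
      have h1 : pr 𝒜 (n - e v) a = 0 := by
        have h2 := pr_mem 𝒜 (n - e v) a
        have h3 := hn₀ v hv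
        exact forall_eq_zero_of_hpos 𝒜 hpos _ (by omega) _ h2
      rw [h1, zero_smul]
  have h5 := key x (by rw [hspan]; trivial)
  rwa [pr_of_mem ℳ hx] at h5

variable {ι : Type*} [Finite ι]

/-- Graded Nakayama. -/
theorem span_adjoin_eq_top [Module.Finite R M] (hpos : ∀ n : ℤ, n < 0 → 𝒜 n = ⊥)
    {D : ℤ} (hD : 0 < D) (x : ι → R) (hx : ∀ i, x i ∈ 𝒜 D) (V : Finset M)
    (hV : ∀ v ∈ V, ∃ n, v ∈ ℳ n)
    (hspan : ∀ m : M, ∃ c ∈ Submodule.span k (V : Set M),
      m - c ∈ (Ideal.span (Set.range x)) • (⊤ : Submodule R M)) :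
    Submodule.span (Algebra.adjoin k (Set.range x)) (V : Set M) = ⊤ := by
  classical
  cases nonempty_fintype ι
  obtain ⟨n₀, hn₀⟩ := exists_bound_below (R := R) 𝒜 ℳ hpos
  set W : Submodule (Algebra.adjoin k (Set.range x)) M := Submodule.span _ (V : Set M) with hW
  have hkW : ∀ (c : k) (y : M), y ∈ W → c • y ∈ W := by
    intro c y hy
    have h1 : c • y = (algebraMap k (Algebra.adjoin k (Set.range x)) c) • y := by
      rw [Subalgebra.smul_def, Subalgebra.coe_algebraMap, algebraMap_smul]
    rw [h1]
    exact W.smul_mem _ hy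
  have hxW : ∀ (i : ι) (y : M), y ∈ W → x i • y ∈ W := fun i y hy =>
    W.smul_mem (⟨x i, Algebra.subset_adjoin ⟨i, rfl⟩⟩ : Algebra.adjoin k (Set.range x)) hy
  have hc : ∀ (n : ℤ), ∀ c ∈ Submodule.span k (V : Set M), pr ℳ n c ∈ W := by
    intro n c hc
    induction hc using Submodule.span_induction with
    | mem v hv =>
      obtain ⟨j, hj⟩ := hV v hv
      by_cases h : j = n
      · subst h
        rw [pr_of_mem ℳ hj]
        exact Submodule.subset_span hv
      · rw [pr_of_mem_ne ℳ hj h]
        exact zero_mem _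
    | zero => rw [map_zero]; exact zero_mem _
    | add a b _ _ ha hb => rw [map_add]; exact add_mem ha hb
    | smul c a _ ha => rw [map_smul]; exact hkW _ _ ha
  have H : ∀ (t : ℕ) (n : ℤ), n < n₀ + t → ∀ m ∈ ℳ n, m ∈ W := by
    intro t
    induction t with
    | zero =>
      intro n hn m hm
      rw [hn₀ n (by simpa using hn) m hm]
      exact zero_mem _
    | succ t ih =>
      intro n hn m hm
      have hJ : ∀ r ∈ Ideal.span (Set.range x), ∀ y : M, pr ℳ n (r • y) ∈ W := by
        intro r hr
        induction hr using Submodule.span_induction with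
        | mem r hr =>
          obtain ⟨i, rfl⟩ := hr
          intro y
          have h1 := pr_smul 𝒜 ℳ (hx i) (n - D) y
          rw [show D + (n - D) = n by ring] at h1
          rw [h1]
          refine hxW i _ (ih (n - D) ?_ _ (pr_mem ℳ _ _))
          push_cast at hn
          omega
        | zero => intro y; rw [zero_smul, map_zero]; exact zero_mem _
        | add a b _ _ ha hb =>
          intro y; rw [add_smul, map_add]; exact add_mem (ha y) (hb y)
        | smul a r _ hr =>
          intro y
          rw [smul_eq_mul, mul_comm, mul_smul]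
          exact hr (a • y)
      have hJ' : ∀ y ∈ (Ideal.span (Set.range x)) • (⊤ : Submodule R M), pr ℳ n y ∈ W := by
        intro y hy
        refine Submodule.smul_induction_on hy (fun r hr z _ => hJ r hr z) (fun a b ha hb => ?_)
        rw [map_add]; exact add_mem ha hb
      obtain ⟨c, hc1, hc2⟩ := hspan m
      have h2 : m = pr ℳ n c + pr ℳ n (m - c) := by
        rw [← map_add, add_sub_cancel, pr_of_mem ℳ hm]
      rw [h2]
      exact add_mem (hc n c hc1) (hJ' _ hc2)
  rw [eq_top_iff]
  rintro m -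
  obtain ⟨s, hs, -⟩ := exists_finset_sum_pr ℳ m
  rw [hs]
  refine Submodule.sum_mem _ fun i _ => ?_
  exact H (i - n₀ + 1).toNat i (by omega) _ (pr_mem ℳ i m)

include ℳ in
/-- A finite graded module is finite over the algebra generated by homogeneous elements of one
positive degree which are parameters modulo the annihilator. -/
theorem finite_adjoin [IsNoetherianRing R] [Module.Finite R M] (hpos : ∀ n : ℤ, n < 0 → 𝒜 n = ⊥)
    (h0 : 𝒜 0 = Submodule.span k {(1 : R)}) {D : ℤ} (hD : 0 < D) (x : ι → R)
    (hx : ∀ i, x i ∈ 𝒜 D)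
    (hJ : irr 𝒜 ≤ (Module.annihilator R M ⊔ Ideal.span (Set.range x)).radical) :
    Module.Finite (Algebra.adjoin k (Set.range x)) M := by
  have := finite_quotient (M := M) 𝒜 hpos h0 _ hJ
  obtain ⟨V, hV, hspan⟩ := exists_homogeneous_finset (R := R) ℳ
    (N := (Ideal.span (Set.range x)) • (⊤ : Submodule R M))
  exact ⟨⟨V, span_adjoin_eq_top 𝒜 ℳ hpos hD x hx V hV hspan⟩⟩

end Graded

end K961.FinDim
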