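import Groth.Agent.GrSegre.K961.TwoDim

/-!
# Gorenstein Segre products of standard graded rings of dimension `≥ 2`
-/

set_option autoImplicit false
set_option linter.unusedSectionVars false
set_option linter.style.haveILetI false

open GrLC K961.Irr K962.Pieces K961.PerfP K963.Iface
open scoped TensorProduct

namespace K961.GorSeg

universe u

variable {k : Type u} [Field k] {R S T : Type u} [CommRing R] [Algebra k R] [CommRing S] [Algebra k S]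
  [CommRing T] [Algebra k T]
  {𝒜 : ℤ → Submodule k R} [GradedAlgebra 𝒜] {ℬ : ℤ → Submodule k S} [GradedAlgebra ℬ]
  {𝒯 : ℤ → Submodule k T} [GradedAlgebra 𝒯] {ψ : T →ₐ[k] R ⊗[k] S}
  {mR : HomogeneousIdeal 𝒜} {mS : HomogeneousIdeal ℬ} {mT : HomogeneousIdeal 𝒯}

/-- a one-dimensional piece is spanned by one element -/
theorem exists_of_finrank {n : ℕ} (E : StarInjRes 𝒜 𝒜) (m : HomogeneousIdeal 𝒜) [Module k (E.H m n)]
    [IsScalarTower k R (E.H m n)] {c : ℤ}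
    (h : haveI := Hgsmul E m n; Module.finrank k (kp 𝒜 (E.Hgr m n) c) = 1) :
    ∃ u₀ ∈ E.Hcomp m n c, u₀ ≠ 0 ∧ ∀ u ∈ E.Hcomp m n c, ∃ l : k, u = algebraMap k R l • u₀ := by
  haveI := Hgsmul E m n
  obtain ⟨⟨u₀, hu₀⟩, hu0, hspan⟩ := finrank_eq_one_iff'.mp h
  refine ⟨u₀, hu₀, fun h0 => hu0 (Subtype.ext h0), fun u hu => ?_⟩
  obtain ⟨l, hl⟩ := hspan ⟨u, hu⟩
  refine ⟨l, ?_⟩
  rw [algebraMap_smul]
  exact (congrArg Subtype.val hl).symm

theorem perf_of_segre [Algebra.FiniteType k R] [Algebra.FiniteType k S]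
    [LocCoh.IsCohenMacaulayRing R] [LocCoh.IsCohenMacaulayRing S]
    (hT : GrSeg.IsSegreRing 𝒜 ℬ 𝒯 ψ)
    (hposR : ∀ n : ℤ, n < 0 → 𝒜 n = ⊥) (h0R : 𝒜 0 = Submodule.span k {(1 : R)})
    (hposS : ∀ n : ℤ, n < 0 → ℬ n = ⊥) (h0S : ℬ 0 = Submodule.span k {(1 : S)})
    (hmR : mR.toIdeal = Ideal.span (⋃ n ∈ Set.Ioi (0 : ℤ), (𝒜 n : Set R)))
    (hmS : mS.toIdeal = Ideal.span (⋃ n ∈ Set.Ioi (0 : ℤ), (ℬ n : Set S)))
    (hmT : mT.toIdeal = Ideal.span (⋃ n ∈ Set.Ioi (0 : ℤ), (𝒯 n : Set T)))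
    (hstdR : Ideal.span (⋃ n ∈ Set.Ioi (0 : ℤ), (𝒜 n : Set R)) = Ideal.span ((𝒜 1 : Submodule k R) : Set R))
    (hstdS : Ideal.span (⋃ n ∈ Set.Ioi (0 : ℤ), (ℬ n : Set S)) = Ideal.span ((ℬ 1 : Submodule k S) : Set S))
    (I : StarInjRes 𝒜 𝒜) (J : StarInjRes ℬ ℬ) (IT : StarInjRes 𝒯 𝒯) {r s d : ℕ}
    (hr : ringKrullDim R = r) (hs : ringKrullDim S = s) (h2r : 2 ≤ r) (h2s : 2 ≤ s) (hd : d + 1 = r + s)
    {c : ℤ} {w₀ : IT.H mT d} (hw : Perf IT mT d c w₀) :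
    (∃ u₀, Perf I mR r c u₀) ∧ ∃ v₀, Perf J mS s c v₀ := by
  haveI : IsNoetherianRing R := Algebra.FiniteType.isNoetherianRing k R
  haveI : IsNoetherianRing S := Algebra.FiniteType.isNoetherianRing k S
  have hPR := PerfSeg.posField' hposR h0R hmR
  have hPS := PerfSeg.posField' hposS h0S hmS
  have hPT := PerfSeg.posField' (K962.CanSeg.hposT hT hposR) (K962.CanSeg.h0T hT h0R h0S) hmT
  letI := PerfSeg.kmod (k := k) (R := R) (I.H mR r)
  haveI := PerfSeg.kmod_tower (k := k) (R := R) (I.H mR r)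
  letI := PerfSeg.kmod (k := k) (R := S) (J.H mS s)
  haveI := PerfSeg.kmod_tower (k := k) (R := S) (J.H mS s)
  letI := PerfSeg.kmod (k := k) (R := T) (IT.H mT d)
  haveI := PerfSeg.kmod_tower (k := k) (R := T) (IT.H mT d)
  letI := Hdec I mR r
  haveI := Hgsmul I mR r
  letI := Hdec J mS s
  haveI := Hgsmul J mS s
  letI := Hdec IT mT d
  haveI := Hgsmul IT mT d
  obtain ⟨Φ, hΦ⟩ := K962.Top.top hT hmR hmS hmT (isSegreMod_ring hT) I J IT h2r h2s hd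
    (fun q hq => PerfSeg.subsingleton_H hPR hr I q (by omega))
    (fun q hq => PerfSeg.subsingleton_H hPS hs J q (by omega))
  have hΦ' : GrSeg.IsSegreMod ψ (kp 𝒜 (I.Hgr mR r)) (kp ℬ (J.Hgr mS s)) (kp 𝒯 (IT.Hgr mT d)) Φ :=
    ⟨hΦ.injective, hΦ.image_piece, hΦ.map_smul⟩
  -- the top piece is one-dimensional
  have hW1 : Module.finrank k (kp (k := k) 𝒯 (IT.Hgr mT d) c) = 1 := by
    refine finrank_eq_one (⟨w₀, hw.mem⟩ : kp (k := k) 𝒯 (IT.Hgr mT d) c)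
      (fun h => hw.ne (congrArg Subtype.val h)) ?_
    rintro ⟨w, hw'⟩
    obtain ⟨l, hl⟩ := hw.exists_smul hPT hw'
    refine ⟨l, Subtype.ext ?_⟩
    rw [algebraMap_smul] at hl
    exact hl.symm
  rw [K962.CanSeg.finrank_segreMod (𝒜 := 𝒜) (ℬ := ℬ) (𝒯 := 𝒯) (ψ := ψ) (ℳ := I.Hgr mR r)
      (𝒩 := J.Hgr mS s) hΦ c] at hW1
  obtain ⟨hU1, hV1⟩ := mul_eq_one.mp hW1
  obtain ⟨u₀, hu₀, hu0, huspan⟩ := exists_of_finrank I mR hU1
  obtain ⟨v₀, hv₀, hv0, hvspan⟩ := exists_of_finrank J mS hV1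
  -- nonzero elements live in degrees `≤ c`
  have hU : ∀ i, ∀ u ∈ I.Hcomp mR r i, u ≠ 0 → i ≤ c := by
    intro i u hu hu'
    by_contra hlt
    exact TwoDim.not_span hPR hstdR hr h2r I hu hu' (i := c) (by omega) u₀ hu₀ huspan
  have hV : ∀ i, ∀ v ∈ J.Hcomp mS s i, v ≠ 0 → i ≤ c := by
    intro i v hv hv'
    by_contra hlt
    exact TwoDim.not_span hPS hstdS hs h2s J hv hv' (i := c) (by omega) v₀ hv₀ hvspan
  have hUne : ∀ i, i ≤ c → ∃ u ∈ I.Hcomp mR r i, u ≠ 0 := by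
    intro i hi
    rcases hi.lt_or_eq with hi | rfl
    · by_contra hcon
      push Not at hcon
      exact TwoDim.not_span hPR hstdR hr h2r I hu₀ hu0 hi 0 (zero_mem _) fun u hu =>
        ⟨0, by rw [hcon u hu, smul_zero]⟩
    · exact ⟨u₀, hu₀, hu0⟩
  have hVne : ∀ i, i ≤ c → ∃ v ∈ J.Hcomp mS s i, v ≠ 0 := by
    intro i hi
    rcases hi.lt_or_eq with hi | rfl
    · by_contra hcon
      push Not at hcon
      exact TwoDim.not_span hPS hstdS hs h2s J hv₀ hv0 hi 0 (zero_mem _) fun v hv =>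
        ⟨0, by rw [hcon v hv, smul_zero]⟩
    · exact ⟨v₀, hv₀, hv0⟩
  -- the key
  have key : ∀ i, ∀ u ∈ I.Hcomp mR r i, u ≠ 0 → ∀ v ∈ J.Hcomp mS s i, v ≠ 0 →
      ∃ x ∈ 𝒜 (c - i), ∃ y ∈ ℬ (c - i), x • u ≠ 0 ∧ y • v ≠ 0 := by
    intro i u hu hu' v hv hv'
    by_contra hcon
    push Not at hcon
    obtain ⟨w, hwi, hΦw⟩ := exists_phi_eq hΦ' (n := i)
      (Submodule.subset_span ⟨u, hu, v, hv, rfl⟩ : u ⊗ₜ[k] v ∈ GrSeg.segrePiece k (kp 𝒜 (I.Hgr mR r))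
        (kp ℬ (J.Hgr mS s)) i)
    have hw0 : w ≠ 0 := by
      rintro rfl
      rw [map_zero] at hΦw
      exact K962.Dims.tmul_ne_zero hu' hv' hΦw.symm
    obtain ⟨t, ht, htw⟩ := hw.dual i w hwi hw0
    have h1 : Φ w₀ = GrSeg.act k R S (I.H mR r) (J.H mS s) (ψ t) (u ⊗ₜ[k] v) := by
      rw [← htw, hΦ.map_smul, hΦw]
    have h2 : GrSeg.act k R S (I.H mR r) (J.H mS s) (ψ t) (u ⊗ₜ[k] v) = 0 := by
      have h3 : ∀ z ∈ GrSeg.segrePiece k 𝒜 ℬ (c - i),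
          GrSeg.act k R S (I.H mR r) (J.H mS s) z (u ⊗ₜ[k] v) = 0 := by
        intro z hz
        refine Submodule.span_induction (p := fun z _ =>
          GrSeg.act k R S (I.H mR r) (J.H mS s) z (u ⊗ₜ[k] v) = 0) ?_ ?_ ?_ ?_ hz
        · rintro _ ⟨x, hx, y, hy, rfl⟩
          rw [GrSeg.act_tmul]
          by_cases hxu : x • u = 0
          · rw [hxu, TensorProduct.zero_tmul]
          · rw [hcon x hx y hy hxu, TensorProduct.tmul_zero]
        · rw [map_zero, LinearMap.zero_apply]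
        · intro a b _ _ ha hb
          rw [map_add, LinearMap.add_apply, ha, hb, add_zero]
        · intro l a _ ha
          rw [map_smul, LinearMap.smul_apply, ha, smul_zero]
      exact h3 _ (psi_mem hT ht)
    rw [h2] at h1
    exact hw.ne (hΦ.injective (h1.trans (map_zero Φ).symm))
  refine ⟨⟨u₀, hu₀, hu0, fun i u hu hu' => ?_⟩, ⟨v₀, hv₀, hv0, fun i v hv hv' => ?_⟩⟩
  · obtain ⟨v, hv, hv'⟩ := hVne i (hU i u hu hu')
    obtain ⟨x, hx, -, -, hxu, -⟩ := key i u hu hu' v hv hv'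
    have h1 : x • u ∈ I.Hcomp mR r c := by
      have := SetLike.GradedSMul.smul_mem (A := 𝒜) (B := I.Hgr mR r) hx (show u ∈ I.Hgr mR r i from hu)
      rw [vadd_eq_add, sub_add_cancel] at this
      exact this
    obtain ⟨l, hl⟩ := huspan _ h1
    have hl0 : l ≠ 0 := by
      rintro rfl
      rw [map_zero, zero_smul] at hl
      exact hxu hl
    refine ⟨l⁻¹ • x, Submodule.smul_mem _ _ hx, ?_⟩
    rw [smul_assoc, hl, algebraMap_smul, smul_smul, inv_mul_cancel₀ hl0, one_smul]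
  · obtain ⟨u, hu, hu'⟩ := hUne i (hV i v hv hv')
    obtain ⟨-, -, y, hy, -, hyv⟩ := key i u hu hu' v hv hv'
    have h1 : y • v ∈ J.Hcomp mS s c := by
      have := SetLike.GradedSMul.smul_mem (A := ℬ) (B := J.Hgr mS s) hy (show v ∈ J.Hgr mS s i from hv)
      rw [vadd_eq_add, sub_add_cancel] at this
      exact this
    obtain ⟨l, hl⟩ := hvspan _ h1
    have hl0 : l ≠ 0 := by
      rintro rfl
      rw [map_zero, zero_smul] at hl
      exact hyv hl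
    refine ⟨l⁻¹ • y, Submodule.smul_mem _ _ hy, ?_⟩
    rw [smul_assoc, hl, algebraMap_smul, smul_smul, inv_mul_cancel₀ hl0, one_smul]

end K961.GorSeg
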