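import Mathlib.RingTheory.GradedAlgebra.Homogeneous.Ideal
import Mathlib.RingTheory.GradedAlgebra.Radical
import Mathlib.RingTheory.Ideal.MinimalPrime.Noetherian
import Mathlib.RingTheory.FiniteType
import Mathlib.LinearAlgebra.Span.Basic

/-!
# The irrelevant ideal of a nonnegatively `ℤ`-graded algebra over a field with `R_0 = k`
-/

set_option autoImplicit false

open DirectSum

namespace K961.Irr

universe u v

section Defs

variable {R : Type*} [CommRing R] {σ : Type*} [SetLike σ R] (𝒜 : ℤ → σ)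

/-- The irrelevant ideal, written exactly as in the statements. -/
def irr : Ideal R := Ideal.span (⋃ n ∈ Set.Ioi (0 : ℤ), (𝒜 n : Set R))

theorem irr_eq : irr 𝒜 = Ideal.span (⋃ n ∈ Set.Ioi (0 : ℤ), (𝒜 n : Set R)) := rfl

theorem mem_irr_of_mem {n : ℤ} (hn : 0 < n) {x : R} (hx : x ∈ 𝒜 n) : x ∈ irr 𝒜 :=
  Ideal.subset_span (Set.mem_iUnion₂.mpr ⟨n, hn, hx⟩)

theorem irr_le_iff (I : Ideal R) : irr 𝒜 ≤ I ↔ ∀ n : ℤ, 0 < n → ∀ x ∈ 𝒜 n, x ∈ I := by
  rw [irr, Ideal.span_le, Set.iUnion₂_subset_iff]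
  rfl

variable [AddSubgroupClass σ R] [GradedRing 𝒜]

theorem isHomogeneous_irr : (irr 𝒜).IsHomogeneous 𝒜 := by
  refine Ideal.homogeneous_span 𝒜 _ ?_
  intro x hx
  obtain ⟨n, -, hx⟩ := Set.mem_iUnion₂.mp hx
  exact ⟨n, hx⟩

/-- components of an element: all components in nonzero degrees lie in the irrelevant ideal when the
grading is nonnegative. -/
theorem sub_component_zero_mem_irr (hpos : ∀ n : ℤ, n < 0 → ∀ x ∈ 𝒜 n, x = 0) (x : R) :
    x - (decompose 𝒜 x 0 : R) ∈ irr 𝒜 := by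
  classical
  induction x using DirectSum.Decomposition.inductionOn 𝒜 with
  | zero => simp
  | homogeneous m =>
    rename_i i
    rcases lt_trichotomy i 0 with hi | hi | hi
    · have := hpos i hi m m.2
      rw [this]; simp
    · subst hi
      rw [DirectSum.decompose_coe, DirectSum.of_eq_same]
      simp
    · rw [DirectSum.decompose_coe, DirectSum.of_eq_of_ne _ _ _ hi.ne]
      simpa using mem_irr_of_mem 𝒜 hi m.2
  | add a b ha hb =>
    rw [DirectSum.decompose_add, DirectSum.add_apply]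
    have := add_mem ha hb
    convert this using 1
    push_cast
    ring

theorem component_zero_of_mem_irr (hpos : ∀ n : ℤ, n < 0 → ∀ x ∈ 𝒜 n, x = 0) {x : R}
    (hx : x ∈ irr 𝒜) : (decompose 𝒜 x 0 : R) = 0 := by
  classical
  refine Submodule.span_induction (p := fun x _ => (decompose 𝒜 x 0 : R) = 0) ?_ ?_ ?_ ?_ hx
  · intro x hx
    obtain ⟨n, hn, hx⟩ := Set.mem_iUnion₂.mp hx
    exact DirectSum.decompose_of_mem_ne 𝒜 hx (ne_of_gt hn)
  · simp
  · intro x y _ _ hx hy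
    rw [DirectSum.decompose_add, DirectSum.add_apply]
    push_cast
    rw [hx, hy, add_zero]
  · intro a x _ hx
    rw [smul_eq_mul]
    have key : ∀ (i : ℤ) (m : R), m ∈ 𝒜 i → (decompose 𝒜 (m * x) 0 : R) = 0 := by
      intro i m hm
      rcases lt_trichotomy i 0 with hi | hi | hi
      · rw [hpos i hi m hm]; simp
      · subst hi
        rw [DirectSum.coe_decompose_mul_of_left_mem_zero 𝒜 hm, hx, mul_zero]
      · have h1 : (decompose 𝒜 (m * x) (i + (0 - i)) : R) = m * decompose 𝒜 x (0 - i) :=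
          DirectSum.coe_decompose_mul_add_of_left_mem 𝒜 hm
        rw [show i + (0 - i) = 0 by ring] at h1
        rw [h1, hpos (0 - i) (by omega) _ (decompose 𝒜 x (0 - i)).2, mul_zero]
    rw [← DirectSum.sum_support_decompose 𝒜 a, Finset.sum_mul, DirectSum.decompose_sum,
      DFinsupp.finsetSum_apply]
    push_cast
    exact Finset.sum_eq_zero fun i _ => key i _ (decompose 𝒜 a i).2

theorem mem_irr_iff (hpos : ∀ n : ℤ, n < 0 → ∀ x ∈ 𝒜 n, x = 0) {x : R} :
    x ∈ irr 𝒜 ↔ (decompose 𝒜 x 0 : R) = 0 := by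
  refine ⟨component_zero_of_mem_irr 𝒜 hpos, fun h => ?_⟩
  have := sub_component_zero_mem_irr 𝒜 hpos x
  rwa [h, sub_zero] at this

end Defs

section Field

variable {k : Type u} [Field k] {R : Type u} [CommRing R] [Algebra k R] (𝒜 : ℤ → Submodule k R)

theorem forall_eq_zero_of_hpos (hpos : ∀ n : ℤ, n < 0 → 𝒜 n = ⊥) :
    ∀ n : ℤ, n < 0 → ∀ x ∈ 𝒜 n, x = 0 := fun n hn x hx => by
  rw [hpos n hn] at hx
  exact (Submodule.mem_bot k).mp hx

variable [GradedAlgebra 𝒜]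

theorem exists_sub_algebraMap_mem_irr (hpos : ∀ n : ℤ, n < 0 → 𝒜 n = ⊥)
    (h0 : 𝒜 0 = Submodule.span k {(1 : R)}) (x : R) :
    ∃ c : k, x - algebraMap k R c ∈ irr 𝒜 := by
  have h1 := sub_component_zero_mem_irr 𝒜 (forall_eq_zero_of_hpos 𝒜 hpos) x
  have h2 : (decompose 𝒜 x 0 : R) ∈ Submodule.span k {(1 : R)} := h0 ▸ (decompose 𝒜 x 0).2
  obtain ⟨c, hc⟩ := Submodule.mem_span_singleton.mp h2
  refine ⟨c, ?_⟩
  rwa [← hc, ← Algebra.algebraMap_eq_smul_one] at h1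

theorem one_notMem_irr [Nontrivial R] (hpos : ∀ n : ℤ, n < 0 → 𝒜 n = ⊥) : (1 : R) ∉ irr 𝒜 := by
  rw [mem_irr_iff 𝒜 (forall_eq_zero_of_hpos 𝒜 hpos),
    DirectSum.decompose_of_mem_same 𝒜 (SetLike.one_mem_graded 𝒜)]
  exact one_ne_zero

theorem isMaximal_irr [Nontrivial R] (hpos : ∀ n : ℤ, n < 0 → 𝒜 n = ⊥)
    (h0 : 𝒜 0 = Submodule.span k {(1 : R)}) : (irr 𝒜).IsMaximal := by
  rw [Ideal.isMaximal_iff]
  refine ⟨one_notMem_irr 𝒜 hpos, fun J x hJ hx hxJ => ?_⟩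
  obtain ⟨c, hc⟩ := exists_sub_algebraMap_mem_irr 𝒜 hpos h0 x
  have h1 : algebraMap k R c ∈ J := by
    have := J.sub_mem hxJ (hJ hc)
    rwa [sub_sub_cancel] at this
  have hc0 : c ≠ 0 := by
    rintro rfl
    apply hx
    simpa using hc
  have := J.mul_mem_left (algebraMap k R c⁻¹) h1
  rwa [← map_mul, inv_mul_cancel₀ hc0, map_one] at this

/-- A proper homogeneous ideal is contained in the irrelevant ideal. -/
theorem le_irr_of_isHomogeneous (hpos : ∀ n : ℤ, n < 0 → 𝒜 n = ⊥)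
    (h0 : 𝒜 0 = Submodule.span k {(1 : R)}) {I : Ideal R} (hI : I.IsHomogeneous 𝒜) (hne : I ≠ ⊤) :
    I ≤ irr 𝒜 := by
  intro x hx
  rw [mem_irr_iff 𝒜 (forall_eq_zero_of_hpos 𝒜 hpos)]
  have h1 : (decompose 𝒜 x 0 : R) ∈ I := hI 0 hx
  have h2 : (decompose 𝒜 x 0 : R) ∈ Submodule.span k {(1 : R)} := h0 ▸ (decompose 𝒜 x 0).2
  obtain ⟨c, hc⟩ := Submodule.mem_span_singleton.mp h2
  rw [← hc] at h1 ⊢
  by_contra hne'
  have hc0 : c ≠ 0 := by rintro rfl; simp at hne'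
  apply hne
  rw [Ideal.eq_top_iff_one]
  have := I.mul_mem_left (algebraMap k R c⁻¹) h1
  rwa [Algebra.smul_def, mul_one, ← map_mul, inv_mul_cancel₀ hc0, map_one] at this

end Field

end K961.Irr
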