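import Groth.Agent.GrSegre.K961.Avoid
import Groth.Agent.GrSegre.K961.Irr
import Mathlib.RingTheory.KrullDimension.NonZeroDivisors
import Mathlib.RingTheory.KrullDimension.Zero
import Mathlib.Order.KrullDimension
import Mathlib.RingTheory.Ideal.MinimalPrime.Noetherian
import Mathlib.RingTheory.FiniteType

/-!
# Homogeneous systems of parameters (modulo a homogeneous ideal)
-/

set_option autoImplicit false

open DirectSum K961.Irr

namespace K961.Hsop

universe u v

variable {k : Type u} [Field k] {R : Type u} [CommRing R] [Algebra k R] (𝒜 : ℤ → Submodule k R)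
  [GradedAlgebra 𝒜]

/-- minimal primes over a homogeneous ideal are homogeneous. -/
theorem isHomogeneous_of_mem_minimalPrimes {I : Ideal R} (hI : I.IsHomogeneous 𝒜) {p : Ideal R}
    (hp : p ∈ I.minimalPrimes) : p.IsHomogeneous 𝒜 := by
  have h1 : (p.homogeneousCore 𝒜).toIdeal.IsPrime := Ideal.IsPrime.homogeneousCore hp.1.1
  have h2 : I ≤ (p.homogeneousCore 𝒜).toIdeal := by
    rw [← hI.toIdeal_homogeneousCore_eq_self]
    exact Ideal.homogeneousCore_mono 𝒜 hp.1.2
  have h3 := hp.2 ⟨h1, h2⟩ (Ideal.toIdeal_homogeneousCore_le 𝒜 p)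
  have h4 : (p.homogeneousCore 𝒜).toIdeal = p := le_antisymm (Ideal.toIdeal_homogeneousCore_le 𝒜 p) h3
  rw [← h4]
  exact (p.homogeneousCore 𝒜).isHomogeneous

/-- the dimension drops modulo an element outside all minimal primes other than a maximal one. -/
theorem ringKrullDim_quotient_sup_le {R : Type*} [CommRing R] {I m : Ideal R} (hm : m.IsMaximal)
    {n : ℕ} (h : ringKrullDim (R ⧸ I) ≤ ((n + 1 : ℕ) : WithBot ℕ∞)) {x : R}
    (hx : ∀ p ∈ I.minimalPrimes, p ≠ m → x ∉ p) :
    ringKrullDim (R ⧸ (I ⊔ Ideal.span {x})) ≤ (n : WithBot ℕ∞) := by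
  rw [ringKrullDim_quotient] at h ⊢
  refine iSup_le fun l => ?_
  by_contra hcon
  have hl : n + 1 ≤ l.length := by
    rw [not_le] at hcon
    have : n < l.length := by exact_mod_cast hcon
    omega
  -- the head of the chain
  have hq0 : (I ⊔ Ideal.span {x} : Ideal R) ≤ l.head.1.asIdeal :=
    (PrimeSpectrum.mem_zeroLocus _ _).mp l.head.2
  have hIq : I ≤ l.head.1.asIdeal := le_sup_left.trans hq0
  have hxq : x ∈ l.head.1.asIdeal :=
    hq0 (Ideal.mem_sup_right (Ideal.mem_span_singleton_self x))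
  obtain ⟨p, hp, hpq⟩ := Ideal.exists_minimalPrimes_le hIq
  have hpne : p ≠ l.head.1.asIdeal := by
    intro heq
    by_cases hpm : p = m
    · -- then the chain has length zero
      have hlt : l.head < l ⟨1, by omega⟩ := by
        rw [RelSeries.head]
        exact l.strictMono (by rw [Fin.lt_def]; simp)
      have h3 : l.head.1.asIdeal < (l ⟨1, by omega⟩).1.asIdeal := hlt
      rw [← heq, hpm] at h3
      exact (l ⟨1, by omega⟩).1.2.ne_top (hm.1.2 _ h3)
    · exact hx p hp hpm (heq ▸ hxq)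
  have hlt : p < l.head.1.asIdeal := lt_of_le_of_ne hpq hpne
  let f : PrimeSpectrum.zeroLocus (R := R) (I ⊔ Ideal.span {x} : Ideal R) → PrimeSpectrum.zeroLocus (R := R) (I : Set R) :=
    fun y => ⟨y.1, (PrimeSpectrum.mem_zeroLocus _ _).mpr
      (SetLike.coe_subset_coe.mpr (le_sup_left.trans ((PrimeSpectrum.mem_zeroLocus _ _).mp y.2)))⟩
  have hf : StrictMono f := fun a b hab => hab
  let p' : PrimeSpectrum.zeroLocus (R := R) (I : Set R) :=
    ⟨⟨p, hp.1.1⟩, (PrimeSpectrum.mem_zeroLocus _ _).mpr (SetLike.coe_subset_coe.mpr hp.1.2)⟩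
  let L := (l.map f hf).cons p' (by
    change p' < (l.map f hf).head
    rw [LTSeries.head_map]
    exact hlt)
  have hL : L.length = l.length + 1 := by
    simp [L]
  have := Order.LTSeries.length_le_krullDim L
  rw [hL] at this
  have h5 := this.trans h
  rw [Nat.cast_le] at h5
  omega

variable {𝒜} in
theorem exists_hsop [IsNoetherianRing R] (hpos : ∀ n : ℤ, n < 0 → 𝒜 n = ⊥)
    (h0 : 𝒜 0 = Submodule.span k {(1 : R)}) (n : ℕ) : ∀ (I : Ideal R), I.IsHomogeneous 𝒜 →
      ringKrullDim (R ⧸ I) ≤ (n : WithBot ℕ∞) →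
      ∃ x : Fin n → R, (∀ i, ∃ d : ℤ, 0 < d ∧ x i ∈ 𝒜 d) ∧
        irr 𝒜 ≤ (I ⊔ Ideal.span (Set.range x)).radical := by
  classical
  rcases subsingleton_or_nontrivial R with hR | hR
  · intro I hI hd
    refine ⟨fun _ => 0, fun i => ⟨1, one_pos, zero_mem _⟩, ?_⟩
    intro x _
    rw [Subsingleton.elim x 0]
    exact zero_mem _
  have hm := isMaximal_irr 𝒜 hpos h0
  induction n with
  | zero =>
    intro I hI hd
    refine ⟨Fin.elim0, fun i => i.elim0, ?_⟩
    rw [Set.range_eq_empty, Ideal.span_empty, sup_bot_eq, ← Ideal.sInf_minimalPrimes]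
    refine le_sInf fun p hp => ?_
    have hpprime := hp.1.1
    have hple : p ≤ irr 𝒜 := le_irr_of_isHomogeneous 𝒜 hpos h0
      (isHomogeneous_of_mem_minimalPrimes 𝒜 hI hp) hp.1.1.ne_top
    -- `p` is maximal since the quotient has dimension zero
    have hple' : Ring.KrullDimLE 0 (R ⧸ I) := by
      rw [Ring.krullDimLE_iff]; simpa using hd
    have hIp : I ≤ p := hp.1.2
    have hpm : (p.map (Ideal.Quotient.mk I)).IsMaximal := by
      have : (p.map (Ideal.Quotient.mk I)).IsPrime :=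
        Ideal.map_isPrime_of_surjective Ideal.Quotient.mk_surjective (by rwa [Ideal.mk_ker])
      infer_instance
    have hpmax : p.IsMaximal := by
      have h6 := Ideal.comap_isMaximal_of_surjective (Ideal.Quotient.mk I)
        Ideal.Quotient.mk_surjective (K := p.map (Ideal.Quotient.mk I))
      rwa [Ideal.comap_map_of_surjective _ Ideal.Quotient.mk_surjective, ← RingHom.ker_eq_comap_bot,
        Ideal.mk_ker, sup_eq_left.mpr hIp] at h6
    exact (hpmax.eq_of_le hm.ne_top hple).ge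
  | succ n ih =>
    intro I hI hd
    have hfin := Ideal.finite_minimalPrimes_of_isNoetherianRing (R := R) I
    obtain ⟨d, hd0, x, hx, hxS⟩ := Avoid.exists_homogeneous_avoid 𝒜 _
      (hfin.toFinset.filter (fun p => p ≠ irr 𝒜)) rfl
      (by
        intro p hp
        rw [Finset.mem_filter, Set.Finite.mem_toFinset] at hp
        exact hp.1.1.1)
      (by
        intro p hp
        rw [Finset.mem_filter, Set.Finite.mem_toFinset] at hp
        by_contra hcon
        push Not at hcon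
        have h1 : irr 𝒜 ≤ p := (irr_le_iff 𝒜 p).mpr fun n hn x hx => hcon n hn x hx
        have hple : p ≤ irr 𝒜 := le_irr_of_isHomogeneous 𝒜 hpos h0
          (isHomogeneous_of_mem_minimalPrimes 𝒜 hI hp.1) hp.1.1.1.ne_top
        exact hp.2 (le_antisymm hple h1))
    have hdim := ringKrullDim_quotient_sup_le hm hd (x := x) (by
      intro p hp hpm
      exact hxS p (by rw [Finset.mem_filter, Set.Finite.mem_toFinset]; exact ⟨hp, hpm⟩))
    obtain ⟨y, hy, hyr⟩ := ih (I ⊔ Ideal.span {x})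
      (hI.sup (Ideal.homogeneous_span 𝒜 _ (by
        rintro _ rfl
        exact ⟨d, hx⟩))) hdim
    refine ⟨Fin.cons x y, ?_, ?_⟩
    · intro i
      refine Fin.cases ?_ ?_ i
      · exact ⟨d, hd0, hx⟩
      · intro j
        exact hy j
    · refine hyr.trans (Ideal.radical_mono ?_)
      rw [Fin.range_cons, Ideal.span_insert, sup_assoc]

variable {𝒜} in
/-- Homogeneous parameters all of one degree, a multiple of a prescribed `q`. -/
theorem exists_hsop_deg [IsNoetherianRing R] (hpos : ∀ n : ℤ, n < 0 → 𝒜 n = ⊥)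
    (h0 : 𝒜 0 = Submodule.span k {(1 : R)}) (n : ℕ) (I : Ideal R) (hI : I.IsHomogeneous 𝒜)
    (hd : ringKrullDim (R ⧸ I) ≤ (n : WithBot ℕ∞)) :
    ∃ D₀ : ℕ, 0 < D₀ ∧ ∀ q : ℕ, 0 < q → ∃ x : Fin n → R, (∀ i, x i ∈ 𝒜 ((q * D₀ : ℕ) : ℤ)) ∧
        irr 𝒜 ≤ (I ⊔ Ideal.span (Set.range x)).radical := by
  obtain ⟨x, hx, hr⟩ := exists_hsop hpos h0 n I hI hd
  choose d hd0 hxd using hx
  refine ⟨∏ i, (d i).toNat, Finset.prod_pos fun i _ => by have := hd0 i; omega, fun q hq => ?_⟩
  refine ⟨fun i => x i ^ (q * ∏ j ∈ Finset.univ.erase i, (d j).toNat), fun i => ?_, ?_⟩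
  · have h1 := Avoid.pow_mem 𝒜 (hxd i) (q * ∏ j ∈ Finset.univ.erase i, (d j).toNat)
    convert h1 using 2
    rw [← Finset.mul_prod_erase Finset.univ (fun i => (d i).toNat) (Finset.mem_univ i)]
    have h2 : (((d i).toNat : ℕ) : ℤ) = d i := Int.toNat_of_nonneg (hd0 i).le
    push_cast at h2 ⊢
    rw [h2]
    ring
  · refine hr.trans ?_
    rw [Ideal.radical_le_radical_iff]
    refine sup_le (le_sup_left.trans Ideal.le_radical) ?_
    rw [Ideal.span_le]
    rintro _ ⟨i, rfl⟩
    refine ⟨q * ∏ j ∈ Finset.univ.erase i, (d j).toNat, Ideal.mem_sup_right (Ideal.subset_span ⟨i, rfl⟩)⟩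

end K961.Hsop
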