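import Groth.Agent.GrLC.K762.AInv
import Groth.Agent.GrLC.K762.Ext
import Groth.Agent.GrLC.K762.Soc
import Groth.Agent.GrLC.K762.VerP

/-!
# Gorenstein graded rings and perfect pairings into top local cohomology
-/

set_option autoImplicit false
set_option linter.unusedSectionVars false
set_option linter.style.haveILetI false

open DirectSum GrLC

namespace K961.PerfP

open K762.Base K762.Nak K762.Reg K762.Tower K762.AInv K762.Soc K762.Pair K963.Iface RingTheory.Sequence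

universe u

variable {k : Type u} [Field k] {R : Type u} [CommRing R] [Algebra k R]
  {σ : Type u} [SetLike σ R] [AddSubgroupClass σ R] {𝒜 : ℤ → σ} [GradedRing 𝒜]
  {m : HomogeneousIdeal 𝒜} {n : ℕ}

/-- `u₀` is a homogeneous element of degree `a` of `H^n_m(R)` of which every nonzero homogeneous element
has it as a multiple. -/
structure Perf (E : StarInjRes 𝒜 𝒜) (m : HomogeneousIdeal 𝒜) (n : ℕ) (a : ℤ) (u₀ : E.H m n) : Prop where
  mem : u₀ ∈ E.Hcomp m n a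
  ne : u₀ ≠ 0
  dual : ∀ i, ∀ u ∈ E.Hcomp m n i, u ≠ 0 → ∃ r ∈ 𝒜 (a - i), r • u = u₀

theorem Perf.top {E : StarInjRes 𝒜 𝒜} {a : ℤ} {u₀ : E.H m n} (h : PosField k 𝒜 m.toIdeal)
    (hP : Perf E m n a u₀) {i : ℤ} (hi : a < i) : E.Hcomp m n i = ⊥ := by
  rw [eq_bot_iff]
  intro u hu
  by_contra h0
  obtain ⟨r, hr, hru⟩ := hP.dual i u hu h0
  rw [h.pos _ (by omega) r hr, zero_smul] at hru
  exact hP.ne hru.symm

theorem Hgr_eq_bot_iff {M : Type u} [AddCommGroup M] [Module R M] {τ : Type u} [SetLike τ M]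
    [AddSubgroupClass τ M] {ℳ : ℤ → τ} [Decomposition ℳ] [SetLike.GradedSMul 𝒜 ℳ]
    (E : StarInjRes 𝒜 ℳ) (i : ℕ) {g : ℤ} : E.Hgr m i g = ⊥ ↔ E.Hcomp m i g = ⊥ := by
  constructor
  · intro h
    rw [eq_bot_iff]
    intro x hx
    have : x ∈ E.Hgr m i g := hx
    rw [h] at this
    exact this
  · intro h
    rw [eq_bot_iff]
    intro x hx
    have : x ∈ E.Hcomp m i g := hx
    rw [h] at this
    exact this

theorem Perf.endDeg_eq {E : StarInjRes 𝒜 𝒜} {a : ℤ} {u₀ : E.H m n} (h : PosField k 𝒜 m.toIdeal)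
    (hP : Perf E m n a u₀) : endDeg (E.Hgr m n) = ((a : WithTop ℤ) : WithBot (WithTop ℤ)) := by
  rw [K763.HGr.endDeg_eq_iff]
  refine ⟨fun h0 => hP.ne ?_, fun i hi => (Hgr_eq_bot_iff E n).mpr (hP.top h hi)⟩
  have h1 := hP.mem
  rw [(Hgr_eq_bot_iff E n).mp h0] at h1
  exact h1

/-- The top piece is `k u₀`. -/
theorem Perf.exists_smul {E : StarInjRes 𝒜 𝒜} {a : ℤ} {u₀ : E.H m n} (h : PosField k 𝒜 m.toIdeal)
    (hP : Perf E m n a u₀) {u : E.H m n} (hu : u ∈ E.Hcomp m n a) : ∃ c : k, u = algebraMap k R c • u₀ := by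
  by_cases h0 : u = 0
  · exact ⟨0, by rw [h0, map_zero, zero_smul]⟩
  obtain ⟨r, hr, hru⟩ := hP.dual a u hu h0
  rw [sub_self] at hr
  obtain ⟨c, rfl⟩ := h.surj r hr
  have hc : c ≠ 0 := by
    rintro rfl
    rw [map_zero, zero_smul] at hru
    exact hP.ne hru.symm
  refine ⟨c⁻¹, ?_⟩
  rw [← hru, smul_smul, ← map_mul, inv_mul_cancel₀ hc, map_one, one_smul]

/-- Gorenstein graded rings have perfect pairings. -/
theorem exists_of_gorenstein [LocCoh.IsGorensteinRing R] (h : PosField k 𝒜 m.toIdeal)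
    (hn : ringKrullDim R = n) (E : StarInjRes 𝒜 𝒜) : ∃ (a : ℤ) (u₀ : E.H m n), Perf E m n a u₀ := by
  haveI := K762.VerP.cm_of_gorenstein (R := R) inferInstance
  haveI := K762.Ext.nontrivial_of_dim hn
  obtain ⟨D, hD, -, -, θ, hθ, ⟨N, hN⟩, hreg⟩ := K762.Ext.exists_parameters h hn one_pos 0
  have hdim : ringKrullDim R < ⊤ := by
    rw [hn]; exact WithBot.coe_lt_coe.mpr (ENat.natCast_lt_top n)
  obtain ⟨s, w₀, hs⟩ := K762.Soc.exists_of_gorenstein hdim h hθ (fun _ => hD) hreg hN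
  have hθm : ∀ i, θ i ∈ m.toIdeal := fun i => h.mem_of_pos hD (hθ i)
  obtain ⟨-, ψ, hψk, hψr, hψd, -⟩ := tower m n θ (fun _ => D) hθ hθm hreg (fun x => ⟨N, fun r hr => by
    rw [smul_eq_mul, smul_eq_mul, Ideal.mul_top]
    exact Ideal.mul_mem_right _ _ (hN hr)⟩) E
  have hJ : ∀ x, ψ x = 0 ↔ x ∈ Ideal.span (Set.range θ) := fun x => by
    rw [← LinearMap.mem_ker, hψk, smul_eq_mul, Ideal.mul_top]
  letI := Hdec E m n
  haveI := Hgsmul E m n
  set Sg : ℤ := ∑ _i : Fin n, D with hSg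
  have hdeg : IsGrHomDeg 𝒜 (E.Hgr m n) ψ (- Sg) := by
    intro g x hx
    have := hψd g x hx
    rw [sub_eq_add_neg] at this
    exact this
  refine ⟨s - Sg, ψ w₀, hψd s w₀ hs.mem, fun h0 => hs.nmem ((hJ _).mp h0), ?_⟩
  intro i u hu hu0
  obtain ⟨j, hj, r, hr, hr0, hsoc⟩ := K762.AInv.exists_socle h hu0 (by rw [gam_H]; exact Submodule.mem_top)
  obtain ⟨x, hx⟩ := (hψr (r • u)).mpr fun i => hsoc _ (hθm i)
  -- homogeneous preimage
  have hru : r • u ∈ E.Hgr m n (j + i) := by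
    have h1 := SetLike.GradedSMul.smul_mem (A := 𝒜) (B := E.Hgr m n) hr (show u ∈ E.Hgr m n i from hu)
    exact h1
  have hx' : ψ (pr 𝒜 (j + i + Sg) x) = r • u := by
    rw [K762.AInv.map_pr hdeg, hx, add_neg_cancel_right, pr_of_mem hru]
  have hxJ : pr 𝒜 (j + i + Sg) x ∉ Ideal.span (Set.range θ) := fun h0 => hr0 (by
    rw [← hx', (hJ _).mpr h0])
  obtain ⟨y, hy, hxy⟩ := hs.dual _ _ (pr_mem _ x) hxJ
  refine ⟨y * r, ?_, ?_⟩
  · have h2 := SetLike.mul_mem_graded hy hr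
    have h3 : s - (j + i + Sg) + j = s - Sg - i := by ring
    rwa [h3] at h2
  · rw [mul_smul, ← hx', ← map_smul, ← sub_eq_zero, ← map_sub, hJ, smul_eq_mul, mul_comm y]
    exact hxy

/-- Cohen–Macaulay graded rings with perfect pairings are Gorenstein. -/
theorem isGorensteinRing [LocCoh.IsCohenMacaulayRing R] (h : PosField k 𝒜 m.toIdeal)
    (hn : ringKrullDim R = n) (E : StarInjRes 𝒜 𝒜) {a : ℤ} {u₀ : E.H m n} (hP : Perf E m n a u₀) :
    LocCoh.IsGorensteinRing R := by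
  haveI := K762.Ext.nontrivial_of_dim hn
  obtain ⟨D, hD, -, -, θ, hθ, ⟨N, hN⟩, hreg⟩ := K762.Ext.exists_parameters h hn one_pos 0
  have hθm : ∀ i, θ i ∈ m.toIdeal := fun i => h.mem_of_pos hD (hθ i)
  obtain ⟨-, ψ, hψk, hψr, hψd, -⟩ := tower m n θ (fun _ => D) hθ hθm hreg (fun x => ⟨N, fun r hr => by
    rw [smul_eq_mul, smul_eq_mul, Ideal.mul_top]
    exact Ideal.mul_mem_right _ _ (hN hr)⟩) E
  have hJ : ∀ x, ψ x = 0 ↔ x ∈ Ideal.span (Set.range θ) := fun x => by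
    rw [← LinearMap.mem_ker, hψk, smul_eq_mul, Ideal.mul_top]
  letI := Hdec E m n
  haveI := Hgsmul E m n
  set Sg : ℤ := ∑ _i : Fin n, D with hSg
  have hdeg : IsGrHomDeg 𝒜 (E.Hgr m n) ψ (- Sg) := by
    intro g x hx
    have := hψd g x hx
    rw [sub_eq_add_neg] at this
    exact this
  -- `u₀` is in the socle
  have hsoc : ∀ i : ℤ, 0 < i → ∀ r ∈ 𝒜 i, r • u₀ = 0 := by
    intro i hi r hr
    have h1 := SetLike.GradedSMul.smul_mem (A := 𝒜) (B := E.Hgr m n) hr (show u₀ ∈ E.Hgr m n a from hP.mem)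
    have h2 : r • u₀ ∈ E.Hcomp m n (i + a) := h1
    rw [hP.top h (by omega : a < i + a)] at h2
    exact h2
  obtain ⟨x, hx⟩ := (hψr u₀).mpr fun i => hsoc D hD _ (hθ i)
  have hx' : ψ (pr 𝒜 (a + Sg) x) = u₀ := by
    rw [K762.AInv.map_pr hdeg, hx, add_neg_cancel_right, pr_of_mem (show u₀ ∈ E.Hgr m n a from hP.mem)]
  have hs : SocP 𝒜 (Ideal.span (Set.range θ)) (a + Sg) (pr 𝒜 (a + Sg) x) := by
    refine ⟨isHomogeneous_span_range (w := fun _ => D) hθ, pr_mem _ x, fun h0 => hP.ne ?_, ?_⟩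
    · rw [← hx', (hJ _).mpr h0]
    · intro i z hz hzJ
      obtain ⟨r, hr, hrz⟩ := hP.dual (i - Sg) (ψ z) (hψd i z hz) (fun h0 => hzJ ((hJ z).mp h0))
      refine ⟨r, ?_, ?_⟩
      · have h3 : a - (i - Sg) = a + Sg - i := by ring
        rwa [h3] at hr
      · rw [← hJ, map_sub, hx', ← hrz, mul_comm, ← smul_eq_mul, map_smul, sub_self]
  obtain ⟨lam, hlam, -⟩ := hs.exists_canPair h
  have hnoeth : IsNoetherianRing R := inferInstance
  refine K762.Gor.isGorensteinRing h hθ (fun _ => hD) ⟨?_, hreg, ?_⟩ hlam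
  · exact K762.Nak.bddBelow_of_finite (𝒜 := 𝒜) (ℳ := 𝒜) h.pos
  · exact K762.Nak.finite_quotient (M := R) h.exists_sub_mem N _ (by
      rw [smul_eq_mul, smul_eq_mul, Ideal.mul_top, Ideal.mul_top]; exact hN)

end K961.PerfP
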