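import Groth.Agent.GrSegre.K961.SocGr
import Groth.Agent.GrSegre.K962.Dims
import Mathlib.LinearAlgebra.Contraction

/-!
# Nondegenerate pairings on Segre products
-/

set_option autoImplicit false
set_option linter.unusedSectionVars false

open K961.Irr K962.Basic K962.Pieces K961.SocGr
open scoped TensorProduct

namespace K961.SegSoc

universe u

section Lin

variable {k : Type u} [Field k] {V₁ V₂ W₁ W₂ : Type u} [AddCommGroup V₁] [Module k V₁]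
  [AddCommGroup V₂] [Module k V₂] [AddCommGroup W₁] [Module k W₁] [AddCommGroup W₂] [Module k W₂]

theorem map_injective {f : V₁ →ₗ[k] W₁} {g : V₂ →ₗ[k] W₂} (hf : Function.Injective f)
    (hg : Function.Injective g) : Function.Injective (TensorProduct.map f g) := by
  have : TensorProduct.map f g = (LinearMap.lTensor W₁ g) ∘ₗ (LinearMap.rTensor V₂ f) := by
    rw [LinearMap.lTensor_comp_rTensor]
  rw [this]
  exact (Module.Flat.lTensor_preserves_injective_linearMap _ hg).comp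
    (Module.Flat.rTensor_preserves_injective_linearMap _ hf)

end Lin

variable {k : Type u} [Field k] {R S T : Type u} [CommRing R] [Algebra k R] [CommRing S] [Algebra k S]
  [CommRing T] [Algebra k T]
  {𝒜 : ℤ → Submodule k R} [GradedAlgebra 𝒜] {ℬ : ℤ → Submodule k S} [GradedAlgebra ℬ]
  {𝒯 : ℤ → Submodule k T} [GradedAlgebra 𝒯] {ψ : T →ₐ[k] R ⊗[k] S}
  {U V W : Type u} [AddCommGroup U] [Module R U] [Module k U] [IsScalarTower k R U]
  [AddCommGroup V] [Module S V] [Module k V] [IsScalarTower k S V]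
  [AddCommGroup W] [Module T W] [Module k W] [IsScalarTower k T W]
  {𝒰 : ℤ → Submodule k U} [DirectSum.Decomposition 𝒰] [SetLike.GradedSMul 𝒜 𝒰]
  {𝒱 : ℤ → Submodule k V} [DirectSum.Decomposition 𝒱] [SetLike.GradedSMul ℬ 𝒱]
  {𝒲 : ℤ → Submodule k W} [DirectSum.Decomposition 𝒲]
  {φ : W →ₗ[k] U ⊗[k] V}

variable (𝒜 𝒰) in
/-- The map `U_n → Hom(R_i, U)`. -/
noncomputable def actPiece (n i : ℤ) : 𝒰 n →ₗ[k] (𝒜 i →ₗ[k] U) :=
  (LinearMap.lcomp k U (𝒜 i).subtype) ∘ₗ (Algebra.lsmul k k U).toLinearMap.flip ∘ₗ (𝒰 n).subtype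

theorem actPiece_apply (n i : ℤ) (u : 𝒰 n) (r : 𝒜 i) : actPiece 𝒜 𝒰 n i u r = (r : R) • (u : U) := rfl

theorem actPiece_injective {n i : ℤ} (hU : ∀ u ∈ 𝒰 n, u ≠ 0 → ∃ r ∈ 𝒜 i, r • u ≠ 0) :
    Function.Injective (actPiece 𝒜 𝒰 n i) := by
  rw [← LinearMap.ker_eq_bot, LinearMap.ker_eq_bot']
  intro u hu
  by_contra h0
  obtain ⟨r, hr, hr0⟩ := hU u u.2 (fun h => h0 (Subtype.ext h))
  exact hr0 (DFunLike.congr_fun hu ⟨r, hr⟩)

/-- The product of nondegenerate pairings. -/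
theorem exists_smul_ne_zero (hT : GrSeg.IsSegreRing 𝒜 ℬ 𝒯 ψ) (hP : GrSeg.IsSegreMod ψ 𝒰 𝒱 𝒲 φ)
    {n i : ℤ} [Module.Finite k (𝒜 i)] [Module.Finite k (ℬ i)]
    (hU : ∀ u ∈ 𝒰 n, u ≠ 0 → ∃ r ∈ 𝒜 i, r • u ≠ 0) (hV : ∀ v ∈ 𝒱 n, v ≠ 0 → ∃ s ∈ ℬ i, s • v ≠ 0)
    {w : W} (hw : w ∈ 𝒲 n) (hw0 : w ≠ 0) : ∃ t ∈ 𝒯 i, t • w ≠ 0 := by
  by_contra hcon
  push Not at hcon
  let z : 𝒰 n ⊗[k] 𝒱 n := (K962.Dims.pieceEquiv 𝒰 𝒱 n).symm ⟨φ w, phi_mem hP hw⟩
  have hz : (K962.Dims.pieceEquiv 𝒰 𝒱 n z : U ⊗[k] V) = φ w := by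
    simp only [z, LinearEquiv.apply_symm_apply]
  let Φ : 𝒰 n ⊗[k] 𝒱 n →ₗ[k] (𝒜 i ⊗[k] ℬ i →ₗ[k] U ⊗[k] V) :=
    (homTensorHomEquiv k (𝒜 i) (ℬ i) U V).toLinearMap ∘ₗ
      TensorProduct.map (actPiece 𝒜 𝒰 n i) (actPiece ℬ 𝒱 n i)
  have hΦ : Function.Injective Φ :=
    (homTensorHomEquiv k (𝒜 i) (ℬ i) U V).injective.comp
      (map_injective (actPiece_injective hU) (actPiece_injective hV))
  have hΦ' : ∀ (z : 𝒰 n ⊗[k] 𝒱 n) (r : 𝒜 i) (s : ℬ i), Φ z (r ⊗ₜ s) =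
      GrSeg.act k R S U V ((r : R) ⊗ₜ (s : S)) (K962.Dims.pieceEquiv 𝒰 𝒱 n z : U ⊗[k] V) := by
    intro z r s
    induction z using TensorProduct.induction_on with
    | zero => simp
    | add x y hx hy =>
      rw [map_add, LinearMap.add_apply, hx, hy, map_add, Submodule.coe_add, map_add]
    | tmul u v =>
      rw [K962.Dims.pieceEquiv_tmul, GrSeg.act_tmul]
      simp only [Φ, LinearMap.comp_apply, LinearEquiv.coe_coe, TensorProduct.map_tmul,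
        homTensorHomEquiv_apply, TensorProduct.homTensorHomMap_apply, actPiece_apply]
  have hz0 : Φ z = 0 := by
    refine TensorProduct.ext' fun r s => ?_
    rw [hΦ', hz, LinearMap.zero_apply]
    obtain ⟨t, ht, hψt⟩ := exists_psi_eq hT (mem_segrePiece_tmul 𝒜 ℬ r.2 s.2)
    rw [← hψt, ← hP.map_smul, hcon t ht, map_zero]
  have hz1 : z = 0 := hΦ (hz0.trans (map_zero Φ).symm)
  apply hw0
  apply hP.injective
  rw [map_zero, ← hz, hz1, map_zero]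
  rfl

end K961.SegSoc
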