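import Groth.Agent.GrSegre.K961.Perf
import Groth.Agent.GrSegre.K961.SegSoc
import Groth.Agent.GrSegre.K961.CM
import Groth.Agent.GrSegre.K961.DimOneGor
import Groth.Agent.GrSegre.K962.Top

/-!
# Perfect pairings on Segre products
-/

set_option autoImplicit false
set_option linter.unusedSectionVars false
set_option linter.style.haveILetI false

open DirectSum GrLC K961.Irr K962.Basic K962.Pieces K961.PerfP K963.Iface
open scoped TensorProduct

namespace K961.PerfSeg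

universe u

section Kmod

variable {k : Type u} [Field k] {R : Type u} [CommRing R] [Algebra k R]

/-- the `k`-structure of an `R`-module. -/
@[reducible] noncomputable def kmod (M : Type u) [AddCommGroup M] [Module R M] : Module k M :=
  Module.compHom M (algebraMap k R)

theorem kmod_tower (M : Type u) [AddCommGroup M] [Module R M] :
    letI := kmod (k := k) (R := R) M
    IsScalarTower k R M :=
  letI := kmod (k := k) (R := R) M
  ⟨fun a r x => by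
    rw [Algebra.smul_def, mul_smul]; rfl⟩

end Kmod

variable {k : Type u} [Field k] {R S T : Type u} [CommRing R] [Algebra k R] [CommRing S] [Algebra k S]
  [CommRing T] [Algebra k T]
  {𝒜 : ℤ → Submodule k R} [GradedAlgebra 𝒜] {ℬ : ℤ → Submodule k S} [GradedAlgebra ℬ]
  {𝒯 : ℤ → Submodule k T} [GradedAlgebra 𝒯] {ψ : T →ₐ[k] R ⊗[k] S}
  {mR : HomogeneousIdeal 𝒜} {mS : HomogeneousIdeal ℬ} {mT : HomogeneousIdeal 𝒯}

theorem posField' (hpos : ∀ n : ℤ, n < 0 → 𝒜 n = ⊥) (h0 : 𝒜 0 = Submodule.span k {(1 : R)})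
    (hm : mR.toIdeal = Ideal.span (⋃ n ∈ Set.Ioi (0 : ℤ), (𝒜 n : Set R))) :
    K762.Base.PosField k 𝒜 mR.toIdeal := by
  rw [hm]
  exact CM.posField hpos h0

/-- local cohomology of a Cohen–Macaulay ring vanishes outside the dimension. -/
theorem subsingleton_H [LocCoh.IsCohenMacaulayRing R] (h : K762.Base.PosField k 𝒜 mR.toIdeal) {n : ℕ}
    (hn : ringKrullDim R = n) (E : StarInjRes 𝒜 𝒜) (i : ℕ) (hi : i ≠ n) : Subsingleton (E.H mR i) := by
  haveI := K762.Ext.nontrivial_of_dim hn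
  obtain ⟨D, hD, -, -, θ, hθ, ⟨N, hN⟩, hreg⟩ := K762.Ext.exists_parameters h hn one_pos 0
  exact (K762.Tower.tower mR n θ (fun _ => D) hθ (fun i => h.mem_of_pos hD (hθ i)) hreg
    (fun x => ⟨N, fun r hr => by
      rw [smul_eq_mul, smul_eq_mul, Ideal.mul_top]
      exact Ideal.mul_mem_right _ _ (hN hr)⟩) E).1 i hi

/-- The perfect pairing of a Segre product of rings with the same `a`-invariant. -/
theorem perf_segre [Algebra.FiniteType k R] [Algebra.FiniteType k S]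
    [LocCoh.IsCohenMacaulayRing R] [LocCoh.IsCohenMacaulayRing S]
    (hT : GrSeg.IsSegreRing 𝒜 ℬ 𝒯 ψ)
    (hposR : ∀ n : ℤ, n < 0 → 𝒜 n = ⊥) (h0R : 𝒜 0 = Submodule.span k {(1 : R)})
    (hposS : ∀ n : ℤ, n < 0 → ℬ n = ⊥) (h0S : ℬ 0 = Submodule.span k {(1 : S)})
    (hmR : mR.toIdeal = Ideal.span (⋃ n ∈ Set.Ioi (0 : ℤ), (𝒜 n : Set R)))
    (hmS : mS.toIdeal = Ideal.span (⋃ n ∈ Set.Ioi (0 : ℤ), (ℬ n : Set S)))
    (hmT : mT.toIdeal = Ideal.span (⋃ n ∈ Set.Ioi (0 : ℤ), (𝒯 n : Set T)))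
    (I : StarInjRes 𝒜 𝒜) (J : StarInjRes ℬ ℬ) (IT : StarInjRes 𝒯 𝒯) {r s d : ℕ}
    (hr : ringKrullDim R = r) (hs : ringKrullDim S = s) (h2r : 2 ≤ r) (h2s : 2 ≤ s) (hd : d + 1 = r + s)
    {a : ℤ} {u₀ : I.H mR r} (hu : Perf I mR r a u₀) {v₀ : J.H mS s} (hv : Perf J mS s a v₀) :
    ∃ w₀ : IT.H mT d, Perf IT mT d a w₀ := by
  haveI : IsNoetherianRing R := Algebra.FiniteType.isNoetherianRing k R
  haveI : IsNoetherianRing S := Algebra.FiniteType.isNoetherianRing k S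
  have hPR := posField' hposR h0R hmR
  have hPS := posField' hposS h0S hmS
  letI := kmod (k := k) (R := R) (I.H mR r)
  haveI := kmod_tower (k := k) (R := R) (I.H mR r)
  letI := kmod (k := k) (R := S) (J.H mS s)
  haveI := kmod_tower (k := k) (R := S) (J.H mS s)
  letI := kmod (k := k) (R := T) (IT.H mT d)
  haveI := kmod_tower (k := k) (R := T) (IT.H mT d)
  letI := Hdec I mR r
  haveI := Hgsmul I mR r
  letI := Hdec J mS s
  haveI := Hgsmul J mS s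
  letI := Hdec IT mT d
  haveI := Hgsmul IT mT d
  obtain ⟨Φ, hΦ⟩ := K962.Top.top hT hmR hmS hmT (isSegreMod_ring hT) I J IT h2r h2s hd
    (fun q hq => subsingleton_H hPR hr I q (by omega)) (fun q hq => subsingleton_H hPS hs J q (by omega))
  have hΦ' : GrSeg.IsSegreMod ψ (kp 𝒜 (I.Hgr mR r)) (kp ℬ (J.Hgr mS s)) (kp 𝒯 (IT.Hgr mT d)) Φ :=
    ⟨hΦ.injective, hΦ.image_piece, hΦ.map_smul⟩
  -- the generator
  have hmem : u₀ ⊗ₜ[k] v₀ ∈ GrSeg.segrePiece k (kp 𝒜 (I.Hgr mR r)) (kp ℬ (J.Hgr mS s)) a :=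
    Submodule.subset_span ⟨u₀, hu.mem, v₀, hv.mem, rfl⟩
  obtain ⟨w₀, hw₀, hΦw⟩ := exists_phi_eq hΦ' hmem
  have hne : u₀ ⊗ₜ[k] v₀ ≠ 0 := K962.Dims.tmul_ne_zero hu.ne hv.ne
  have hspan : ∀ z ∈ GrSeg.segrePiece k (kp 𝒜 (I.Hgr mR r)) (kp ℬ (J.Hgr mS s)) a,
      ∃ c : k, z = c • (u₀ ⊗ₜ[k] v₀) := by
    intro z hz
    refine Submodule.span_induction (p := fun z _ => ∃ c : k, z = c • (u₀ ⊗ₜ[k] v₀)) ?_ ?_ ?_ ?_ hz
    · rintro _ ⟨x, hx, y, hy, rfl⟩
      obtain ⟨c, rfl⟩ := hu.exists_smul hPR hx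
      obtain ⟨c', rfl⟩ := hv.exists_smul hPS hy
      refine ⟨c * c', ?_⟩
      rw [algebraMap_smul, algebraMap_smul, TensorProduct.smul_tmul_smul]
    · exact ⟨0, by rw [zero_smul]⟩
    · rintro _ _ - - ⟨c, rfl⟩ ⟨c', rfl⟩
      exact ⟨c + c', by rw [add_smul]⟩
    · rintro c _ - ⟨c', rfl⟩
      exact ⟨c * c', by rw [mul_smul]⟩
  refine ⟨w₀, hw₀, fun h0 => hne (by rw [← hΦw, h0, map_zero]), ?_⟩
  intro i w hw hw0
  haveI := DimOneGor.finite_piece hposR h0R (a - i)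
  haveI := DimOneGor.finite_piece hposS h0S (a - i)
  obtain ⟨t, ht, ht0⟩ := SegSoc.exists_smul_ne_zero hT hΦ' (n := i) (i := a - i)
    (fun u hu' hu0 => by
      obtain ⟨r, hr, hru⟩ := hu.dual i u hu' hu0
      exact ⟨r, hr, by rw [hru]; exact hu.ne⟩)
    (fun v hv' hv0 => by
      obtain ⟨r, hr, hrv⟩ := hv.dual i v hv' hv0
      exact ⟨r, hr, by rw [hrv]; exact hv.ne⟩) (w := w) hw hw0
  have htw : t • w ∈ kp 𝒯 (IT.Hgr mT d) a := by
    have := SetLike.GradedSMul.smul_mem (A := 𝒯) (B := kp 𝒯 (IT.Hgr mT d)) ht (show w ∈ kp 𝒯 (IT.Hgr mT d) i from hw)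
    rwa [vadd_eq_add, sub_add_cancel] at this
  obtain ⟨c, hc⟩ := hspan _ (phi_mem hΦ' htw)
  have hc0 : c ≠ 0 := by
    rintro rfl
    rw [zero_smul] at hc
    exact ht0 (hΦ.injective (hc.trans (map_zero Φ).symm))
  refine ⟨c⁻¹ • t, Submodule.smul_mem _ _ ht, ?_⟩
  apply hΦ.injective
  rw [smul_assoc, map_smul, hc, hΦw, smul_smul, inv_mul_cancel₀ hc0, one_smul]

end K961.PerfSeg
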