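import Groth.Agent.GrSegre.K962.Dims
import Groth.Agent.GrLC.K762.DimOne
import Mathlib.Algebra.Polynomial.AlgebraMap

/-!
# Standard graded rings with a one-dimensional piece and a regular homogeneous element
-/

set_option autoImplicit false
set_option linter.unusedSectionVars false

open K962.Basic

namespace K961.PolyOne

universe u

variable {k : Type u} [Field k] {R : Type u} [CommRing R] [Algebra k R] {𝒜 : ℤ → Submodule k R}
  [GradedAlgebra 𝒜]

/-- `R_{m+n} = R_m R_n` in a standard graded ring. -/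
theorem mem_span_mul
    (hstd : Ideal.span (⋃ n ∈ Set.Ioi (0 : ℤ), (𝒜 n : Set R)) = Ideal.span ((𝒜 1 : Submodule k R) : Set R))
    (m : ℕ) : ∀ {n : ℤ}, 0 ≤ n → ∀ {x : R}, x ∈ 𝒜 (m + n) →
    x ∈ Submodule.span k {y : R | ∃ a ∈ 𝒜 m, ∃ r ∈ 𝒜 n, y = a * r} := by
  induction m with
  | zero =>
    intro n hn x hx
    refine Submodule.subset_span ⟨1, ?_, x, ?_, (one_mul x).symm⟩
    · exact SetLike.one_mem_graded 𝒜
    · simpa using hx
  | succ m ih =>
    intro n hn x hx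
    have h1 := K962.Dims.mem_span_mul_of_std 𝒜 hstd (m := ((m + 1 : ℕ) : ℤ) + n) (by push_cast; omega) hx
    refine Submodule.span_le.mpr ?_ h1
    rintro _ ⟨a, ha, r, hr, rfl⟩
    have hr' : r ∈ 𝒜 ((m : ℤ) + n) := by
      have : ((m + 1 : ℕ) : ℤ) + n - 1 = (m : ℤ) + n := by push_cast; ring
      rwa [this] at hr
    have h2 := ih hn hr'
    have : a * r ∈ (Submodule.span k {y : R | ∃ a ∈ 𝒜 m, ∃ r ∈ 𝒜 n, y = a * r}).map
        (LinearMap.mulLeft k a) := ⟨r, h2, rfl⟩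
    rw [Submodule.map_span] at this
    refine Submodule.span_mono ?_ this
    rintro _ ⟨_, ⟨b, hb, s, hs, rfl⟩, rfl⟩
    refine ⟨a * b, ?_, s, hs, ?_⟩
    · have := SetLike.mul_mem_graded ha hb
      rwa [add_comm] at this
    · rw [LinearMap.mulLeft_apply, mul_assoc]

/-- If `R_n = k w` then `R_{jn} = k w^j`. -/
theorem mem_span_pow
    (hstd : Ideal.span (⋃ n ∈ Set.Ioi (0 : ℤ), (𝒜 n : Set R)) = Ideal.span ((𝒜 1 : Submodule k R) : Set R))
    (h0 : 𝒜 0 = Submodule.span k {(1 : R)}) {n : ℕ} {w : R} (hw' : 𝒜 n ≤ Submodule.span k {w})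
    (j : ℕ) {x : R} (hx : x ∈ 𝒜 ((j * n : ℕ) : ℤ)) : x ∈ Submodule.span k {w ^ j} := by
  induction j generalizing x with
  | zero =>
    rw [pow_zero, ← h0]
    simpa using hx
  | succ j ih =>
    have hx' : x ∈ 𝒜 ((n : ℤ) + ((j * n : ℕ) : ℤ)) := by
      have : (((j + 1) * n : ℕ) : ℤ) = (n : ℤ) + ((j * n : ℕ) : ℤ) := by push_cast; ring
      rwa [this] at hx
    refine Submodule.span_le.mpr ?_ (mem_span_mul hstd n (by positivity) hx')
    rintro _ ⟨a, ha, r, hr, rfl⟩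
    obtain ⟨c, rfl⟩ := Submodule.mem_span_singleton.mp (hw' ha)
    obtain ⟨d, rfl⟩ := Submodule.mem_span_singleton.mp (ih hr)
    refine Submodule.mem_span_singleton.mpr ⟨c * d, ?_⟩
    rw [pow_succ', smul_mul_smul_comm]

/-- A standard graded ring with a regular homogeneous element of positive degree, one piece `R_n`, `n ≥ 1`
of which is one-dimensional, is a polynomial ring `k[l]` with `l` of degree one. -/
theorem exists_generator [Nontrivial R]
    (hstd : Ideal.span (⋃ n ∈ Set.Ioi (0 : ℤ), (𝒜 n : Set R)) = Ideal.span ((𝒜 1 : Submodule k R) : Set R))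
    (h0 : 𝒜 0 = Submodule.span k {(1 : R)}) {D : ℕ} (hD : 0 < D) {x : R} (hx : x ∈ 𝒜 D)
    (hreg : ∀ a : R, x * a = 0 → a = 0) {n : ℕ} (hn : 0 < n) {w : R}
    (hw : w ∈ 𝒜 n) (hw' : 𝒜 n ≤ Submodule.span k {w}) :
    ∃ l ∈ 𝒜 1, (∀ a : R, l * a = 0 → a = 0) ∧ 𝒜 1 ≤ Submodule.span k {l} := by
  have hxp : ∀ (j : ℕ) (a : R), x ^ j * a = 0 → a = 0 := by
    intro j
    induction j with
    | zero => intro a ha; rwa [pow_zero, one_mul] at ha
    | succ j ih =>
      intro a ha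
      rw [pow_succ, mul_assoc] at ha
      exact hreg a (ih _ ha)
  have h1 : x ^ n ∈ 𝒜 ((D * n : ℕ) : ℤ) := by
    have := SetLike.pow_mem_graded n hx
    rwa [nsmul_eq_mul, ← Nat.cast_mul, mul_comm] at this
  obtain ⟨c, hc⟩ := Submodule.mem_span_singleton.mp (mem_span_pow hstd h0 hw' D h1)
  have hwreg : ∀ a : R, w * a = 0 → a = 0 := by
    intro a ha
    refine hxp n a ?_
    obtain ⟨D, rfl⟩ : ∃ D', D = D' + 1 := ⟨D - 1, by omega⟩
    rw [← hc, pow_succ, smul_mul_assoc, mul_assoc, ha, mul_zero, smul_zero]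
  have hw0 : w ≠ 0 := fun h => one_ne_zero (hwreg 1 (by rw [h, zero_mul]))
  obtain ⟨m, rfl⟩ : ∃ m, n = m + 1 := ⟨n - 1, by omega⟩
  -- a factor of degree one
  obtain ⟨l, hl, r, hr, c', hc', hlr⟩ : ∃ l ∈ 𝒜 1, ∃ r ∈ 𝒜 m, ∃ c' : k, c' ≠ 0 ∧ l * r = c' • w := by
    by_contra hcon
    push Not at hcon
    apply hw0
    have h2 := mem_span_mul hstd 1 (n := (m : ℤ)) (by positivity) (x := w) (by
      have : ((1 : ℕ) : ℤ) + m = ((m + 1 : ℕ) : ℤ) := by push_cast; ring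
      rwa [this])
    rw [← Submodule.mem_bot k]
    refine Submodule.span_le.mpr ?_ h2
    rintro _ ⟨a, ha, r, hr, rfl⟩
    have h3 : a * r ∈ 𝒜 ((m + 1 : ℕ) : ℤ) := by
      have := SetLike.mul_mem_graded ha hr
      have h4 : ((1 : ℕ) : ℤ) + m = ((m + 1 : ℕ) : ℤ) := by push_cast; ring
      rwa [h4] at this
    obtain ⟨c', hc'⟩ := Submodule.mem_span_singleton.mp (hw' h3)
    by_cases h5 : c' = 0
    · rw [h5, zero_smul] at hc'
      rw [← hc']
      exact zero_mem _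
    · exact absurd hc'.symm (hcon a (by simpa using ha) r hr c' h5)
  have hlreg : ∀ a : R, l * a = 0 → a = 0 := by
    intro a ha
    apply hwreg
    have h2 : c' • (w * a) = 0 := by
      rw [← smul_mul_assoc, ← hlr, mul_comm l r, mul_assoc, ha, mul_zero]
    exact (smul_eq_zero.mp h2).resolve_left hc'
  have hlp : ∀ (j : ℕ) (a : R), l ^ j * a = 0 → a = 0 := by
    intro j
    induction j with
    | zero => intro a ha; rwa [pow_zero, one_mul] at ha
    | succ j ih =>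
      intro a ha
      rw [pow_succ, mul_assoc] at ha
      exact hlreg a (ih _ ha)
  refine ⟨l, hl, hlreg, fun b hb => ?_⟩
  have hmem : ∀ b ∈ 𝒜 1, l ^ m * b ∈ 𝒜 ((m + 1 : ℕ) : ℤ) := by
    intro b hb
    have := SetLike.mul_mem_graded (SetLike.pow_mem_graded m hl) hb
    rwa [nsmul_eq_mul, mul_one] at this
  obtain ⟨c₁, hc₁⟩ := Submodule.mem_span_singleton.mp (hw' (hmem b hb))
  obtain ⟨c₂, hc₂⟩ := Submodule.mem_span_singleton.mp (hw' (hmem l hl))
  have hc₂0 : c₂ ≠ 0 := by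
    rintro rfl
    rw [zero_smul] at hc₂
    have h3 : l = 0 := hlp m l hc₂.symm
    exact one_ne_zero (hlreg 1 (by rw [h3, zero_mul]))
  refine Submodule.mem_span_singleton.mpr ⟨c₁ / c₂, ?_⟩
  have h4 : l ^ m * ((c₁ / c₂) • l - b) = 0 := by
    rw [mul_sub, mul_smul_comm, ← hc₁, ← hc₂, smul_smul, div_mul_cancel₀ _ hc₂0, sub_self]
  exact sub_eq_zero.mp (hlp m _ h4)

theorem mem_span_pow_one
    (hstd : Ideal.span (⋃ n ∈ Set.Ioi (0 : ℤ), (𝒜 n : Set R)) = Ideal.span ((𝒜 1 : Submodule k R) : Set R))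
    (h0 : 𝒜 0 = Submodule.span k {(1 : R)}) {l : R} (hl' : 𝒜 1 ≤ Submodule.span k {l})
    (j : ℕ) {x : R} (hx : x ∈ 𝒜 (j : ℤ)) : x ∈ Submodule.span k {l ^ j} :=
  mem_span_pow (n := 1) hstd h0 (by simpa using hl') j (by simpa using hx)

theorem nonempty_algEquiv_polynomial [Nontrivial R] (hpos : ∀ n : ℤ, n < 0 → 𝒜 n = ⊥)
    (hstd : Ideal.span (⋃ n ∈ Set.Ioi (0 : ℤ), (𝒜 n : Set R)) = Ideal.span ((𝒜 1 : Submodule k R) : Set R))
    (h0 : 𝒜 0 = Submodule.span k {(1 : R)}) {l : R} (hl : l ∈ 𝒜 1) (hreg : ∀ a : R, l * a = 0 → a = 0)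
    (hl' : 𝒜 1 ≤ Submodule.span k {l}) :
    Nonempty (R ≃ₐ[k] Polynomial k) := by
  have hlp : ∀ (j : ℕ) (a : R), l ^ j * a = 0 → a = 0 := by
    intro j
    induction j with
    | zero => intro a ha; rwa [pow_zero, one_mul] at ha
    | succ j ih =>
      intro a ha
      rw [pow_succ, mul_assoc] at ha
      exact hreg a (ih _ ha)
  obtain ⟨e⟩ := K762.DimOne.nonempty_algEquiv 𝒜 ℕ (fun n => (n : ℤ)) Nat.cast_injective
    (fun n hn => by
      refine hpos n ?_
      by_contra hcon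
      exact hn ⟨n.toNat, by simp only [Int.toNat_of_nonneg (not_lt.mp hcon)]⟩)
    (powersHom R l)
    (fun a => by
      have := SetLike.pow_mem_graded a hl
      rwa [nsmul_eq_mul, mul_one] at this)
    (fun a h => one_ne_zero (hlp a 1 (by rw [mul_one]; exact h)))
    (fun a z hz => by
      obtain ⟨c, hc⟩ := Submodule.mem_span_singleton.mp (mem_span_pow_one hstd h0 hl' a hz)
      exact ⟨c, hc.symm⟩)
  exact ⟨e.trans (Polynomial.toFinsuppIsoAlg k).symm⟩

end K961.PolyOne
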