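import Groth.Agent.GrSegre.K961.EndNeg
import Groth.Agent.GrSegre.K961.PolyOne
import Mathlib.RingTheory.PrincipalIdealDomain
import Mathlib.Algebra.Polynomial.FieldDivision

/-!
# One-dimensional standard graded rings: `H^1(R)` vanishes in degrees `≥ 0` iff `R` is a polynomial ring
-/

set_option autoImplicit false
set_option linter.unusedSectionVars false
set_option linter.style.haveILetI false

open GrLC K961.Irr K762.Base RingTheory.Sequence

namespace K961.PolyTwo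

universe u

variable {k : Type u} [Field k] {R : Type u} [CommRing R] [Algebra k R]
  {𝒜 : ℤ → Submodule k R} [GradedAlgebra 𝒜]

theorem pr_irr_eq_zero (hpos : ∀ n : ℤ, n < 0 → 𝒜 n = ⊥) {f : R} (hf : f ∈ irr 𝒜) {i : ℤ} (hi : i ≤ 0) :
    pr 𝒜 i f = 0 := by
  rcases hi.lt_or_eq with hi | rfl
  · have h1 := pr_mem (ℳ := 𝒜) i f
    rw [hpos i hi] at h1
    exact (Submodule.mem_bot k).mp h1
  · exact component_zero_of_mem_irr 𝒜 (forall_eq_zero_of_hpos 𝒜 hpos) hf

/-- If the irrelevant ideal is principal the degree one piece is at most one-dimensional. -/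
theorem exists_of_principal (hpos : ∀ n : ℤ, n < 0 → 𝒜 n = ⊥) (h0 : 𝒜 0 = Submodule.span k {(1 : R)})
    {f : R} (hf : irr 𝒜 = Ideal.span {f}) : ∃ l ∈ 𝒜 1, 𝒜 1 ≤ Submodule.span k {l} := by
  refine ⟨pr 𝒜 1 f, pr_mem 1 f, fun x hx => ?_⟩
  have hfm : f ∈ irr 𝒜 := by rw [hf]; exact Ideal.mem_span_singleton_self f
  have hx1 : x ∈ irr 𝒜 := mem_irr_of_mem 𝒜 one_pos hx
  rw [hf, Ideal.mem_span_singleton'] at hx1
  obtain ⟨a, rfl⟩ := hx1
  rw [← pr_of_mem hx]
  obtain ⟨s, hs⟩ := exists_sum_pr (ℳ := 𝒜) a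
  have hs' : pr 𝒜 1 (a * f) = ∑ i ∈ s, pr 𝒜 1 (pr 𝒜 i a * f) := by
    rw [← pr_sum, ← Finset.sum_mul, hs]
  rw [hs']
  refine Submodule.sum_mem _ fun i _ => ?_
  have h1 : pr 𝒜 1 (pr 𝒜 i a * f) = pr 𝒜 i a * pr 𝒜 (1 - i) f := by
    rw [← smul_eq_mul, K762.Base.pr_smul (𝒜 := 𝒜) (pr_mem i a), smul_eq_mul]
  rw [h1]
  rcases lt_trichotomy i 0 with hi | rfl | hi
  · have h2 := pr_mem (ℳ := 𝒜) i a
    rw [hpos i hi] at h2
    rw [(Submodule.mem_bot k).mp h2, zero_mul]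
    exact zero_mem _
  · have h2 := pr_mem (ℳ := 𝒜) 0 a
    rw [h0, Submodule.mem_span_singleton] at h2
    obtain ⟨c, hc⟩ := h2
    rw [← hc, sub_zero, smul_mul_assoc, one_mul]
    exact Submodule.smul_mem _ _ (Submodule.mem_span_singleton_self _)
  · rw [pr_irr_eq_zero hpos hfm (i := 1 - i) (by omega), mul_zero]
    exact zero_mem _

variable [Algebra.FiniteType k R] {mR : HomogeneousIdeal 𝒜}

theorem finite_dim (S : Type u) [CommRing S] [Algebra k S] [Algebra.FiniteType k S] : ringKrullDim S < ⊤ := by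
  obtain ⟨r, f, hf⟩ := Algebra.FiniteType.iff_quotient_mvPolynomial''.mp ‹Algebra.FiniteType k S›
  refine (ringKrullDim_le_of_surjective f.toRingHom hf).trans_lt ?_
  rw [MvPolynomial.ringKrullDim_of_isNoetherianRing, ringKrullDim_eq_zero_of_field, zero_add]
  exact WithBot.coe_lt_coe.mpr (WithTop.coe_lt_top _)

theorem exists_dim (S : Type u) [CommRing S] [Algebra k S] [Algebra.FiniteType k S] (h : 0 ≤ ringKrullDim S) :
    ∃ s : ℕ, ringKrullDim S = s := by
  have h1 := finite_dim (k := k) S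
  match hd : ringKrullDim S with
  | ⊥ => rw [hd] at h; exact absurd h (not_le.mpr (WithBot.bot_lt_coe _))
  | (d : ℕ∞) =>
    rw [hd] at h1
    have h2 : d < ⊤ := WithBot.coe_lt_coe.mp h1
    lift d to ℕ using h2.ne
    exact ⟨d, rfl⟩

/-- `H^1(R)_n = 0` for `n ≥ 0` implies that `R` is a polynomial ring. -/
theorem nonempty_of_vanishing [LocCoh.IsCohenMacaulayRing R]
    (hpos : ∀ n : ℤ, n < 0 → 𝒜 n = ⊥) (h0 : 𝒜 0 = Submodule.span k {(1 : R)})
    (hstd : Ideal.span (⋃ n ∈ Set.Ioi (0 : ℤ), (𝒜 n : Set R)) = Ideal.span ((𝒜 1 : Submodule k R) : Set R))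
    (hm : mR.toIdeal = Ideal.span (⋃ n ∈ Set.Ioi (0 : ℤ), (𝒜 n : Set R)))
    (hr : ringKrullDim R = (1 : ℕ)) (I : StarInjRes 𝒜 𝒜) (hH : ∀ n : ℤ, 0 ≤ n → I.Hcomp mR 1 n = ⊥) :
    Nonempty (R ≃ₐ[k] Polynomial k) := by
  have h := PerfSeg.posField' hpos h0 hm
  haveI := K762.Ext.nontrivial_of_dim hr
  haveI : IsNoetherianRing R := inferInstance
  obtain ⟨D, hD, -, -, θ, hθ, ⟨N, hN⟩, hreg⟩ := K762.Ext.exists_parameters h hr one_pos 0
  have htor : ∀ x : R, ∃ N : ℕ, ∀ r ∈ mR.toIdeal ^ N, r • x ∈ (Ideal.span (Set.range θ) • ⊤ : Submodule R R) :=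
    fun x => ⟨N, fun r hr => by
      rw [smul_eq_mul, smul_eq_mul, Ideal.mul_top]
      exact Ideal.mul_mem_right _ _ (hN hr)⟩
  have hr0 : IsSMulRegular R (θ 0) := by
    have : List.ofFn θ = [θ 0] := by rw [List.ofFn_succ, List.ofFn_zero]
    rw [this, isWeaklyRegular_cons_iff] at hreg
    exact hreg.1
  have hDn : ((D.toNat : ℕ) : ℤ) = D := Int.toNat_of_nonneg hD.le
  obtain ⟨l, hl, hlr, hl'⟩ := PolyOne.exists_generator hstd h0 (D := D.toNat) (by omega) (x := θ 0)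
    (by rw [hDn]; exact hθ 0) (fun a ha => hr0 (show θ 0 * a = θ 0 * 0 by rw [ha, mul_zero]))
    (n := D.toNat) (by omega) (w := θ 0) (by rw [hDn]; exact hθ 0) (by
      rw [hDn]
      intro x hx
      have hx1 : x ∈ (Ideal.span (Set.range θ) • ⊤ : Submodule R R) := by
        by_contra hx0
        obtain ⟨y, hy, hy0⟩ := K762.AInv.exists_ne_zero h hθ (fun _ => hD) hreg htor I hx hx0
        rw [hH _ (by simp)] at hy
        exact hy0 ((Submodule.mem_bot _).mp hy)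
      rw [smul_eq_mul, Ideal.mul_top] at hx1
      have h2 : Set.range θ = {θ 0} := by
        ext z
        simp only [Set.mem_range, Set.mem_singleton_iff, Fin.exists_fin_one]
        exact eq_comm
      rw [h2, Ideal.mem_span_singleton'] at hx1
      obtain ⟨a, rfl⟩ := hx1
      have h3 : pr 𝒜 D (a * θ 0) = pr 𝒜 0 a * θ 0 := by
        rw [mul_comm, ← smul_eq_mul, K762.Base.pr_smul (𝒜 := 𝒜) (hθ 0), sub_self, smul_eq_mul, mul_comm]
      rw [← pr_of_mem hx, h3]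
      have h4 := pr_mem (ℳ := 𝒜) 0 a
      rw [h0, Submodule.mem_span_singleton] at h4
      obtain ⟨c, hc⟩ := h4
      rw [← hc, smul_mul_assoc, one_mul]
      exact Submodule.smul_mem _ _ (Submodule.mem_span_singleton_self _))
  exact PolyOne.nonempty_algEquiv_polynomial hpos hstd h0 hl hlr hl'

/-- `H^1(R)_n = 0` for `n ≥ 0` when `R` is a polynomial ring. -/
theorem vanishing_of_nonempty
    (hpos : ∀ n : ℤ, n < 0 → 𝒜 n = ⊥) (h0 : 𝒜 0 = Submodule.span k {(1 : R)})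
    (hstd : Ideal.span (⋃ n ∈ Set.Ioi (0 : ℤ), (𝒜 n : Set R)) = Ideal.span ((𝒜 1 : Submodule k R) : Set R))
    (hm : mR.toIdeal = Ideal.span (⋃ n ∈ Set.Ioi (0 : ℤ), (𝒜 n : Set R)))
    (hr : ringKrullDim R = (1 : ℕ)) (I : StarInjRes 𝒜 𝒜) (e : R ≃ₐ[k] Polynomial k) :
    ∀ n : ℤ, 0 ≤ n → I.Hcomp mR 1 n = ⊥ := by
  have h := PerfSeg.posField' hpos h0 hm
  haveI : IsNoetherianRing R := Algebra.FiniteType.isNoetherianRing k R
  haveI : IsPrincipalIdealRing R :=
    IsPrincipalIdealRing.of_surjective (e.symm : Polynomial k →+* R) e.symm.surjective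
  haveI : IsDomain R := e.toMulEquiv.isDomain (Polynomial k)
  obtain ⟨f, hf⟩ := (IsPrincipalIdealRing.principal (irr 𝒜)).principal
  obtain ⟨l, hl, hl'⟩ := exists_of_principal hpos h0 hf
  have hl0 : l ≠ 0 := by
    rintro rfl
    have h1 := EndNeg.piece_ne_bot hpos h0 hstd hr le_rfl (n := 1) zero_le_one
    rw [Submodule.span_singleton_eq_bot.mpr rfl] at hl'
    exact h1 (eq_bot_iff.mpr hl')
  have hml : mR.toIdeal ≤ Ideal.span {l} := by
    rw [hm, hstd, Ideal.span_le]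
    intro x hx
    obtain ⟨c, rfl⟩ := Submodule.mem_span_singleton.mp (hl' hx)
    rw [Algebra.smul_def]
    exact Ideal.mul_mem_left _ _ (Ideal.mem_span_singleton_self l)
  let θ : Fin 1 → R := fun _ => l
  have hrange : Set.range θ = {l} := Set.range_const
  have hreg : IsWeaklyRegular R (List.ofFn θ) := by
    have : List.ofFn θ = [l] := by rw [List.ofFn_succ, List.ofFn_zero]
    rw [this, isWeaklyRegular_cons_iff]
    refine ⟨?_, IsWeaklyRegular.nil _ _⟩
    intro a b hab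
    exact mul_left_cancel₀ hl0 hab
  have htor : ∀ x : R, ∃ N : ℕ, ∀ r ∈ mR.toIdeal ^ N, r • x ∈ (Ideal.span (Set.range θ) • ⊤ : Submodule R R) :=
    fun x => ⟨1, fun r hr => by
      rw [smul_eq_mul, smul_eq_mul, Ideal.mul_top, hrange]
      rw [pow_one] at hr
      exact Ideal.mul_mem_right _ _ (hml hr)⟩
  intro n hn
  by_contra hne
  rw [Submodule.eq_bot_iff] at hne
  push Not at hne
  obtain ⟨y, hy, hy0⟩ := hne
  obtain ⟨j, hj, x, hx, hx0⟩ := K762.AInv.exists_of_ne_zero h (n := 1) (θ := θ) (w := fun _ => 1)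
    (fun _ => hl) (fun _ => one_pos) hreg htor I hy hy0
  refine hx0 ?_
  rw [smul_eq_mul, Ideal.mul_top, hrange]
  refine hml ?_
  rw [hm]
  refine mem_irr_of_mem 𝒜 ?_ hx
  simp only [Finset.univ_unique, Finset.sum_const, Finset.card_singleton, one_smul]
  omega

end K961.PolyTwo
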