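import Groth.Agent.GrSegre.K961.Dim
import Groth.Agent.GrSegre.K961.Hsop
import Mathlib.RingTheory.Support
import Mathlib.RingTheory.TensorProduct.MvPolynomial

/-!
# Dimension of Segre products
-/

set_option autoImplicit false
set_option linter.unusedSectionVars false
set_option linter.style.haveILetI false

open K961.Irr K962.Basic K962.Pieces DirectSum
open scoped TensorProduct

namespace K961.SegDim

universe u

section Large

variable {k : Type u} [Field k] {R : Type u} [CommRing R] [Algebra k R] (𝒜 : ℤ → Submodule k R)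
  [GradedAlgebra 𝒜] [IsNoetherianRing R]
  {M : Type u} [AddCommGroup M] [Module R M] [Module k M] [IsScalarTower k R M]
  (ℳ : ℤ → Submodule k M) [DirectSum.Decomposition ℳ] [SetLike.GradedSMul 𝒜 ℳ]
  {ι : Type} [Fintype ι]

/-- In large degrees every homogeneous element is a combination of the parameters. -/
theorem exists_large [Module.Finite R M] (hpos : ∀ n : ℤ, n < 0 → 𝒜 n = ⊥)
    (h0 : 𝒜 0 = Submodule.span k {(1 : R)}) {D : ℤ} (x : ι → R)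
    (hx : ∀ i, x i ∈ 𝒜 D)
    (hJ : irr 𝒜 ≤ (Module.annihilator R M ⊔ Ideal.span (Set.range x)).radical) :
    ∃ n₁ : ℤ, ∀ n ≥ n₁, ∀ m ∈ ℳ n, ∃ m' : ι → M, (∀ i, m' i ∈ ℳ (n - D)) ∧ m = ∑ i, x i • m' i := by
  classical
  have := FinDim.finite_quotient (M := M) 𝒜 hpos h0 _ hJ
  obtain ⟨V, hV, hspan⟩ := FinDim.exists_homogeneous_finset (R := R) ℳ
    (N := (Ideal.span (Set.range x)) • (⊤ : Submodule R M))
  choose! e he using hV
  obtain ⟨n₁, hn₁⟩ : ∃ n₁ : ℤ, ∀ v ∈ V, e v < n₁ := by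
    rcases V.eq_empty_or_nonempty with h | h
    · exact ⟨0, by simp [h]⟩
    · exact ⟨V.sup' h e + 1, fun v hv => Int.lt_add_one_of_le (Finset.le_sup' _ hv)⟩
  refine ⟨n₁, fun n hn m hm => ?_⟩
  obtain ⟨c, hc1, hc2⟩ := hspan m
  have hc : pr ℳ n c = 0 := by
    clear hc2
    induction hc1 using Submodule.span_induction with
    | mem v hv =>
      have := hn₁ v hv
      exact pr_of_mem_ne ℳ (he v hv) (by omega)
    | zero => exact map_zero _
    | add a b _ _ ha hb => rw [map_add, ha, hb, add_zero]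
    | smul c a _ ha => rw [map_smul, ha, smul_zero]
  have hm' : m = pr ℳ n (m - c) := by
    rw [map_sub, hc, sub_zero, pr_of_mem ℳ hm]
  -- elements of `J M`
  have hJr : ∀ r ∈ Ideal.span (Set.range x), ∀ y : M, ∃ m' : ι → M,
      (∀ i, m' i ∈ ℳ (n - D)) ∧ pr ℳ n (r • y) = ∑ i, x i • m' i := by
    intro r hr
    induction hr using Submodule.span_induction with
    | mem r hr =>
      obtain ⟨i, rfl⟩ := hr
      intro y
      have h1 := pr_smul 𝒜 ℳ (hx i) (n - D) y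
      rw [show D + (n - D) = n by ring] at h1
      refine ⟨fun j => if j = i then pr ℳ (n - D) y else 0, fun j => ?_, ?_⟩
      · dsimp only
        split_ifs
        · exact pr_mem ℳ _ _
        · exact zero_mem _
      · rw [h1]; simp
    | zero => intro y; exact ⟨0, fun _ => zero_mem _, by simp⟩
    | add a b _ _ ha hb =>
      intro y
      obtain ⟨m₁, h1, h1'⟩ := ha y
      obtain ⟨m₂, h2, h2'⟩ := hb y
      exact ⟨m₁ + m₂, fun i => add_mem (h1 i) (h2 i), by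
        rw [add_smul, map_add, h1', h2', ← Finset.sum_add_distrib]; simp [smul_add]⟩
    | smul a r _ hr =>
      intro y
      rw [smul_eq_mul, mul_comm, mul_smul]
      exact hr (a • y)
  have hJ' : ∀ y ∈ (Ideal.span (Set.range x)) • (⊤ : Submodule R M), ∃ m' : ι → M,
      (∀ i, m' i ∈ ℳ (n - D)) ∧ pr ℳ n y = ∑ i, x i • m' i := by
    intro y hy
    refine Submodule.smul_induction_on hy (fun r hr z _ => hJr r hr z) (fun a b ha hb => ?_)
    obtain ⟨m₁, h1, h1'⟩ := ha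
    obtain ⟨m₂, h2, h2'⟩ := hb
    exact ⟨m₁ + m₂, fun i => add_mem (h1 i) (h2 i), by
        rw [map_add, h1', h2', ← Finset.sum_add_distrib]; simp [smul_add]⟩
  obtain ⟨m', h1, h2⟩ := hJ' _ hc2
  exact ⟨m', h1, hm'.trans h2⟩

end Large

section Segre

variable {k : Type u} [Field k] {R S T : Type u} [CommRing R] [Algebra k R] [CommRing S] [Algebra k S]
  [CommRing T] [Algebra k T]
  {𝒜 : ℤ → Submodule k R} [GradedAlgebra 𝒜] {ℬ : ℤ → Submodule k S} [GradedAlgebra ℬ]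
  {𝒯 : ℤ → Submodule k T} [GradedAlgebra 𝒯] {ψ : T →ₐ[k] R ⊗[k] S}
  {M N P : Type u} [AddCommGroup M] [Module R M] [Module k M] [IsScalarTower k R M]
  [AddCommGroup N] [Module S N] [Module k N] [IsScalarTower k S N]
  [AddCommGroup P] [Module T P] [Module k P] [IsScalarTower k T P]
  {ℳ : ℤ → Submodule k M} [DirectSum.Decomposition ℳ] [SetLike.GradedSMul 𝒜 ℳ]
  {𝒩 : ℤ → Submodule k N} [DirectSum.Decomposition 𝒩] [SetLike.GradedSMul ℬ 𝒩]
  {𝒬 : ℤ → Submodule k P} [DirectSum.Decomposition 𝒬]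
  {φ : P →ₗ[k] M ⊗[k] N}

theorem hposT (hT : GrSeg.IsSegreRing 𝒜 ℬ 𝒯 ψ) (hpos : ∀ n : ℤ, n < 0 → 𝒜 n = ⊥) :
    ∀ n : ℤ, n < 0 → 𝒯 n = ⊥ := by
  intro n hn
  rw [eq_bot_iff]
  intro t ht
  have h1 := psi_mem hT ht
  have h2 : GrSeg.segrePiece k 𝒜 ℬ n = ⊥ := by
    rw [eq_bot_iff, GrSeg.segrePiece, Submodule.span_le]
    rintro _ ⟨a, ha, b, -, rfl⟩
    rw [hpos n hn, Submodule.mem_bot] at ha
    rw [ha, TensorProduct.zero_tmul]
    exact zero_mem _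
  rw [h2, Submodule.mem_bot] at h1
  rw [Submodule.mem_bot]
  exact hT.1 (h1.trans (map_zero ψ).symm)

theorem h0T (hT : GrSeg.IsSegreRing 𝒜 ℬ 𝒯 ψ) (h0R : 𝒜 0 = Submodule.span k {(1 : R)})
    (h0S : ℬ 0 = Submodule.span k {(1 : S)}) : 𝒯 0 = Submodule.span k {(1 : T)} := by
  refine le_antisymm ?_ ?_
  · intro t ht
    have h1 := psi_mem hT ht
    have h2 : GrSeg.segrePiece k 𝒜 ℬ 0 ≤ Submodule.span k {(1 : R ⊗[k] S)} := by
      rw [GrSeg.segrePiece, Submodule.span_le]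
      rintro _ ⟨a, ha, b, hb, rfl⟩
      rw [h0R, Submodule.mem_span_singleton] at ha
      rw [h0S, Submodule.mem_span_singleton] at hb
      obtain ⟨c, rfl⟩ := ha
      obtain ⟨d, rfl⟩ := hb
      refine Submodule.mem_span_singleton.mpr ⟨c * d, ?_⟩
      rw [TensorProduct.smul_tmul_smul, Algebra.TensorProduct.one_def]
    obtain ⟨c, hc⟩ := Submodule.mem_span_singleton.mp (h2 h1)
    refine Submodule.mem_span_singleton.mpr ⟨c, hT.1 ?_⟩
    rw [map_smul, map_one, hc]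
  · rw [Submodule.span_singleton_le_iff_mem]
    exact SetLike.one_mem_graded 𝒯

variable {r s : ℕ}

/-- the elements `x_i # y_j`. -/
noncomputable def tt (hT : GrSeg.IsSegreRing 𝒜 ℬ 𝒯 ψ) {D : ℤ} {x : R} (hx : x ∈ 𝒜 D) {y : S}
    (hy : y ∈ ℬ D) : T :=
  (exists_psi_eq hT (mem_segrePiece_tmul 𝒜 ℬ hx hy)).choose

theorem tt_mem (hT : GrSeg.IsSegreRing 𝒜 ℬ 𝒯 ψ) {D : ℤ} {x : R} (hx : x ∈ 𝒜 D) {y : S}
    (hy : y ∈ ℬ D) : tt hT hx hy ∈ 𝒯 D :=
  (exists_psi_eq hT (mem_segrePiece_tmul 𝒜 ℬ hx hy)).choose_spec.1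

theorem psi_tt (hT : GrSeg.IsSegreRing 𝒜 ℬ 𝒯 ψ) {D : ℤ} {x : R} (hx : x ∈ 𝒜 D) {y : S}
    (hy : y ∈ ℬ D) : ψ (tt hT hx hy) = x ⊗ₜ y :=
  (exists_psi_eq hT (mem_segrePiece_tmul 𝒜 ℬ hx hy)).choose_spec.2

/-- `T_+` is contained in the radical of `Ann P + (x_i # y_j)`. -/
theorem irr_le_radical_tt [Algebra.FiniteType k R] [Algebra.FiniteType k S]
    [Module.Finite R M] [Module.Finite S N]
    (hT : GrSeg.IsSegreRing 𝒜 ℬ 𝒯 ψ) (hP : GrSeg.IsSegreMod ψ ℳ 𝒩 𝒬 φ)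
    (hposR : ∀ n : ℤ, n < 0 → 𝒜 n = ⊥) (h0R : 𝒜 0 = Submodule.span k {(1 : R)})
    (hposS : ∀ n : ℤ, n < 0 → ℬ n = ⊥) (h0S : ℬ 0 = Submodule.span k {(1 : S)})
    {D : ℤ} (x : Fin r → R) (hx : ∀ i, x i ∈ 𝒜 D)
    (hxr : irr 𝒜 ≤ (Module.annihilator R M ⊔ Ideal.span (Set.range x)).radical)
    (y : Fin s → S) (hy : ∀ i, y i ∈ ℬ D)
    (hyr : irr ℬ ≤ (Module.annihilator S N ⊔ Ideal.span (Set.range y)).radical) :
    irr 𝒯 ≤ (Module.annihilator T P ⊔ Ideal.span (Set.range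
      fun ij : Fin r × Fin s => tt hT (hx ij.1) (hy ij.2))).radical := by
  classical
  haveI : IsNoetherianRing R := Algebra.FiniteType.isNoetherianRing k R
  haveI : IsNoetherianRing S := Algebra.FiniteType.isNoetherianRing k S
  haveI : IsNoetherianRing T := isNoetherianRing_segreRing hT
  haveI : IsNoetherian T P := isNoetherian_segreMod hT hP
  haveI : SetLike.GradedSMul 𝒯 𝒬 := gradedSMul hT hP
  obtain ⟨n₁, hn₁⟩ := exists_large 𝒜 ℳ hposR h0R x hx hxr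
  obtain ⟨n₂, hn₂⟩ := exists_large ℬ 𝒩 hposS h0S y hy hyr
  obtain ⟨n₀, hn₀⟩ := FinDim.exists_bound_below (R := T) 𝒯 𝒬 (hposT hT hposR)
  set J : Ideal T := Ideal.span (Set.range
      fun ij : Fin r × Fin s => tt hT (hx ij.1) (hy ij.2)) with hJdef
  have hJmem : ∀ (i : Fin r) (j : Fin s), tt hT (hx i) (hy j) ∈ J := fun i j =>
    Ideal.subset_span (Set.mem_range_self (i, j))
  -- large degrees of `P` are in `J P`
  have hlarge : ∀ n : ℤ, n₁ ≤ n → n₂ ≤ n → ∀ p ∈ 𝒬 n, p ∈ J • (⊤ : Submodule T P) := by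
    intro n hn hn' p hp
    have h1 : GrSeg.segrePiece k ℳ 𝒩 n ≤
        ((J • (⊤ : Submodule T P)).restrictScalars k).map φ := by
      rw [GrSeg.segrePiece, Submodule.span_le]
      rintro _ ⟨a, ha, b, hb, rfl⟩
      obtain ⟨a', ha', rfl⟩ := hn₁ n hn a ha
      obtain ⟨b', hb', rfl⟩ := hn₂ n hn' b hb
      rw [TensorProduct.sum_tmul]
      refine Submodule.sum_mem _ fun i _ => ?_
      rw [TensorProduct.tmul_sum]
      refine Submodule.sum_mem _ fun j _ => ?_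
      obtain ⟨q, -, hq⟩ := exists_phi_eq hP (mem_segrePiece_tmul ℳ 𝒩 (ha' i) (hb' j))
      refine ⟨tt hT (hx i) (hy j) • q, ?_, ?_⟩
      · have h7 : tt hT (hx i) (hy j) • q ∈ J • (⊤ : Submodule T P) :=
          Submodule.smul_mem_smul (hJmem i j) Submodule.mem_top
        exact (Submodule.restrictScalars_mem k _ _).mpr h7
      · rw [hP.map_smul, hq, psi_tt, GrSeg.act_tmul]
    obtain ⟨q, hq, hqp⟩ := h1 (phi_mem hP hp)
    rwa [← hP.injective hqp]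
  rw [irr_le_iff]
  intro n hn u hu
  -- a power of `u` maps `P` into `J P`
  obtain ⟨c, hc⟩ : ∃ c : ℕ, (n₁ ≤ n₀ + c ∧ n₂ ≤ n₀ + c) :=
    ⟨(n₁ - n₀).toNat + (n₂ - n₀).toNat, by omega⟩
  have hpow : ∀ p : P, u ^ c • p ∈ J • (⊤ : Submodule T P) := by
    intro p
    obtain ⟨t, ht, -⟩ := exists_finset_sum_pr 𝒬 p
    rw [ht, Finset.smul_sum]
    refine Submodule.sum_mem _ fun i _ => ?_
    by_cases hi : i < n₀
    · rw [hn₀ i hi _ (pr_mem 𝒬 i p), smul_zero]; exact zero_mem _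
    · have h3 : u ^ c • pr 𝒬 i p ∈ 𝒬 (c * n + i) :=
        SetLike.GradedSMul.smul_mem (A := 𝒯) (B := 𝒬) (Avoid.pow_mem 𝒯 hu c) (pr_mem 𝒬 i p)
      have h4 : (c : ℤ) ≤ c * n := by nlinarith
      exact hlarge _ (by omega) (by omega) _ h3
  rw [Ideal.radical_eq_sInf, Ideal.mem_sInf]
  rintro Q ⟨hQ, hQp⟩
  have hsupp : (⟨Q, hQp⟩ : PrimeSpectrum T) ∈ Module.support T (P ⧸ (J • (⊤ : Submodule T P))) := by
    rw [Module.support_quotient, Module.support_eq_zeroLocus]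
    have hQ1 : Module.annihilator T P ≤ Q := le_sup_left.trans hQ
    have hQ2 : J ≤ Q := le_sup_right.trans hQ
    exact ⟨hQ1, hQ2⟩
  rw [Module.support_eq_zeroLocus, PrimeSpectrum.mem_zeroLocus] at hsupp
  have hmem : u ^ c ∈ Module.annihilator T (P ⧸ (J • (⊤ : Submodule T P))) := by
    rw [Module.mem_annihilator]
    intro z
    obtain ⟨z, rfl⟩ := Submodule.mkQ_surjective _ z
    rw [← map_smul, Submodule.mkQ_apply, Submodule.Quotient.mk_eq_zero]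
    exact hpow z
  exact hQp.mem_of_pow_mem _ (hsupp hmem)

/-- The exchange relation between the `x_i # y_j`. -/
theorem tt_mul_tt (hT : GrSeg.IsSegreRing 𝒜 ℬ 𝒯 ψ) {D : ℤ} {x x' : R} (hx : x ∈ 𝒜 D)
    (hx' : x' ∈ 𝒜 D) {y y' : S} (hy : y ∈ ℬ D) (hy' : y' ∈ ℬ D) :
    tt hT hx hy * tt hT hx' hy' = tt hT hx hy' * tt hT hx' hy := by
  apply hT.1
  rw [map_mul, map_mul, psi_tt, psi_tt, psi_tt, psi_tt, Algebra.TensorProduct.tmul_mul_tmul,
    Algebra.TensorProduct.tmul_mul_tmul, mul_comm y y']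

/-- The parameters `z_l = ∑_{i+j=l} x_i # y_j`. -/
noncomputable def zz (hT : GrSeg.IsSegreRing 𝒜 ℬ 𝒯 ψ) {D : ℤ} {x : Fin r → R}
    (hx : ∀ i, x i ∈ 𝒜 D) {y : Fin s → S} (hy : ∀ i, y i ∈ ℬ D) (l : Fin (r + s - 1)) : T :=
  ∑ ij : Fin r × Fin s, if (ij.1 : ℕ) + ij.2 = l then tt hT (hx ij.1) (hy ij.2) else 0

theorem zz_mem (hT : GrSeg.IsSegreRing 𝒜 ℬ 𝒯 ψ) {D : ℤ} {x : Fin r → R}
    (hx : ∀ i, x i ∈ 𝒜 D) {y : Fin s → S} (hy : ∀ i, y i ∈ ℬ D) (l : Fin (r + s - 1)) :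
    zz hT hx hy l ∈ 𝒯 D := by
  refine sum_mem fun ij _ => ?_
  split_ifs
  · exact tt_mem hT _ _
  · exact zero_mem _

/-- a prime containing all `z_l` contains all `x_i # y_j`. -/
theorem tt_mem_of_zz_mem (hT : GrSeg.IsSegreRing 𝒜 ℬ 𝒯 ψ) {D : ℤ} {x : Fin r → R}
    (hx : ∀ i, x i ∈ 𝒜 D) {y : Fin s → S} (hy : ∀ i, y i ∈ ℬ D) (Q : Ideal T) (hQ : Q.IsPrime)
    (hz : ∀ l, zz hT hx hy l ∈ Q) (n : ℕ) : ∀ (i : Fin r) (j : Fin s), (i : ℕ) + j = n →
      tt hT (hx i) (hy j) ∈ Q := by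
  classical
  induction n using Nat.strong_induction_on with
  | _ n ih =>
  intro i j hij
  have hi := i.2
  have hj := j.2
  have h1 : tt hT (hx i) (hy j) * zz hT hx hy ⟨n, by omega⟩ ∈ Q := Q.mul_mem_left _ (hz _)
  rw [zz, Finset.mul_sum, ← Finset.add_sum_erase _ _ (Finset.mem_univ (i, j)), if_pos hij] at h1
  have h2 : ∑ ij ∈ Finset.univ.erase (i, j), tt hT (hx i) (hy j) *
      (if (ij.1 : ℕ) + ij.2 = (⟨n, by omega⟩ : Fin (r + s - 1)) then tt hT (hx ij.1) (hy ij.2)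
        else 0) ∈ Q := by
    refine Q.sum_mem fun ab hab => ?_
    obtain ⟨a, b⟩ := ab
    split_ifs with h
    · change (a : ℕ) + b = n at h
      rw [Finset.mem_erase] at hab
      have hne : (a : ℕ) ≠ i := by
        intro h'
        apply hab.1
        have h'' : (b : ℕ) = j := by omega
        exact Prod.ext (Fin.ext h') (Fin.ext h'')
      rw [tt_mul_tt hT (hx i) (hx a) (hy j) (hy b)]
      rcases lt_or_gt_of_ne hne with hlt | hlt
      · exact Q.mul_mem_left _ (ih (a + j) (by omega) a j rfl)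
      · exact Q.mul_mem_right _ (ih (i + b) (by omega) i b rfl)
    · rw [mul_zero]; exact Q.zero_mem
  have h3 := (Ideal.add_mem_iff_left Q h2).mp h1
  exact (hQ.mem_or_mem h3).elim id id

theorem irr_le_radical_zz [Algebra.FiniteType k R] [Algebra.FiniteType k S]
    [Module.Finite R M] [Module.Finite S N]
    (hT : GrSeg.IsSegreRing 𝒜 ℬ 𝒯 ψ) (hP : GrSeg.IsSegreMod ψ ℳ 𝒩 𝒬 φ)
    (hposR : ∀ n : ℤ, n < 0 → 𝒜 n = ⊥) (h0R : 𝒜 0 = Submodule.span k {(1 : R)})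
    (hposS : ∀ n : ℤ, n < 0 → ℬ n = ⊥) (h0S : ℬ 0 = Submodule.span k {(1 : S)})
    {D : ℤ} (x : Fin r → R) (hx : ∀ i, x i ∈ 𝒜 D)
    (hxr : irr 𝒜 ≤ (Module.annihilator R M ⊔ Ideal.span (Set.range x)).radical)
    (y : Fin s → S) (hy : ∀ i, y i ∈ ℬ D)
    (hyr : irr ℬ ≤ (Module.annihilator S N ⊔ Ideal.span (Set.range y)).radical) :
    irr 𝒯 ≤ (Module.annihilator T P ⊔ Ideal.span (Set.range (zz hT hx hy))).radical := by
  refine (irr_le_radical_tt hT hP hposR h0R hposS h0S x hx hxr y hy hyr).trans ?_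
  rw [Ideal.radical_le_radical_iff]
  refine sup_le (le_sup_left.trans Ideal.le_radical) ?_
  rw [Ideal.span_le]
  rintro _ ⟨ij, rfl⟩
  rw [SetLike.mem_coe, Ideal.radical_eq_sInf, Ideal.mem_sInf]
  rintro Q ⟨hQ, hQp⟩
  exact tt_mem_of_zz_mem hT hx hy Q hQp (fun l => hQ (Ideal.mem_sup_right
    (Ideal.subset_span ⟨l, rfl⟩))) _ ij.1 ij.2 rfl

/-- `M # N` is finite over the algebra generated by the `z_l`. -/
theorem finite_adjoin_zz [Algebra.FiniteType k R] [Algebra.FiniteType k S]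
    [Module.Finite R M] [Module.Finite S N]
    (hT : GrSeg.IsSegreRing 𝒜 ℬ 𝒯 ψ) (hP : GrSeg.IsSegreMod ψ ℳ 𝒩 𝒬 φ)
    (hposR : ∀ n : ℤ, n < 0 → 𝒜 n = ⊥) (h0R : 𝒜 0 = Submodule.span k {(1 : R)})
    (hposS : ∀ n : ℤ, n < 0 → ℬ n = ⊥) (h0S : ℬ 0 = Submodule.span k {(1 : S)})
    {D : ℤ} (hD : 0 < D) (x : Fin r → R) (hx : ∀ i, x i ∈ 𝒜 D)
    (hxr : irr 𝒜 ≤ (Module.annihilator R M ⊔ Ideal.span (Set.range x)).radical)
    (y : Fin s → S) (hy : ∀ i, y i ∈ ℬ D)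
    (hyr : irr ℬ ≤ (Module.annihilator S N ⊔ Ideal.span (Set.range y)).radical) :
    Module.Finite (Algebra.adjoin k (Set.range (zz hT hx hy))) P := by
  haveI : IsNoetherianRing T := isNoetherianRing_segreRing hT
  haveI : IsNoetherian T P := isNoetherian_segreMod hT hP
  haveI : SetLike.GradedSMul 𝒯 𝒬 := gradedSMul hT hP
  exact FinDim.finite_adjoin 𝒯 𝒬 (hposT hT hposR) (h0T hT h0R h0S) hD (zz hT hx hy)
    (zz_mem hT hx hy) (irr_le_radical_zz hT hP hposR h0R hposS h0S x hx hxr y hy hyr)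

theorem supportDim_le [Algebra.FiniteType k R] [Algebra.FiniteType k S]
    [Module.Finite R M] [Module.Finite S N]
    (hT : GrSeg.IsSegreRing 𝒜 ℬ 𝒯 ψ) (hP : GrSeg.IsSegreMod ψ ℳ 𝒩 𝒬 φ)
    (hposR : ∀ n : ℤ, n < 0 → 𝒜 n = ⊥) (h0R : 𝒜 0 = Submodule.span k {(1 : R)})
    (hposS : ∀ n : ℤ, n < 0 → ℬ n = ⊥) (h0S : ℬ 0 = Submodule.span k {(1 : S)})
    {D : ℤ} (hD : 0 < D) (x : Fin r → R) (hx : ∀ i, x i ∈ 𝒜 D)
    (hxr : irr 𝒜 ≤ (Module.annihilator R M ⊔ Ideal.span (Set.range x)).radical)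
    (y : Fin s → S) (hy : ∀ i, y i ∈ ℬ D)
    (hyr : irr ℬ ≤ (Module.annihilator S N ⊔ Ideal.span (Set.range y)).radical) :
    Module.supportDim T P ≤ ((r + s - 1 : ℕ) : WithBot ℕ∞) := by
  haveI := finite_adjoin_zz hT hP hposR h0R hposS h0S hD x hx hxr y hy hyr
  have := Dim.supportDim_le_card (k := k) (M := P) (zz hT hx hy)
  simpa using this

end Segre

end K961.SegDim
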