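import Groth.Agent.GrSegre.K961.SegDim2

/-!
# Dimension of Segre products over standard graded rings
-/

set_option autoImplicit false
set_option linter.unusedSectionVars false
set_option linter.style.haveILetI false

open K961.Irr K962.Basic K962.Pieces DirectSum

namespace K961.SegStd

universe u

variable {k : Type u} [Field k] {R : Type u} [CommRing R] [Algebra k R]
  {𝒜 : ℤ → Submodule k R} [GradedAlgebra 𝒜]
  {M : Type u} [AddCommGroup M] [Module R M] [Module k M] [IsScalarTower k R M]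
  {ℳ : ℤ → Submodule k M} [DirectSum.Decomposition ℳ] [SetLike.GradedSMul 𝒜 ℳ]

include 𝒜 in
/-- In a standard graded ring, the degree of a homogeneous element which is free over the parameter
algebra can be raised by one. -/
theorem exists_free_succ (hstd : irr 𝒜 = Ideal.span ((𝒜 1 : Submodule k R) : Set R)) {D : ℤ}
    (hD : 0 < D) {r : ℕ} (x : Fin (r + 1) → R) (hx : ∀ i, x i ∈ 𝒜 D) {a : ℤ} {m : M}
    (hm : m ∈ ℳ a) (hfree : ∀ F : MvPolynomial (Fin (r + 1)) k, MvPolynomial.aeval x F • m = 0 → F = 0) :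
    ∃ m' ∈ ℳ (a + 1), ∀ F : MvPolynomial (Fin (r + 1)) k, MvPolynomial.aeval x F • m' = 0 → F = 0 := by
  by_contra hcon
  push Not at hcon
  have key : ∀ z ∈ Ideal.span ((𝒜 1 : Submodule k R) : Set R),
      ∃ F : MvPolynomial (Fin (r + 1)) k, F ≠ 0 ∧ MvPolynomial.aeval x F • z • m = 0 := by
    intro z hz
    refine Submodule.span_induction (p := fun z _ => ∃ F : MvPolynomial (Fin (r + 1)) k, F ≠ 0 ∧
      MvPolynomial.aeval x F • z • m = 0) ?_ ?_ ?_ ?_ hz
    · intro l hl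
      obtain ⟨F, hF, hF0⟩ := hcon (l • m) (by
        rw [add_comm]
        exact SetLike.GradedSMul.smul_mem (A := 𝒜) (B := ℳ) hl hm)
      exact ⟨F, hF0, hF⟩
    · exact ⟨1, one_ne_zero, by rw [zero_smul, smul_zero]⟩
    · rintro a b - - ⟨F, hF, hFa⟩ ⟨G, hG, hGb⟩
      refine ⟨F * G, mul_ne_zero hF hG, ?_⟩
      rw [add_smul, smul_add, map_mul]
      conv_lhs => enter [1]; rw [mul_comm, mul_smul, hFa, smul_zero]
      rw [mul_smul, hGb, smul_zero, add_zero]
    · rintro c a - ⟨F, hF, hFa⟩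
      refine ⟨F, hF, ?_⟩
      rw [smul_eq_mul, mul_smul, smul_comm _ c, hFa, smul_zero]
  have h0 : x 0 ∈ Ideal.span ((𝒜 1 : Submodule k R) : Set R) := by
    rw [← hstd]
    exact mem_irr_of_mem 𝒜 hD (hx 0)
  obtain ⟨F, hF, hFm⟩ := key _ h0
  have := hfree (F * MvPolynomial.X 0) (by
    rw [map_mul, MvPolynomial.aeval_X, mul_smul, hFm])
  exact mul_ne_zero hF (MvPolynomial.X_ne_zero 0) this

include 𝒜 in
theorem exists_free_le (hstd : irr 𝒜 = Ideal.span ((𝒜 1 : Submodule k R) : Set R)) {D : ℤ}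
    (hD : 0 < D) {r : ℕ} (x : Fin (r + 1) → R) (hx : ∀ i, x i ∈ 𝒜 D) {a : ℤ} {m : M}
    (hm : m ∈ ℳ a) (hfree : ∀ F : MvPolynomial (Fin (r + 1)) k, MvPolynomial.aeval x F • m = 0 → F = 0)
    (b : ℤ) (hab : a ≤ b) :
    ∃ m' ∈ ℳ b, ∀ F : MvPolynomial (Fin (r + 1)) k, MvPolynomial.aeval x F • m' = 0 → F = 0 := by
  obtain ⟨t, rfl⟩ : ∃ t : ℕ, b = a + t := ⟨(b - a).toNat, by omega⟩
  clear hab
  induction t with
  | zero => exact ⟨m, by simpa using hm, hfree⟩
  | succ t ih =>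
    obtain ⟨m', hm', hfree'⟩ := ih
    obtain ⟨m'', hm'', hfree''⟩ := exists_free_succ hstd hD x hx hm' hfree'
    refine ⟨m'', ?_, hfree''⟩
    rwa [Nat.cast_succ, ← add_assoc]

include 𝒜 in
/-- a finite graded module of dimension zero is Artinian. -/
theorem isArtinian_of_supportDim_le_zero [IsNoetherianRing R] [Module.Finite R M]
    (hpos : ∀ n : ℤ, n < 0 → 𝒜 n = ⊥) (h0 : 𝒜 0 = Submodule.span k {(1 : R)})
    (ℳ : ℤ → Submodule k M) [DirectSum.Decomposition ℳ] [SetLike.GradedSMul 𝒜 ℳ]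
    (hd : Module.supportDim R M ≤ 0) : IsArtinian R M := by
  obtain ⟨D₀, hD₀, h⟩ := SegDim2.exists_params 𝒜 ℳ hpos h0 0 (by simpa using hd)
  obtain ⟨x, hx, hxr⟩ := h 1 one_pos
  have hD : (0 : ℤ) < ((1 * D₀ : ℕ) : ℤ) := by exact_mod_cast Nat.mul_pos one_pos hD₀
  have h1 := FinDim.finite_quotient (M := M) 𝒜 hpos h0 _ hxr
  have h2 : (Ideal.span (Set.range x)) • (⊤ : Submodule R M) = ⊥ := by
    rw [Set.range_eq_empty, Ideal.span_empty, Submodule.bot_smul]
  rw [h2] at h1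
  have h3 : Module.Finite k M := by
    refine Module.Finite.of_surjective
      ((Submodule.quotEquivOfEqBot (⊥ : Submodule R M) rfl).toLinearMap.restrictScalars k) ?_
    exact (Submodule.quotEquivOfEqBot (⊥ : Submodule R M) rfl).surjective
  exact isArtinian_of_tower k inferInstance

end K961.SegStd
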