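import Groth.Agent.GrLC.K760.Bass0
import Groth.Agent.LocCoh.K162.ExtVan
import Groth.Agent.EGA41.K104.ReesIso
import Groth.Agent.GrLC.K759.AcycInj

/-!
# The socle of `M / (x) M` and the socle of `H^n_m(M)`
-/

set_option autoImplicit false
set_option linter.unusedSectionVars false
universe u

open CategoryTheory Abelian

namespace K961.SocEq

variable {R : Type u} [CommRing R] [IsNoetherianRing R]

/-- If `rs` is an `M`-regular sequence in `m` of length `n` and `H^i_m(M) = 0` for `i < n`, then the socles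
of `M / (rs) M` and of `H^n_m(M)` are isomorphic. -/
theorem nonempty_equiv (m : Ideal R) (M : Type u) [AddCommGroup M] [Module R M] (rs : List R)
    (hrs : ∀ x ∈ rs, x ∈ m) (hreg : RingTheory.Sequence.IsWeaklyRegular M rs)
    (h : ∀ i, i < rs.length → Subsingleton (LocCoh.H m i M)) :
    Nonempty (Submodule.torsionBySet R (M ⧸ (Ideal.ofList rs • (⊤ : Submodule R M))) (m : Set R) ≃ₗ[R]
      Submodule.torsionBySet R (LocCoh.H m rs.length M) (m : Set R)) := by
  obtain ⟨e1⟩ := K104.ReesIso.ext_equiv (ModuleCat.of R (R ⧸ m)) rs (ModuleCat.of R M)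
    (fun x hx => by
      rw [Module.mem_annihilator]
      intro y
      obtain ⟨y, rfl⟩ := Ideal.Quotient.mk_surjective y
      rw [← Ideal.Quotient.mk_eq_mk, ← Submodule.Quotient.mk_smul]
      exact (Submodule.Quotient.mk_eq_zero m).2 (m.mul_mem_right _ (hrs x hx))) hreg
  have hk1 : ∀ a ∈ m ^ 1, ∀ x : R ⧸ m, a • x = 0 := by
    intro a ha x
    rw [pow_one] at ha
    obtain ⟨x, rfl⟩ := Ideal.Quotient.mk_surjective x
    rw [← Ideal.Quotient.mk_eq_mk, ← Submodule.Quotient.mk_smul]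
    exact (Submodule.Quotient.mk_eq_zero m).2 (m.mul_mem_right _ ha)
  let e2 := K162.ExtVan.homEquiv m M rs.length h (R ⧸ m) 1 hk1
  exact ⟨(K760.Bass0.ext0Equiv m (M ⧸ (Ideal.ofList rs • (⊤ : Submodule R M)))).symm ≪≫ₗ e1 ≪≫ₗ e2 ≪≫ₗ
    K760.Bass0.homQuotEquiv m (LocCoh.H m rs.length M)⟩

variable {ι : Type} [AddCommGroup ι] [DecidableEq ι] {σ : Type u} [SetLike σ R] [AddSubgroupClass σ R]
  {𝒜 : ι → σ} [GradedRing 𝒜]
  {M : Type u} [AddCommGroup M] [Module R M] {τ : Type u} [SetLike τ M]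
  [AddSubgroupClass τ M] {ℳ : ι → τ} [DirectSum.Decomposition ℳ] [SetLike.GradedSMul 𝒜 ℳ]

/-- The same for graded local cohomology. -/
theorem nonempty_equiv_gr (E : GrLC.StarInjRes 𝒜 ℳ) (a : HomogeneousIdeal 𝒜) (rs : List R) (n : ℕ)
    (hn : rs.length = n)
    (hrs : ∀ x ∈ rs, x ∈ a.toIdeal) (hreg : RingTheory.Sequence.IsWeaklyRegular M rs)
    (h : ∀ i, i < n → Subsingleton (LocCoh.H a.toIdeal i M)) :
    Nonempty (Submodule.torsionBySet R (M ⧸ (Ideal.ofList rs • (⊤ : Submodule R M))) (a.toIdeal : Set R) ≃ₗ[R]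
      Submodule.torsionBySet R (E.H a n) (a.toIdeal : Set R)) := by
  subst hn
  obtain ⟨e1⟩ := nonempty_equiv a.toIdeal M rs hrs hreg h
  obtain ⟨e2⟩ := K759.AcycInj.nonempty_equiv E a rs.length
  exact ⟨e1 ≪≫ₗ K760.Bass0.torsionCongr e2.symm _⟩

end K961.SocEq
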