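import Groth.Agent.GrSegre.K961.Irr
import Groth.Agent.GrSegre.K962.Pieces
import Mathlib.LinearAlgebra.Dimension.FreeAndStrongRankCondition
import Mathlib.LinearAlgebra.FiniteDimensional.Lemmas
import Mathlib.Algebra.Module.Torsion.Basic

/-!
# Socles of graded modules bounded above
-/

set_option autoImplicit false
set_option linter.unusedSectionVars false

open K961.Irr K962.Basic K962.Pieces

namespace K961.SocGr

universe u

variable {k : Type u} [Field k] {R : Type u} [CommRing R] [Algebra k R] {𝒜 : ℤ → Submodule k R}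
  [GradedAlgebra 𝒜]
  {W : Type u} [AddCommGroup W] [Module R W] [Module k W] [IsScalarTower k R W]
  {𝒲 : ℤ → Submodule k W} [DirectSum.Decomposition 𝒲] [SetLike.GradedSMul 𝒜 𝒲]

variable (𝒜 W) in
/-- The socle. -/
abbrev soc : Submodule R W := Submodule.torsionBySet R W (irr 𝒜 : Set R)

theorem mem_soc_iff {x : W} : x ∈ soc 𝒜 W ↔ ∀ a ∈ irr 𝒜, a • x = 0 := by
  rw [Submodule.mem_torsionBySet_iff]
  exact ⟨fun h a ha => h ⟨a, ha⟩, fun h a => h a a.2⟩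

theorem mem_soc_iff_homog {x : W} : x ∈ soc 𝒜 W ↔ ∀ i : ℤ, 0 < i → ∀ a ∈ 𝒜 i, a • x = 0 := by
  rw [mem_soc_iff]
  constructor
  · intro h i hi a ha
    exact h a (mem_irr_of_mem 𝒜 hi ha)
  · intro h a ha
    have h1 : irr 𝒜 ≤ Module.annihilator R (Submodule.span R {x}) := by
      rw [irr_le_iff]
      intro i hi a ha
      rw [Submodule.mem_annihilator_span_singleton]
      exact h i hi a ha
    exact (Submodule.mem_annihilator_span_singleton x a).mp (h1 ha)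

theorem smul_mem_piece {i j : ℤ} {a : R} (ha : a ∈ 𝒜 i) {x : W} (hx : x ∈ 𝒲 j) : a • x ∈ 𝒲 (i + j) :=
  SetLike.GradedSMul.smul_mem (A := 𝒜) (B := 𝒲) ha hx

/-- Components of socle elements are in the socle. -/
theorem pr_mem_soc {x : W} (hx : x ∈ soc 𝒜 W) (n : ℤ) : pr 𝒲 n x ∈ soc 𝒜 W := by
  rw [mem_soc_iff_homog] at hx ⊢
  intro i hi a ha
  rw [← pr_smul 𝒜 𝒲 ha, hx i hi a ha, map_zero]

/-- The top piece lies in the socle. -/
theorem mem_soc_of_top {a : ℤ} (htop : ∀ n, a < n → 𝒲 n = ⊥) {x : W} (hx : x ∈ 𝒲 a) : x ∈ soc 𝒜 W := by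
  rw [mem_soc_iff_homog]
  intro i hi r hr
  have h1 := smul_mem_piece (𝒲 := 𝒲) hr hx
  rw [htop _ (by omega)] at h1
  exact (Submodule.mem_bot k).mp h1

/-- If the nonzero homogeneous elements below the top degree `c` can be multiplied nontrivially into the top
piece, the socle is the top piece. -/
theorem mem_soc_iff_mem_top {c : ℤ} (htop : ∀ n, c < n → 𝒲 n = ⊥)
    (hnd : ∀ n, n < c → ∀ u ∈ 𝒲 n, u ≠ 0 → ∃ r ∈ 𝒜 (c - n), r • u ≠ 0) {x : W} :
    x ∈ soc 𝒜 W ↔ x ∈ 𝒲 c := by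
  refine ⟨fun hx => ?_, mem_soc_of_top htop⟩
  have key : ∀ n, n ≠ c → pr 𝒲 n x = 0 := by
    intro n hn
    rcases lt_or_gt_of_ne hn with h | h
    · by_contra h0
      obtain ⟨r, hr, hr0⟩ := hnd n h _ (pr_mem 𝒲 n x) h0
      exact hr0 ((mem_soc_iff_homog.mp (pr_mem_soc (𝒲 := 𝒲) hx n)) _ (by omega) r hr)
    · have h1 := pr_mem 𝒲 n x
      rw [htop n h] at h1
      exact (Submodule.mem_bot k).mp h1
  obtain ⟨s, hs, -⟩ := exists_finset_sum_pr 𝒲 x
  rw [hs]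
  refine Submodule.sum_mem _ fun n _ => ?_
  by_cases hn : n = c
  · subst hn; exact pr_mem 𝒲 n x
  · rw [key n hn]; exact zero_mem _

/-- A nonzero homogeneous element of a module bounded above has a nonzero homogeneous multiple in the
socle. -/
theorem exists_mem_soc {a : ℤ} (htop : ∀ n, a < n → 𝒲 n = ⊥) {n : ℤ} {u : W} (hu : u ∈ 𝒲 n) (hu0 : u ≠ 0) :
    ∃ e : ℤ, n ≤ e ∧ ∃ r ∈ 𝒜 (e - n), r • u ≠ 0 ∧ r • u ∈ 𝒲 e ∧ r • u ∈ soc 𝒜 W := by
  -- the largest degree in which there is a nonzero multiple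
  have hP : ∃ e : ℤ, (n ≤ e ∧ ∃ r ∈ 𝒜 (e - n), r • u ≠ 0) ∧
      ∀ e' : ℤ, (n ≤ e' ∧ ∃ r ∈ 𝒜 (e' - n), r • u ≠ 0) → e' ≤ e := by
    refine Int.exists_greatest_of_bdd ⟨a, ?_⟩ ⟨n, le_rfl, 1, ?_, ?_⟩
    · rintro e ⟨he, r, hr, hr0⟩
      by_contra hlt
      have h1 := smul_mem_piece (𝒲 := 𝒲) hr hu
      rw [htop _ (by omega)] at h1
      exact hr0 ((Submodule.mem_bot k).mp h1)
    · rw [sub_self]; exact SetLike.one_mem_graded 𝒜
    · rwa [one_smul]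
  obtain ⟨e, ⟨hne, r, hr, hr0⟩, hmax⟩ := hP
  refine ⟨e, hne, r, hr, hr0, ?_, ?_⟩
  · have := smul_mem_piece (𝒲 := 𝒲) hr hu
    rwa [sub_add_cancel] at this
  · rw [mem_soc_iff_homog]
    intro i hi b hb
    by_contra h0
    have h1 := hmax (e + i) ⟨by omega, b * r, ?_, ?_⟩
    · omega
    · have := SetLike.mul_mem_graded hb hr
      have h2 : i + (e - n) = e + i - n := by ring
      rwa [h2] at this
    · rwa [mul_smul]

/-- A one-dimensional socle is the top piece, and the pairing with the top piece is nondegenerate. -/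
theorem nondeg_of_finrank_soc {a : ℤ} (htop : ∀ n, a < n → 𝒲 n = ⊥) (ha : 𝒲 a ≠ ⊥)
    (hsoc : Module.finrank k (soc 𝒜 W) = 1) :
    Module.finrank k (𝒲 a) = 1 ∧ ∀ n, ∀ u ∈ 𝒲 n, u ≠ 0 → ∃ r ∈ 𝒜 (a - n), r • u ≠ 0 := by
  obtain ⟨w, hw, hw0⟩ := Submodule.exists_mem_ne_zero_of_ne_bot ha
  have hws := mem_soc_of_top (𝒜 := 𝒜) htop hw
  have hspan : ∀ x ∈ soc 𝒜 W, ∃ c : k, c • w = x := by
    intro x hx
    have h1 := (finrank_eq_one_iff_of_nonzero' (⟨w, hws⟩ : soc 𝒜 W)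
      (fun h => hw0 (congrArg Subtype.val h))).mp hsoc ⟨x, hx⟩
    obtain ⟨c, hc⟩ := h1
    exact ⟨c, congrArg Subtype.val hc⟩
  constructor
  · refine finrank_eq_one (⟨w, hw⟩ : 𝒲 a) (fun h => hw0 (congrArg Subtype.val h)) ?_
    rintro ⟨x, hx⟩
    obtain ⟨c, hc⟩ := hspan x (mem_soc_of_top htop hx)
    exact ⟨c, Subtype.ext hc⟩
  · intro n u hu hu0
    obtain ⟨e, -, r, hr, hr0, hre, hrs⟩ := exists_mem_soc (𝒜 := 𝒜) htop hu hu0
    obtain ⟨c, hc⟩ := hspan _ hrs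
    have he : e = a := by
      by_contra hne
      have h1 : r • u ∈ 𝒲 a := by rw [← hc]; exact Submodule.smul_mem _ _ hw
      have h2 := pr_of_mem 𝒲 hre
      rw [pr_of_mem_ne 𝒲 h1 (Ne.symm hne)] at h2
      exact hr0 h2.symm
    subst he
    exact ⟨r, hr, hr0⟩

end K961.SocGr
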