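import Groth.Agent.GrSegre.K961.EndNeg
import Groth.Agent.GrSegre.K961.PolyOne
import Groth.Agent.GrLC.K763.SurjTop
import Groth.Agent.GrLC.K963.Dec

/-!
# Standard graded Cohen–Macaulay rings of dimension `≥ 2`: pieces of the top local cohomology
-/

set_option autoImplicit false
set_option linter.unusedSectionVars false
set_option linter.style.haveILetI false

open GrLC K961.Irr K762.Base K963.Iface

namespace K961.TwoDim

universe u

variable {k : Type u} [Field k] {R : Type u} [CommRing R] [Algebra k R]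
  {𝒜 : ℤ → Submodule k R} [GradedAlgebra 𝒜]

variable (𝒜) in
/-- the grading by additive subgroups -/
def asg : ℤ → AddSubgroup R := fun n => (𝒜 n).toAddSubgroup

variable (𝒜) in
/-- the decomposition -/
@[reducible] noncomputable def asgDec : DirectSum.Decomposition (asg 𝒜) :=
  K963.Dec.ofProj (asg 𝒜) (fun g x => pr 𝒜 g x) (fun g x => pr_mem (ℳ := 𝒜) g x)
    (fun g x y => pr_add g x y)
    (fun _ _ _ hx hgh => pr_of_mem_ne (ℳ := 𝒜) hx hgh) (fun x => by
      classical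
      refine ⟨DFinsupp.support (DirectSum.decompose 𝒜 x), fun g hg => ?_, ?_⟩
      · rw [DFinsupp.notMem_support_iff] at hg
        simp only [pr]
        rw [hg]
        rfl
      · exact (DirectSum.sum_support_decompose 𝒜 x).symm)

variable (𝒜) in
/-- the graded ring -/
@[reducible] noncomputable def asgGr : GradedRing (asg 𝒜) :=
  { asgDec 𝒜 with
    one_mem := SetLike.one_mem_graded 𝒜
    mul_mem := fun _ _ _ _ ha hb => SetLike.mul_mem_graded (A := 𝒜) ha hb }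

theorem exists_pencil [LocCoh.IsCohenMacaulayRing R] {m : Ideal R} (h : PosField k 𝒜 m) {n : ℕ}
    (hn : ringKrullDim R = n) (h2 : 2 ≤ n) {q : ℕ} (hq : 0 < q) :
    ∃ D : ℤ, 0 < D ∧ (q : ℤ) ∣ D ∧ ∃ s t : R, s ∈ 𝒜 D ∧ t ∈ 𝒜 D ∧
      ∀ α β : k, (α ≠ 0 ∨ β ≠ 0) → α • s + β • t ∈ nonZeroDivisors R := by
  letI := asgGr 𝒜
  have h' : PosField k (asg 𝒜) m :=
    { pos := fun i hi x hx => h.pos i hi x hx
      alg := fun c => h.alg c
      surj := fun x hx => h.surj x hx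
      span := h.span }
  exact K763.SurjTop.exists_pencil h' hn h2 hq

variable {m : HomogeneousIdeal 𝒜} {n : ℕ}

/-- Products of elements of degree `j` act on the top piece like a power of one element, when the piece of degree
`a - j` is spanned by one element. -/
theorem pow_line (hstd : Ideal.span (⋃ n ∈ Set.Ioi (0 : ℤ), (𝒜 n : Set R)) =
      Ideal.span ((𝒜 1 : Submodule k R) : Set R))
    (E : StarInjRes 𝒜 𝒜) [Module k (E.H m n)] [IsScalarTower k R (E.H m n)] (lam : E.H m n →ₗ[k] k)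
    {a : ℤ} {j : ℕ} {y : R} (hy : ∀ x ∈ 𝒜 (j : ℤ), ∃ α : k, ∀ u ∈ E.Hcomp m n (a - j), lam (x • u) = α * lam (y • u))
    (hyj : y ∈ 𝒜 (j : ℤ)) (e : ℕ) :
    ∀ x ∈ 𝒜 (((e + 1) * j : ℕ) : ℤ), ∃ α : k, ∀ u ∈ E.Hcomp m n (a - ((e + 1) * j : ℕ)),
      lam (x • u) = α * lam (y ^ (e + 1) • u) := by
  haveI := Hgsmul E m n
  have hsm : ∀ {i l i' : ℤ} {x : R} {u : E.H m n}, x ∈ 𝒜 i → u ∈ E.Hcomp m n l → i + l = i' →
      x • u ∈ E.Hcomp m n i' := by
    rintro i l i' x u hx hu rfl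
    exact SetLike.GradedSMul.smul_mem (A := 𝒜) (B := E.Hgr m n) hx (show u ∈ E.Hgr m n l from hu)
  induction e with
  | zero =>
    intro x hx
    obtain ⟨α, hα⟩ := hy x (by simpa using hx)
    refine ⟨α, fun u hu => ?_⟩
    rw [zero_add, pow_one]
    exact hα u (by simpa using hu)
  | succ e ih =>
    intro x hx
    have hx' : x ∈ 𝒜 ((j : ℤ) + (((e + 1) * j : ℕ) : ℤ)) := by
      convert hx using 2
      push_cast; ring
    have h1 := PolyOne.mem_span_mul hstd j (n := (((e + 1) * j : ℕ) : ℤ)) (by positivity) hx'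
    refine Submodule.span_induction (p := fun x _ => ∃ α : k, ∀ u ∈ E.Hcomp m n (a - ((e + 1 + 1) * j : ℕ)),
      lam (x • u) = α * lam (y ^ (e + 1 + 1) • u)) ?_ ?_ ?_ ?_ h1
    · rintro _ ⟨s, hs, t, ht, rfl⟩
      obtain ⟨α, hα⟩ := ih t ht
      obtain ⟨β, hβ⟩ := hy s hs
      refine ⟨α * β, fun u hu => ?_⟩
      have h2 : s • u ∈ E.Hcomp m n (a - ((e + 1) * j : ℕ)) := hsm hs hu (by push_cast; ring)
      have h3 : y ^ (e + 1) • u ∈ E.Hcomp m n (a - j) :=
        hsm (SetLike.pow_mem_graded (A := 𝒜) (e + 1) hyj) hu (by push_cast; simp only [nsmul_eq_mul]; push_cast; ring)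
      rw [mul_comm s t, mul_smul, hα _ h2, smul_comm, hβ _ h3, ← mul_smul, pow_succ' y (e + 1), mul_assoc]
    · exact ⟨0, fun u _ => by rw [zero_smul, map_zero, zero_mul]⟩
    · rintro x y' _ _ ⟨α, hα⟩ ⟨β, hβ⟩
      exact ⟨α + β, fun u hu => by rw [add_smul, map_add, hα u hu, hβ u hu, add_mul]⟩
    · rintro c x _ ⟨α, hα⟩
      exact ⟨c * α, fun u hu => by rw [smul_assoc, map_smul, hα u hu, smul_eq_mul, mul_assoc]⟩

/-- **Pieces of the top local cohomology of a standard graded Cohen–Macaulay ring of dimension `≥ 2`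
are not spanned by one element below a nonzero piece.** -/
theorem not_span [LocCoh.IsCohenMacaulayRing R] (h : PosField k 𝒜 m.toIdeal)
    (hstd : Ideal.span (⋃ n ∈ Set.Ioi (0 : ℤ), (𝒜 n : Set R)) = Ideal.span ((𝒜 1 : Submodule k R) : Set R))
    (hn : ringKrullDim R = n) (h2 : 2 ≤ n) (E : StarInjRes 𝒜 𝒜) {a : ℤ} {u₀ : E.H m n}
    (hu₀ : u₀ ∈ E.Hcomp m n a) (hu0 : u₀ ≠ 0) {i : ℤ} (hi : i < a) (u₁ : E.H m n) (hu₁ : u₁ ∈ E.Hcomp m n i) :
    ¬ ∀ u ∈ E.Hcomp m n i, ∃ c : k, u = algebraMap k R c • u₁ := by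
  intro hcon
  obtain ⟨j, rfl⟩ : ∃ j : ℕ, i = a - j := ⟨(a - i).toNat, by omega⟩
  have hj : 0 < j := by omega
  letI := PerfSeg.kmod (k := k) (R := R) (E.H m n)
  haveI := PerfSeg.kmod_tower (k := k) (R := R) (E.H m n)
  haveI := Hgsmul E m n
  letI := Hdec E m n
  haveI : IsNoetherianRing R := inferInstance
  obtain ⟨lam, hlam⟩ : ∃ f : Module.Dual k (E.H m n), f u₀ ≠ 0 := by
    by_contra hc
    push Not at hc
    exact hu0 ((Module.forall_dual_apply_eq_zero_iff k u₀).mp hc)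
  -- the line
  obtain ⟨y, hyj, hy⟩ : ∃ y ∈ 𝒜 (j : ℤ), ∀ x ∈ 𝒜 (j : ℤ), ∃ α : k, ∀ u ∈ E.Hcomp m n (a - j),
      lam (x • u) = α * lam (y • u) := by
    by_cases hall : ∀ x ∈ 𝒜 (j : ℤ), lam (x • u₁) = 0
    · refine ⟨0, zero_mem _, fun x hx => ⟨0, fun u hu => ?_⟩⟩
      obtain ⟨c, rfl⟩ := hcon u hu
      rw [algebraMap_smul, smul_comm, lam.map_smul c (x • u₁), hall x hx, smul_zero, zero_mul]
    · push Not at hall
      obtain ⟨y, hy, hy0⟩ := hall
      refine ⟨y, hy, fun x hx => ⟨lam (x • u₁) * (lam (y • u₁))⁻¹, fun u hu => ?_⟩⟩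
      obtain ⟨c, rfl⟩ := hcon u hu
      rw [algebraMap_smul, smul_comm, lam.map_smul c (x • u₁), smul_comm y, lam.map_smul c (y • u₁), smul_eq_mul,
        smul_eq_mul]
      field_simp
  -- the pencil
  obtain ⟨D', hD'pos, ⟨e', he'⟩, s, t, hs, ht, hst⟩ := exists_pencil h hn h2 (q := j) hj
  have he'pos : 0 < e' := by
    by_contra hneg
    have : (j : ℤ) * e' ≤ 0 := mul_nonpos_of_nonneg_of_nonpos (by positivity) (by omega)
    omega
  obtain ⟨e, rfl⟩ : ∃ e : ℕ, e' = ((e + 1 : ℕ) : ℤ) := ⟨(e' - 1).toNat, by push_cast; omega⟩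
  have he'' : D' = (((e + 1) * j : ℕ) : ℤ) := by rw [he']; push_cast; ring
  subst he''
  have hl := pow_line hstd E lam hy hyj e
  obtain ⟨α, hα⟩ := hl s hs
  obtain ⟨β, hβ⟩ := hl t ht
  obtain ⟨ec⟩ := K759.AcycInj.nonempty_equiv E m n
  -- no nonzerodivisor kills everything
  have key : ∀ g ∈ nonZeroDivisors R, g ∈ 𝒜 (((e + 1) * j : ℕ) : ℤ) →
      ¬ ∀ u ∈ E.Hcomp m n (a - ((e + 1) * j : ℕ)), lam (g • u) = 0 := by
    intro g hg hgD hall
    obtain ⟨x, hx⟩ := K763.SurjTop.exists_smul_eq m.toIdeal n hn g hg (ec u₀)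
    have hx' : g • ec.symm x = u₀ := by
      apply ec.injective
      rw [map_smul, LinearEquiv.apply_symm_apply, hx]
    apply hlam
    rw [← pr_of_mem (ℳ := E.Hgr m n) (show u₀ ∈ E.Hgr m n a from hu₀), ← hx',
      K762.Base.pr_smul (𝒜 := 𝒜) hgD]
    exact hall _ (pr_mem (ℳ := E.Hgr m n) _ _)
  have hsm : ∀ (c d : k), c • s + d • t ∈ 𝒜 (((e + 1) * j : ℕ) : ℤ) := fun c d =>
    add_mem (Submodule.smul_mem _ _ hs) (Submodule.smul_mem _ _ ht)
  by_cases h0 : α = 0 ∧ β = 0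
  · refine key ((1 : k) • s + (0 : k) • t) (hst 1 0 (Or.inl one_ne_zero)) (hsm _ _) fun u hu => ?_
    rw [one_smul, zero_smul, add_zero, hα u hu, h0.1, zero_mul]
  · refine key (β • s + (-α) • t) (hst β (-α) ?_) (hsm _ _) fun u hu => ?_
    · by_contra hc
      push Not at hc
      exact h0 ⟨by simpa using hc.2, hc.1⟩
    · rw [add_smul, map_add, smul_assoc, smul_assoc, lam.map_smul β (s • u), lam.map_smul (-α) (t • u), hα u hu,
        hβ u hu, smul_eq_mul, smul_eq_mul]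
      ring

end K961.TwoDim
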